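import Groth.Agent.PairHensLib.Construction
import Groth.Agent.HenselLib.Criteria
import Mathlib.RingTheory.Flat.EquationalCriterion
import Mathlib.RingTheory.Etale.StandardEtale
import Mathlib.RingTheory.AdicCompletion.Basic
import Mathlib.Tactic.Ring

/-! Flatness of pair henselizations, and their truncations. -/

set_option autoImplicit false
set_option maxHeartbeats 1000000
universe u

noncomputable section

open TensorProduct

namespace PairHensLib

namespace Step

variable {A : Type u} [CommRing A] {Ω : Type u} [CommRing Ω] (θ : A →+* Ω)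

/-- Finitely many roots live in an étale algebra. -/
theorem exists_etale_stage (s : Finset (Idx θ)) :
    ∃ (U : Type u) (_ : CommRing U) (_ : Algebra A U) (_ : Algebra.Etale A U)
      (φ : MvPolynomial (Idx θ) A →ₐ[A] U) (ξ : U →ₐ[A] Next θ),
      ∀ i ∈ s, φ (rel θ i) = 0 ∧ ξ (φ (MvPolynomial.X i)) = root θ i := by
  classical
  induction s using Finset.induction_on with
  | empty =>
    exact ⟨A, inferInstance, inferInstance, inferInstance, MvPolynomial.aeval fun _ => (0 : A),
      Algebra.ofId A (Next θ), by simp⟩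
  | @insert i s hi ih =>
    obtain ⟨U, _, _, _, φ, ξ, hU⟩ := ih
    let P := HenselLib.rootPair (i.1.1.map (algebraMap A U)) (i.2.1.map _)
    letI : Algebra U (Next θ) := ξ.toRingHom.toAlgebra
    haveI : IsScalarTower A U (Next θ) := IsScalarTower.of_algebraMap_eq fun a => (ξ.commutes a).symm
    have hm : P.HasMap (root θ i) := by
      refine ⟨?_, ?_⟩
      · rw [show P.f = i.1.1.map (algebraMap A U) from rfl, Polynomial.aeval_map_algebraMap]
        exact aeval_root θ i
      · rw [show P.g = Polynomial.derivative (i.1.1.map (algebraMap A U)) from rfl, Polynomial.derivative_map,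
          Polynomial.aeval_map_algebraMap]
        exact isUnit_derivative_root θ i
    letI : Algebra A P.Ring := ((algebraMap U P.Ring).comp (algebraMap A U)).toAlgebra
    haveI : IsScalarTower A U P.Ring := IsScalarTower.of_algebraMap_eq' rfl
    haveI : Algebra.Etale A P.Ring := Algebra.Etale.comp A U P.Ring
    let φ' : MvPolynomial (Idx θ) A →ₐ[A] P.Ring :=
      MvPolynomial.aeval fun j => if j = i then P.X else algebraMap U P.Ring (φ (MvPolynomial.X j))
    refine ⟨P.Ring, inferInstance, inferInstance, inferInstance, φ', (P.lift _ hm).restrictScalars A, fun j hj => ?_⟩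
    have hrel : φ' (rel θ j) = Polynomial.aeval (φ' (MvPolynomial.X j)) j.1.1 :=
      (Polynomial.aeval_algHom_apply φ' _ _).symm
    rcases eq_or_ne j i with rfl | hne
    · have hX : φ' (MvPolynomial.X j) = P.X := by simp [φ']
      refine ⟨?_, ?_⟩
      · rw [hrel, hX, ← Polynomial.aeval_map_algebraMap U]
        exact (StandardEtalePair.hasMap_X (P := P)).1
      · rw [hX]
        exact P.lift_X _ hm
    · have hjs : j ∈ s := (Finset.mem_insert.1 hj).resolve_left hne
      have hX : φ' (MvPolynomial.X j) = algebraMap U P.Ring (φ (MvPolynomial.X j)) := by simp [φ', hne]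
      refine ⟨?_, ?_⟩
      · rw [hrel, hX, Polynomial.aeval_algebraMap_apply, Polynomial.aeval_algHom_apply,
          show φ (Polynomial.aeval (MvPolynomial.X j) j.1.1) = φ (rel θ j) from rfl, (hU j hjs).1, map_zero]
      · rw [hX]
        exact ((P.lift _ hm).commutes _).trans (hU j hjs).2

theorem ξ_φ_eq {U : Type u} [CommRing U] [Algebra A U] (φ : MvPolynomial (Idx θ) A →ₐ[A] U)
    (ξ : U →ₐ[A] Next θ) (P : MvPolynomial (Idx θ) A)
    (h : ∀ i ∈ P.vars, ξ (φ (MvPolynomial.X i)) = root θ i) : ξ (φ P) = π θ P :=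
  MvPolynomial.hom_congr_vars (f₁ := ((ξ.comp φ : _ →ₐ[A] _) : _ →+* Next θ))
    (f₂ := ((π θ : _ →ₐ[A] _) : _ →+* Next θ))
    (RingHom.ext fun a => ((ξ.comp φ).commutes a).trans ((π θ).commutes a).symm)
    (fun i hi _ => h i hi) rfl

theorem exists_rep (x : Next θ) : ∃ P Q : MvPolynomial (Idx θ) A, IsUnit (π θ Q) ∧ x * π θ Q = π θ P := by
  obtain ⟨t, ⟨s, hs⟩, rfl⟩ := IsLocalization.exists_mk'_eq (unitPre θ) x
  obtain ⟨P, rfl⟩ := mkPre_surjective θ t
  obtain ⟨Q, rfl⟩ := mkPre_surjective θ s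
  exact ⟨P, Q, IsLocalization.map_units (Next θ) (⟨_, hs⟩ : unitPre θ),
    IsLocalization.mk'_spec (Next θ) _ _⟩

instance flat : Module.Flat A (Next θ) := by
  classical
  refine (Module.Flat.iff_forall_isTrivialRelation (R := A) (M := Next θ)).2 ?_
  intro l f x hfx
  obtain ⟨⟨b, hb⟩, hbx⟩ := IsLocalization.exist_integer_multiples_of_finite (unitPre θ) x
  have hex : ∀ j, ∃ P, π θ P = algebraMap (Pre θ) (Next θ) b * x j := fun j => by
    obtain ⟨t, ht⟩ := hbx j
    obtain ⟨P, rfl⟩ := mkPre_surjective θ t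
    exact ⟨P, ht.trans (Algebra.smul_def _ _)⟩
  choose P hP using hex
  have hsum : π θ (∑ j, MvPolynomial.C (f j) * P j) = 0 := by
    rw [map_sum]
    have : ∀ j, π θ (MvPolynomial.C (f j) * P j) = algebraMap (Pre θ) (Next θ) b * (f j • x j) := fun j => by
      rw [map_mul, hP, ← MvPolynomial.algebraMap_eq, AlgHom.commutes, Algebra.smul_def]; ring
    rw [Finset.sum_congr rfl fun j _ => this j, ← Finset.mul_sum, hfx, mul_zero]
  obtain ⟨⟨c, hc⟩, hc0⟩ := (IsLocalization.map_eq_zero_iff (unitPre θ) (Next θ) _).1 hsum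
  obtain ⟨C, rfl⟩ := mkPre_surjective θ c
  have hc1 : C * (∑ j, MvPolynomial.C (f j) * P j) ∈ Ideal.span (Set.range (rel θ)) :=
    Ideal.Quotient.eq_zero_iff_mem.1 hc0
  obtain ⟨coef, hcoef⟩ := Finsupp.mem_ideal_span_range_iff_exists_finsupp.1 hc1
  let s : Finset (Idx θ) := (Finset.univ.biUnion fun j => (P j).vars) ∪ C.vars ∪ coef.support
  obtain ⟨U, _, _, _, φ, ξ, hU⟩ := exists_etale_stage θ s
  have hφ0 : φ C * ∑ j, algebraMap A U (f j) * φ (P j) = 0 := by
    have h1 := congrArg φ hcoef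
    rw [Finsupp.sum, map_sum, Finset.sum_eq_zero (fun k hk => by
      rw [map_mul, (hU k (by simp only [s, Finset.mem_union]; exact Or.inr hk)).1, mul_zero]), map_mul, map_sum] at h1
    rw [h1]
    exact congrArg _ (Finset.sum_congr rfl fun j _ => by rw [map_mul, ← MvPolynomial.algebraMap_eq, AlgHom.commutes])
  let U' := Localization.Away (φ C)
  haveI : Algebra.Etale U U' := Algebra.Etale.of_isLocalizationAway (φ C)
  haveI : Algebra.Etale A U' := Algebra.Etale.comp A U U'
  have hξC : IsUnit (ξ (φ C)) := by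
    rw [ξ_φ_eq θ φ ξ C fun i hi => (hU i (by simp [s, hi])).2]
    exact IsLocalization.map_units (Next θ) (⟨_, hc⟩ : unitPre θ)
  let ξ' : U' →ₐ[A] Next θ := IsLocalization.Away.liftAlgHom (φ C) (f := ξ) hξC
  have hrel : ∑ j, f j • algebraMap U U' (φ (P j)) = 0 := by
    have h1 := congrArg (algebraMap U U') hφ0
    rw [map_mul, map_zero, map_sum] at h1
    rw [← (IsLocalization.Away.algebraMap_isUnit (S := U') (φ C)).mul_right_eq_zero.1 h1]
    exact Finset.sum_congr rfl fun j _ => by
      rw [Algebra.smul_def, map_mul, ← IsScalarTower.algebraMap_apply]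
  obtain ⟨k, a, y, hy, hay⟩ := Module.Flat.iff_forall_isTrivialRelation.1 (inferInstance : Module.Flat A U') hrel
  obtain ⟨v, hv⟩ := IsLocalization.map_units (Next θ) (⟨b, hb⟩ : unitPre θ)
  refine ⟨k, a, fun j => ↑v⁻¹ * ξ' (y j), fun j => ?_, hay⟩
  have h2 : ξ' (algebraMap U U' (φ (P j))) = π θ (P j) := by
    rw [← ξ_φ_eq θ φ ξ (P j) fun i hi => (hU i (by simp only [s, Finset.mem_union, Finset.mem_biUnion]; exact Or.inl (Or.inl ⟨j, Finset.mem_univ _, hi⟩))).2]
    simp [ξ']
  have h3 : x j = ↑v⁻¹ * π θ (P j) := by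
    rw [hP, show algebraMap (Pre θ) (Next θ) b = ↑v from hv.symm, Units.inv_mul_cancel_left]
  rw [h3, ← h2, show algebraMap U U' (φ (P j)) = ∑ m, a j m • y m from hy j, map_sum, Finset.mul_sum]
  exact Finset.sum_congr rfl fun m _ => by rw [map_smul, mul_smul_comm]

end Step

variable {R : Type u} [CommRing R] {Ω : Type u} [CommRing Ω] {θ₀ : R →+* Ω} (hθ₀ : Function.Surjective θ₀)

theorem flat_stage (n : ℕ) : Module.Flat R (G hθ₀ n) := by
  induction n with
  | zero => exact Module.Flat.self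
  | succ n ih =>
    haveI := ih
    exact Module.Flat.trans R (G hθ₀ n) (Step.Next (seq hθ₀ n).θ)

theorem flat_hens : Module.Flat R (Hens hθ₀) := by
  refine (Module.Flat.iff_forall_isTrivialRelation (R := R) (M := Hens hθ₀)).2 ?_
  intro l f x hfx
  have hst : ∀ k : ℕ, ∃ n, ∀ j : Fin l, (j : ℕ) < k → ∃ y : G hθ₀ n, of hθ₀ n y = x j := by
    intro k
    induction k with
    | zero => exact ⟨0, fun j hj => absurd hj (Nat.not_lt_zero _)⟩
    | succ k ih =>
      obtain ⟨n, hn⟩ := ih
      by_cases hk : k < l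
      · obtain ⟨n', y, hy⟩ := exists_of hθ₀ (x ⟨k, hk⟩)
        refine ⟨max n n', fun j hj => ?_⟩
        rcases Nat.lt_succ_iff_lt_or_eq.1 hj with h | h
        · obtain ⟨z, hz⟩ := hn j h
          exact ⟨tr hθ₀ n _ (le_max_left n n') z, (of_tr hθ₀ _ z).trans hz⟩
        · obtain rfl : j = ⟨k, hk⟩ := Fin.ext h
          exact ⟨tr hθ₀ n' _ (le_max_right n n') y, (of_tr hθ₀ _ y).trans hy⟩
      · exact ⟨n, fun j _ => hn j (by omega)⟩
  obtain ⟨n, hn⟩ := hst l
  choose y hy using fun j : Fin l => hn j j.2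
  have h0 : of hθ₀ n (∑ j, f j • y j) = of hθ₀ n 0 := by
    rw [map_sum, map_zero, ← hfx]
    exact Finset.sum_congr rfl fun j _ => by rw [map_smul, hy]
  obtain ⟨m, hm, hm0⟩ := of_eq_of hθ₀ h0
  rw [map_sum, map_zero] at hm0
  haveI := flat_stage hθ₀ m
  obtain ⟨k, a, w, hw, ha⟩ := Module.Flat.iff_forall_isTrivialRelation.1 (inferInstance : Module.Flat R (G hθ₀ m))
    (f := f) (x := fun j => tr hθ₀ n m hm (y j)) (by simpa using hm0)
  refine ⟨k, a, fun j => of hθ₀ m (w j), fun j => ?_, ha⟩
  rw [← hy j, ← of_tr hθ₀ hm, show tr hθ₀ n m hm (y j) = ∑ i, a j i • w i from hw j, map_sum]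
  exact Finset.sum_congr rfl fun i _ => map_smul _ _ _

theorem henselianRing_of_isNilpotent {T : Type u} [CommRing T] (J : Ideal T) (hJ : IsNilpotent J) : HenselianRing T J := by
  obtain ⟨N, hN⟩ := hJ
  have hN' : (J ^ N • ⊤ : Submodule T T) = ⊥ := by rw [hN]; simp
  haveI : IsAdicComplete J T :=
    { haus' := fun x hx => by
        have := hx N
        rw [hN', SModEq.bot] at this
        exact this
      prec' := fun f hf => ⟨f N, fun n => by
        rcases le_total n N with h | h
        · exact hf h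
        · have := hf h
          rw [hN', SModEq.bot] at this
          rw [this]⟩ }
  exact IsAdicComplete.henselianRing T J

theorem hensθ_PH_surjective (A : Type u) [CommRing A] (I : Ideal A) (z : PH A I) :
    ∃ r : A, z - algebraMap A _ r ∈ I.map (algebraMap A (PH A I)) := by
  obtain ⟨r, hr⟩ := Ideal.Quotient.mk_surjective (hensθ (θ₀ := Ideal.Quotient.mk I) Ideal.Quotient.mk_surjective z)
  refine ⟨r, ?_⟩
  have hJ : (RingHom.ker (Ideal.Quotient.mk I)).map (algebraMap A (PH A I)) = I.map (algebraMap A (PH A I)) := by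
    rw [Ideal.mk_ker]
  rw [← hJ, ← ker_hensθ, RingHom.mem_ker, map_sub, ← RingHom.comp_apply, hensθ_comp, hr, sub_self]

variable {A B B' : Type u} [CommRing A] [CommRing B] [CommRing B'] [Algebra A B] [Algebra A B'] {I : Ideal A}

/-- Henselizations of a pair are isomorphic. -/
theorem nonempty_algEquiv (hB : Hens2.IsPairHenselization A I B) (hB' : Hens2.IsPairHenselization A I B') :
    Nonempty (B ≃ₐ[A] B') := by
  obtain ⟨g, hg, -⟩ := hB.2 B' _ (algebraMap A B') hB'.1 le_rfl
  obtain ⟨g', hg', -⟩ := hB'.2 B _ (algebraMap A B) hB.1 le_rfl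
  have h1 : g'.comp g = RingHom.id B :=
    (hB.2 B _ (algebraMap A B) hB.1 le_rfl).unique (by rw [RingHom.comp_assoc, hg, hg']) (RingHom.id_comp _)
  have h2 : g.comp g' = RingHom.id B' :=
    (hB'.2 B' _ (algebraMap A B') hB'.1 le_rfl).unique (by rw [RingHom.comp_assoc, hg', hg]) (RingHom.id_comp _)
  exact ⟨AlgEquiv.ofRingEquiv (f := RingEquiv.ofRingHom g g' h2 h1) (RingHom.congr_fun hg)⟩

theorem exists_sub_mem_pow (hB : Hens2.IsPairHenselization A I B) (n : ℕ) (z : B) :
    ∃ r : A, z - algebraMap A B r ∈ (I ^ n).map (algebraMap A B) := by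
  have h1 : ∀ z : B, ∃ r : A, z - algebraMap A B r ∈ I.map (algebraMap A B) := by
    obtain ⟨e⟩ := nonempty_algEquiv (isPairHenselization_PH A I) hB
    intro z
    obtain ⟨r, hr⟩ := hensθ_PH_surjective A I (e.symm z)
    refine ⟨r, ?_⟩
    have := Ideal.mem_map_of_mem (e : PH A I →+* B) hr
    rw [Ideal.map_map, show (e : PH A I →+* B).comp (algebraMap A _) = algebraMap A B from RingHom.ext e.commutes] at this
    simpa using this
  induction n generalizing z with
  | zero => exact ⟨0, by simp [Ideal.map_top]⟩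
  | succ n ih =>
    obtain ⟨r, hr⟩ := ih z
    suffices h : ∀ w ∈ (I ^ n).map (algebraMap A B), ∃ r : A, w - algebraMap A B r ∈ (I ^ (n + 1)).map (algebraMap A B) by
      obtain ⟨r', hr'⟩ := h _ hr
      exact ⟨r + r', by rw [map_add, ← sub_sub]; exact hr'⟩
    intro w hw
    induction hw using Submodule.span_induction with
    | mem y hy =>
      obtain ⟨a, _, rfl⟩ := hy
      exact ⟨a, by simp⟩
    | zero => exact ⟨0, by simp [Ideal.map_top]⟩
    | add x y _ _ hx hy =>
      obtain ⟨a, ha⟩ := hx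
      obtain ⟨b, hb⟩ := hy
      exact ⟨a + b, by rw [map_add, add_sub_add_comm]; exact add_mem ha hb⟩
    | smul c x hx' hx =>
      obtain ⟨a, ha⟩ := hx
      obtain ⟨r, hr⟩ := h1 c
      refine ⟨r * a, ?_⟩
      have e : c • x - algebraMap A B (r * a) = (c - algebraMap A B r) * x + algebraMap A B r * (x - algebraMap A B a) := by
        rw [smul_eq_mul, map_mul]; ring
      rw [e, pow_succ', Ideal.map_mul]
      refine add_mem (Ideal.mul_mem_mul hr hx') (Ideal.mul_mem_left _ _ ?_)
      rwa [← Ideal.map_mul, ← pow_succ']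

theorem flat_of_isPairHenselization (hB : Hens2.IsPairHenselization A I B) : Module.Flat A B := by
  obtain ⟨e⟩ := nonempty_algEquiv (isPairHenselization_PH A I) hB
  haveI := flat_hens (R := A) (θ₀ := Ideal.Quotient.mk I) Ideal.Quotient.mk_surjective
  exact Module.Flat.of_linearEquiv e.symm.toLinearEquiv

theorem quotientMap_bijective (hB : Hens2.IsPairHenselization A I B) (n : ℕ) :
    Function.Bijective (Ideal.quotientMap ((I ^ n).map (algebraMap A B)) (algebraMap A B) Ideal.le_comap_map) := by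
  constructor
  · rcases n with _ | n
    · haveI : Subsingleton (A ⧸ (I ^ 0)) := Ideal.Quotient.subsingleton_iff.2 (by simp)
      exact fun x y _ => Subsingleton.elim x y
    have hnil : IsNilpotent (I.map (Ideal.Quotient.mk (I ^ (n + 1)))) := ⟨n + 1, by
      rw [← Ideal.map_pow, Ideal.map_quotient_self]; rfl⟩
    obtain ⟨g, hg, -⟩ := hB.2 (A ⧸ I ^ (n + 1)) (I.map (Ideal.Quotient.mk _)) (Ideal.Quotient.mk _)
      (henselianRing_of_isNilpotent _ hnil) le_rfl
    rw [injective_iff_map_eq_zero]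
    intro x hx
    obtain ⟨a, rfl⟩ := Ideal.Quotient.mk_surjective x
    rw [Ideal.quotientMap_mk, Ideal.Quotient.eq_zero_iff_mem] at hx
    have := Ideal.mem_map_of_mem g hx
    rw [Ideal.map_map, hg, Ideal.map_quotient_self, ← RingHom.comp_apply, hg] at this
    exact this
  · intro z
    obtain ⟨w, rfl⟩ := Ideal.Quotient.mk_surjective z
    obtain ⟨r, hr⟩ := exists_sub_mem_pow hB n w
    exact ⟨Ideal.Quotient.mk _ r, by rw [Ideal.quotientMap_mk]; exact (Ideal.Quotient.eq.2 hr).symm⟩

end PairHensLib
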