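import Groth.Agent.HenselLib.HenselizationExists
import Groth.Prelude.Def_Hensel
import Mathlib.RingTheory.TensorProduct.Basic
import Mathlib.RingTheory.Localization.AtPrime.Basic
import Mathlib.FieldTheory.SeparableClosure

/-! Henselizations of tensor products at a prime. -/

set_option autoImplicit false
set_option maxHeartbeats 1000000
universe u

noncomputable section

open TensorProduct IsLocalRing

namespace PairHensLib

theorem map_maximalIdeal_of_isHenselization (R H : Type u) [CommRing R] [IsLocalRing R] [CommRing H] [IsLocalRing H]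
    [Algebra R H] [IsLocalHom (algebraMap R H)] [Hensel.IsHenselization R H] :
    (maximalIdeal R).map (algebraMap R H) = maximalIdeal H := by
  obtain ⟨e⟩ := HenselLib.nonempty_algEquiv_HR (R := R) H
  exact HenselLib.map_maximalIdeal_of_algEquiv e (HenselLib.map_maximalIdeal_hens IsLocalRing.ker_residue)

theorem map_maximalIdeal_of_isStrictHenselization (R H : Type u) [CommRing R] [IsLocalRing R] [CommRing H]
    [IsLocalRing H] [Algebra R H] [IsLocalHom (algebraMap R H)] [Hensel.IsStrictHenselization R H] :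
    (maximalIdeal R).map (algebraMap R H) = maximalIdeal H := by
  obtain ⟨e⟩ := HenselLib.nonempty_algEquiv_SH (R := R) H
  exact HenselLib.map_maximalIdeal_of_algEquiv e (HenselLib.map_maximalIdeal_hens (HenselLib.ker_scθ R))

theorem isUnit_map_of_notMem_comap {D T : Type u} [CommRing D] [CommRing T] [IsLocalRing T] (φ : D →+* T) {d : D}
    (h : d ∉ Ideal.comap φ (maximalIdeal T)) : IsUnit (φ d) := by
  rwa [Ideal.mem_comap, mem_maximalIdeal, mem_nonunits_iff, not_not] at h

theorem algebraMap_tmul_one {R A B : Type u} [CommRing R] [CommRing A] [CommRing B] [Algebra R A] [Algebra R B] (a : R) :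
    algebraMap R A a ⊗ₜ[R] (1 : B) = (1 : A) ⊗ₜ[R] algebraMap R B a := by
  rw [Algebra.algebraMap_eq_smul_one, Algebra.algebraMap_eq_smul_one, TensorProduct.smul_tmul]

variable {R S Rh Sh : Type u} [CommRing R] [CommRing S] [Algebra R S] {p : Ideal R} [p.IsPrime] {q : Ideal S} [q.IsPrime]
  [q.LiesOver p] [CommRing Rh] [IsLocalRing Rh] [Algebra (Localization.AtPrime p) Rh]
  [IsLocalHom (algebraMap (Localization.AtPrime p) Rh)] [Algebra R Rh] [IsScalarTower R (Localization.AtPrime p) Rh]
  [CommRing Sh] [IsLocalRing Sh] [Algebra (Localization.AtPrime q) Sh]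
  [IsLocalHom (algebraMap (Localization.AtPrime q) Sh)] [Algebra S Sh]
  [IsScalarTower S (Localization.AtPrime q) Sh] [Algebra R Sh] [IsScalarTower R S Sh]
  [Algebra Rh Sh] [IsScalarTower R Rh Sh]

theorem mem_maximalIdeal_algebraMap_iff {x : S} : algebraMap S Sh x ∈ maximalIdeal Sh ↔ x ∈ q := by
  rw [IsScalarTower.algebraMap_apply S (Localization.AtPrime q) Sh, mem_maximalIdeal, mem_nonunits_iff,
    isUnit_map_iff (algebraMap (Localization.AtPrime q) Sh), ← mem_nonunits_iff, ← mem_maximalIdeal]
  exact IsLocalization.AtPrime.to_map_mem_maximal_iff (Localization.AtPrime q) q x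

theorem isLocalHom_of_compat (_hq : q.LiesOver p)
    (hm : (maximalIdeal (Localization.AtPrime p)).map (algebraMap (Localization.AtPrime p) Rh) = maximalIdeal Rh) :
    IsLocalHom (algebraMap Rh Sh) := by
  have hle : maximalIdeal Rh ≤ (maximalIdeal Sh).comap (algebraMap Rh Sh) := by
    rw [← hm, ← Localization.AtPrime.map_eq_maximalIdeal, Ideal.map_map, ← IsScalarTower.algebraMap_eq,
      Ideal.map_le_iff_le_comap]
    intro a ha
    rw [Ideal.mem_comap, Ideal.mem_comap, ← IsScalarTower.algebraMap_apply, IsScalarTower.algebraMap_apply R S Sh,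
      mem_maximalIdeal_algebraMap_iff (q := q)]
    rw [Ideal.LiesOver.over (P := q) (p := p)] at ha
    exact ha
  exact ⟨fun x hx => by_contra fun hu => hle ((mem_maximalIdeal x).2 hu) hx⟩

variable (R S Rh Sh) in
/-- The multiplication map. -/
abbrev mulTensor : Rh ⊗[R] S →ₐ[R] Sh :=
  Algebra.TensorProduct.lift (IsScalarTower.toAlgHom R Rh Sh) (IsScalarTower.toAlgHom R S Sh) (fun _ _ => Commute.all _ _)

theorem mulTensor_left (r : Rh) : mulTensor R S Rh Sh (r ⊗ₜ 1) = algebraMap Rh Sh r := by simp

theorem mulTensor_right (x : S) : mulTensor R S Rh Sh (1 ⊗ₜ x) = algebraMap S Sh x := by simp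

theorem hom_ext_tensor {T : Type u} [CommRing T] {f g : Rh ⊗[R] S →+* T}
    (hl : ∀ r : Rh, f (r ⊗ₜ 1) = g (r ⊗ₜ 1)) (hr : ∀ x : S, f (1 ⊗ₜ x) = g (1 ⊗ₜ x)) : f = g := by
  refine RingHom.ext fun z => ?_
  induction z using TensorProduct.induction_on with
  | zero => rw [map_zero, map_zero]
  | add a b ha hb => rw [map_add, map_add, ha, hb]
  | tmul a b =>
    rw [show a ⊗ₜ[R] b = (a ⊗ₜ 1) * (1 ⊗ₜ b) by simp, map_mul, map_mul, hl, hr]

variable (R S Rh Sh) in
/-- The prime of the tensor product. -/
abbrev tensorPrime : Ideal (Rh ⊗[R] S) := Ideal.comap (mulTensor R S Rh Sh) (maximalIdeal Sh)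

section maps

variable {E : Type u} [CommRing E] [IsLocalRing E] [Algebra (Localization.AtPrime (tensorPrime R S Rh Sh)) E]
  [IsLocalHom (algebraMap (Localization.AtPrime (tensorPrime R S Rh Sh)) E)]

variable (R S Rh Sh) in
/-- The map of the local ring of the tensor product. -/
def locTensor : Localization.AtPrime (tensorPrime R S Rh Sh) →+* Sh :=
  IsLocalization.lift (M := (tensorPrime R S Rh Sh).primeCompl) (g := (mulTensor R S Rh Sh).toRingHom)
    fun d => isUnit_map_of_notMem_comap _ d.2

theorem locTensor_algebraMap (d : Rh ⊗[R] S) :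
    locTensor R S Rh Sh (algebraMap _ _ d) = mulTensor R S Rh Sh d := IsLocalization.lift_eq _ d

theorem isLocalHom_locTensor : IsLocalHom (locTensor R S Rh Sh) := ⟨fun x hx => by
  obtain ⟨d, s, rfl⟩ := IsLocalization.exists_mk'_eq (tensorPrime R S Rh Sh).primeCompl x
  rw [locTensor, IsLocalization.lift_mk'] at hx
  have hd : d ∉ tensorPrime R S Rh Sh := fun h => (mem_maximalIdeal _).1 h (isUnit_of_mul_isUnit_left hx)
  exact (IsLocalization.AtPrime.isUnit_mk'_iff (Localization.AtPrime (tensorPrime R S Rh Sh)) (tensorPrime R S Rh Sh) d s).2 hd⟩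

/-- The map from the scheme side. -/
theorem exists_toE : ∃ f : Localization.AtPrime q →+* E, IsLocalHom f ∧
    ∀ x : S, f (algebraMap S _ x) = algebraMap (Localization.AtPrime (tensorPrime R S Rh Sh)) E
      (algebraMap (Rh ⊗[R] S) _ ((1 : Rh) ⊗ₜ x)) := by
  let j : S →+* E := ((algebraMap (Localization.AtPrime (tensorPrime R S Rh Sh)) E).comp
    (algebraMap (Rh ⊗[R] S) _)).comp (Algebra.TensorProduct.includeRight : S →ₐ[R] Rh ⊗[R] S).toRingHom
  have hiff : ∀ x : S, IsUnit (j x) ↔ x ∉ q := fun x => by
    show IsUnit (algebraMap (Localization.AtPrime (tensorPrime R S Rh Sh)) E _) ↔ _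
    rw [isUnit_map_iff, IsLocalization.AtPrime.isUnit_to_map_iff _ (tensorPrime R S Rh Sh)]
    show ((1 : Rh) ⊗ₜ[R] x) ∉ tensorPrime R S Rh Sh ↔ _
    rw [Ideal.mem_comap, mulTensor_right, mem_maximalIdeal_algebraMap_iff (q := q)]
  refine ⟨IsLocalization.lift (M := q.primeCompl) (g := j) fun x => (hiff x).2 x.2, ⟨fun z hz => ?_⟩,
    fun x => IsLocalization.lift_eq _ x⟩
  obtain ⟨x, s, rfl⟩ := IsLocalization.exists_mk'_eq q.primeCompl z
  rw [IsLocalization.lift_mk'] at hz
  exact (IsLocalization.AtPrime.isUnit_mk'_iff (Localization.AtPrime q) q x s).2 ((hiff x).1 (isUnit_of_mul_isUnit_left hz))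

theorem exists_equiv_henselization [Hensel.IsHenselization (Localization.AtPrime p) Rh]
    [Hensel.IsHenselization (Localization.AtPrime q) Sh]
    [Hensel.IsHenselization (Localization.AtPrime (tensorPrime R S Rh Sh)) E] :
    ∃ e : E ≃+* Sh, ∀ d : Rh ⊗[R] S,
      e (algebraMap (Localization.AtPrime (tensorPrime R S Rh Sh)) E (algebraMap _ _ d)) = mulTensor R S Rh Sh d := by
  haveI := Hensel.IsHenselization.henselian (R := Localization.AtPrime (tensorPrime R S Rh Sh)) (S := E)
  haveI := Hensel.IsHenselization.henselian (R := Localization.AtPrime q) (S := Sh)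
  haveI hRhSh : IsLocalHom (algebraMap Rh Sh) := isLocalHom_of_compat (p := p) (q := q) inferInstance
    (map_maximalIdeal_of_isHenselization (Localization.AtPrime p) Rh)
  haveI := isLocalHom_locTensor (R := R) (S := S) (Rh := Rh) (Sh := Sh)
  obtain ⟨g, hg, -⟩ := Hensel.IsHenselization.universal (R := Localization.AtPrime (tensorPrime R S Rh Sh)) (S := E)
    Sh (locTensor R S Rh Sh) inferInstance
  have hgd : ∀ d, g (algebraMap _ E (algebraMap _ _ d)) = mulTensor R S Rh Sh d := fun d => by
    rw [← RingHom.comp_apply g, hg, locTensor_algebraMap]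
  obtain ⟨f, hf, hfS⟩ := exists_toE (R := R) (S := S) (Rh := Rh) (Sh := Sh) (E := E) (q := q)
  haveI := hf
  obtain ⟨h, hh, -⟩ := Hensel.IsHenselization.universal (R := Localization.AtPrime q) (S := Sh) E f inferInstance
  have hS : ∀ x : S, h (algebraMap S Sh x) = algebraMap _ E (algebraMap _ _ ((1 : Rh) ⊗ₜ x)) := fun x => by
    rw [IsScalarTower.algebraMap_apply S (Localization.AtPrime q) Sh, ← RingHom.comp_apply h, hh, hfS]
  have e1 : g.comp h = RingHom.id Sh := by
    refine (Hensel.IsHenselization.universal (R := Localization.AtPrime q) (S := Sh) Sh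
      (algebraMap _ Sh) inferInstance).unique ?_ (RingHom.id_comp _)
    refine IsLocalization.ringHom_ext q.primeCompl (RingHom.ext fun x => ?_)
    show g (h (algebraMap (Localization.AtPrime q) Sh (algebraMap S _ x))) = _
    rw [← IsScalarTower.algebraMap_apply, hS, hgd, mulTensor_right]
    exact IsScalarTower.algebraMap_apply _ _ _ _
  have hhR : h.comp (algebraMap Rh Sh) = ((algebraMap (Localization.AtPrime (tensorPrime R S Rh Sh)) E).comp
      (algebraMap (Rh ⊗[R] S) _)).comp (Algebra.TensorProduct.includeLeftRingHom : Rh →+* Rh ⊗[R] S) := by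
    haveI : IsLocalHom h := ⟨fun x hx => by
      have := hx.map g
      rwa [← RingHom.comp_apply, e1] at this⟩
    let f₀ := (h.comp (algebraMap Rh Sh)).comp (algebraMap (Localization.AtPrime p) Rh)
    refine (Hensel.IsHenselization.universal (R := Localization.AtPrime p) (S := Rh) E f₀ inferInstance).unique rfl ?_
    refine IsLocalization.ringHom_ext p.primeCompl (RingHom.ext fun a => ?_)
    show algebraMap _ E (algebraMap _ _ ((algebraMap (Localization.AtPrime p) Rh (algebraMap R _ a)) ⊗ₜ[R] (1 : S))) =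
      h (algebraMap Rh Sh (algebraMap (Localization.AtPrime p) Rh (algebraMap R _ a)))
    rw [← IsScalarTower.algebraMap_apply R (Localization.AtPrime p) Rh, ← IsScalarTower.algebraMap_apply R Rh Sh,
      IsScalarTower.algebraMap_apply R S Sh, hS, algebraMap_tmul_one]
  have e2 : h.comp g = RingHom.id E := by
    refine (Hensel.IsHenselization.universal (R := Localization.AtPrime (tensorPrime R S Rh Sh)) (S := E) E
      (algebraMap _ E) inferInstance).unique ?_ (RingHom.id_comp _)
    refine IsLocalization.ringHom_ext (tensorPrime R S Rh Sh).primeCompl (hom_ext_tensor (fun r => ?_) fun x => ?_)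
    · show h (g _) = _
      rw [hgd, mulTensor_left]
      exact RingHom.congr_fun hhR r
    · show h (g _) = _
      rw [hgd, mulTensor_right, hS]
      rfl
  exact ⟨RingEquiv.ofRingHom g h e1 e2, hgd⟩

theorem exists_equiv_strictHenselization [Hensel.IsStrictHenselization (Localization.AtPrime p) Rh]
    [Hensel.IsStrictHenselization (Localization.AtPrime q) Sh]
    [Hensel.IsStrictHenselization (Localization.AtPrime (tensorPrime R S Rh Sh)) E] :
    ∃ e : E ≃+* Sh, ∀ d : Rh ⊗[R] S,
      e (algebraMap (Localization.AtPrime (tensorPrime R S Rh Sh)) E (algebraMap _ _ d)) = mulTensor R S Rh Sh d := by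
  let DQ := Localization.AtPrime (tensorPrime R S Rh Sh)
  let Sq := Localization.AtPrime q
  haveI := Hensel.IsStrictHenselization.henselian (R := DQ) (S := E)
  haveI := Hensel.IsStrictHenselization.henselian (R := Sq) (S := Sh)
  haveI hRhSh : IsLocalHom (algebraMap Rh Sh) := isLocalHom_of_compat (p := p) (q := q) inferInstance
    (map_maximalIdeal_of_isStrictHenselization (Localization.AtPrime p) Rh)
  haveI := isLocalHom_locTensor (R := R) (S := S) (Rh := Rh) (Sh := Sh)
  haveI hsE := Hensel.IsStrictHenselization.isSepClosure (R := DQ) (S := E)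
  have hsS := Hensel.IsStrictHenselization.isSepClosure (R := Sq) (S := Sh)
  obtain ⟨f, hf, hfS⟩ := exists_toE (R := R) (S := S) (Rh := Rh) (Sh := Sh) (E := E) (q := q)
  haveI := hf
  -- the residue field of the tensor product
  let inS : S →+* DQ := (algebraMap (Rh ⊗[R] S) DQ).comp (Algebra.TensorProduct.includeRight : S →ₐ[R] Rh ⊗[R] S).toRingHom
  have hinS : ∀ x : S, IsUnit (inS x) ↔ x ∉ q := fun x => by
    show IsUnit (algebraMap (Rh ⊗[R] S) DQ ((1 : Rh) ⊗ₜ[R] x)) ↔ _
    rw [IsLocalization.AtPrime.isUnit_to_map_iff DQ (tensorPrime R S Rh Sh)]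
    show ((1 : Rh) ⊗ₜ[R] x) ∉ tensorPrime R S Rh Sh ↔ _
    rw [Ideal.mem_comap, mulTensor_right, mem_maximalIdeal_algebraMap_iff (q := q)]
  let σ : Sq →+* DQ := IsLocalization.lift (M := q.primeCompl) (g := inS) fun x => (hinS x).2 x.2
  have hθσ : (locTensor R S Rh Sh).comp σ = algebraMap Sq Sh := IsLocalization.ringHom_ext q.primeCompl (RingHom.ext fun x => by
    show locTensor R S Rh Sh (σ (algebraMap S Sq x)) = algebraMap Sq Sh (algebraMap S Sq x)
    rw [IsLocalization.lift_eq, ← IsScalarTower.algebraMap_apply]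
    exact (locTensor_algebraMap _).trans (mulTensor_right x))
  have hEσ : (algebraMap DQ E).comp σ = f := IsLocalization.ringHom_ext q.primeCompl (RingHom.ext fun x => by
    show algebraMap DQ E (σ (algebraMap S Sq x)) = f (algebraMap S Sq x)
    rw [IsLocalization.lift_eq, hfS]
    rfl)
  haveI : IsLocalHom σ := ⟨fun z hz => by
    have h1 := hz.map (locTensor R S Rh Sh)
    rw [← RingHom.comp_apply, hθσ] at h1
    exact (isUnit_map_iff (algebraMap Sq Sh) z).1 h1⟩
  letI : Algebra (ResidueField DQ) (ResidueField Sh) := (ResidueField.map (locTensor R S Rh Sh)).toAlgebra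
  letI : Algebra (ResidueField Sq) (ResidueField DQ) := (ResidueField.map σ).toAlgebra
  haveI : IsScalarTower (ResidueField Sq) (ResidueField DQ) (ResidueField Sh) :=
    IsScalarTower.of_algebraMap_eq fun x => by
      obtain ⟨z, rfl⟩ := residue_surjective x
      show residue Sh (algebraMap Sq Sh z) = residue Sh (locTensor R S Rh Sh (σ z))
      rw [← RingHom.congr_fun hθσ z]
      rfl
  haveI := hsS.separable
  haveI hsS' : IsSepClosure (ResidueField DQ) (ResidueField Sh) :=
    ⟨hsS.sep_closed, Algebra.isSeparable_tower_top_of_isSeparable (ResidueField Sq) (ResidueField DQ) (ResidueField Sh)⟩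
  let τ : ResidueField E ≃ₐ[ResidueField DQ] ResidueField Sh := IsSepClosure.equiv (ResidueField DQ) _ _
  have hτ : ∀ d : DQ, τ (residue E (algebraMap DQ E d)) = residue Sh (locTensor R S Rh Sh d) := fun d =>
    τ.commutes (residue DQ d)
  obtain ⟨g, ⟨hg, hg'⟩, -⟩ := Hensel.IsStrictHenselization.universal (R := DQ) (S := E) Sh (locTensor R S Rh Sh)
    (τ : ResidueField E →+* ResidueField Sh) (RingHom.ext fun x => by
      obtain ⟨d, rfl⟩ := residue_surjective x; exact hτ d)
  have hgd : ∀ d, g (algebraMap _ E (algebraMap _ _ d)) = mulTensor R S Rh Sh d := fun d => by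
    rw [← RingHom.comp_apply g, hg, locTensor_algebraMap]
  have hτS : ((τ.symm : ResidueField Sh →+* ResidueField E)).comp (ResidueField.map (algebraMap Sq Sh)) =
      ResidueField.map f := RingHom.ext fun x => by
    obtain ⟨z, rfl⟩ := residue_surjective x
    show τ.symm (residue Sh (algebraMap Sq Sh z)) = residue E (f z)
    rw [← RingHom.congr_fun hθσ z, ← RingHom.congr_fun hEσ z, RingHom.comp_apply, RingHom.comp_apply, ← hτ]
    exact τ.symm_apply_apply _
  obtain ⟨h, ⟨hh, hh'⟩, -⟩ := Hensel.IsStrictHenselization.universal (R := Sq) (S := Sh) E f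
    (τ.symm : ResidueField Sh →+* ResidueField E) hτS
  have hS : ∀ x : S, h (algebraMap S Sh x) = algebraMap _ E (algebraMap _ _ ((1 : Rh) ⊗ₜ x)) := fun x => by
    rw [IsScalarTower.algebraMap_apply S Sq Sh, ← RingHom.comp_apply h, hh, hfS]
  have e1 : g.comp h = RingHom.id Sh := by
    refine (Hensel.IsStrictHenselization.universal (R := Sq) (S := Sh) Sh (algebraMap Sq Sh)
      (RingHom.id _) (RingHom.id_comp _)).unique ⟨?_, fun x => ?_⟩ ⟨RingHom.id_comp _, fun x => rfl⟩
    · refine IsLocalization.ringHom_ext q.primeCompl (RingHom.ext fun x => ?_)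
      show g (h (algebraMap Sq Sh (algebraMap S _ x))) = _
      rw [← IsScalarTower.algebraMap_apply, hS, hgd, mulTensor_right]
      exact IsScalarTower.algebraMap_apply _ _ _ _
    · rw [RingHom.comp_apply, hg', hh']
      exact τ.apply_symm_apply _
  have hhR : h.comp (algebraMap Rh Sh) = ((algebraMap DQ E).comp (algebraMap (Rh ⊗[R] S) DQ)).comp
      (Algebra.TensorProduct.includeLeftRingHom : Rh →+* Rh ⊗[R] S) := by
    haveI : IsLocalHom h := ⟨fun x hx => by
      have := hx.map g
      rwa [← RingHom.comp_apply, e1] at this⟩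
    let f₀ := (h.comp (algebraMap Rh Sh)).comp (algebraMap (Localization.AtPrime p) Rh)
    let τR : ResidueField Rh →+* ResidueField E :=
      (τ.symm : ResidueField Sh →+* ResidueField E).comp (ResidueField.map (algebraMap Rh Sh))
    refine (Hensel.IsStrictHenselization.universal (R := Localization.AtPrime p) (S := Rh) E f₀ τR (RingHom.ext fun y => ?_)).unique
      ⟨rfl, fun x => hh' _⟩ ⟨?_, fun x => ?_⟩
    · obtain ⟨z, rfl⟩ := residue_surjective y
      exact (hh' _).symm
    · refine IsLocalization.ringHom_ext p.primeCompl (RingHom.ext fun a => ?_)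
      show algebraMap _ E (algebraMap _ _ ((algebraMap (Localization.AtPrime p) Rh (algebraMap R _ a)) ⊗ₜ[R] (1 : S))) =
        h (algebraMap Rh Sh (algebraMap (Localization.AtPrime p) Rh (algebraMap R _ a)))
      rw [← IsScalarTower.algebraMap_apply R (Localization.AtPrime p) Rh, ← IsScalarTower.algebraMap_apply R Rh Sh,
        IsScalarTower.algebraMap_apply R S Sh, hS, algebraMap_tmul_one]
    · show residue E (algebraMap DQ E (algebraMap _ DQ (x ⊗ₜ[R] (1 : S)))) = τ.symm (residue Sh (algebraMap Rh Sh x))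
      rw [← mulTensor_left (R := R) (S := S) (Rh := Rh) (Sh := Sh) x, ← locTensor_algebraMap, ← hτ]
      exact (τ.symm_apply_apply _).symm
  have e2 : h.comp g = RingHom.id E := by
    refine (Hensel.IsStrictHenselization.universal (R := DQ) (S := E) E
      (algebraMap DQ E) (RingHom.id _) (RingHom.id_comp _)).unique ⟨?_, fun x => ?_⟩ ⟨RingHom.id_comp _, fun x => rfl⟩
    · refine IsLocalization.ringHom_ext (tensorPrime R S Rh Sh).primeCompl (hom_ext_tensor (fun r => ?_) fun x => ?_)
      · show h (g _) = _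
        rw [hgd, mulTensor_left]
        exact RingHom.congr_fun hhR r
      · show h (g _) = _
        rw [hgd, mulTensor_right, hS]
        rfl
    · rw [RingHom.comp_apply, hh', hg']
      exact τ.symm_apply_apply _
  exact ⟨RingEquiv.ofRingHom g h e1 e2, hgd⟩

end maps

end PairHensLib
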