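import Groth.Agent.PairHensLib.Flat
import Groth.Agent.HenselLib.Perm
import Mathlib.RingTheory.TensorProduct.Basic
import Mathlib.RingTheory.Etale.Basic

/-! Points of étale algebras in henselian pairs. -/

set_option autoImplicit false
universe u

noncomputable section

open TensorProduct

namespace PairHensLib

variable {R S C : Type u} [CommRing R] [CommRing S] [CommRing C] [Algebra R S] [Algebra R C]
  {J : Ideal C} [HenselianRing C J]

/-- Points of an unramified algebra in a henselian pair are determined by their reductions. -/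
theorem algHom_eq_of_sub_mem [Algebra.FormallyUnramified R S] [Algebra.EssFiniteType R S]
    (f g : S →ₐ[R] C) (h : ∀ x, f x - g x ∈ J) : f = g :=
  HenselLib.algHom_ext_of_sub_mem HenselianRing.jac f g h

/-- Points of an étale algebra lift to henselian pairs. -/
theorem exists_algHom_lift [Algebra.Etale R S] (σ : S →ₐ[R] C ⧸ J) :
    ∃ τ : S →ₐ[R] C, (Ideal.Quotient.mkₐ R J).comp τ = σ := by
  let σ' : C ⊗[R] S →ₐ[C] C ⧸ J :=
    Algebra.TensorProduct.lift (Algebra.ofId C (C ⧸ J)) σ fun _ _ => .all _ _
  obtain ⟨τ, hτ⟩ := HenselLib.etaleLifts_of_henselianRing (I := J) (C ⊗[R] S) σ'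
  refine ⟨(τ.restrictScalars R).comp Algebra.TensorProduct.includeRight, AlgHom.ext fun x => ?_⟩
  refine (AlgHom.congr_fun hτ (1 ⊗ₜ x)).trans ?_
  simp [σ']

/-- An étale neighbourhood of a pair. -/
theorem exists_sub_algebraMap_mem {I : Ideal R}
    (hq : Function.Surjective (Ideal.quotientMap (I.map (algebraMap R S)) (algebraMap R S) Ideal.le_comap_map))
    (x : S) : ∃ r : R, x - algebraMap R S r ∈ I.map (algebraMap R S) := by
  obtain ⟨y, hy⟩ := hq (Ideal.Quotient.mk _ x)
  obtain ⟨r, rfl⟩ := Ideal.Quotient.mk_surjective y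
  rw [Ideal.quotientMap_mk] at hy
  exact ⟨r, Ideal.Quotient.eq.1 hy.symm⟩

/-- An étale neighbourhood of a pair has a unique point in every henselian pair over it. -/
theorem existsUnique_algHom_of_etaleNbhd [Algebra.Etale R S] {I : Ideal R}
    (hq : Function.Bijective (Ideal.quotientMap (I.map (algebraMap R S)) (algebraMap R S) Ideal.le_comap_map))
    (hIJ : I.map (algebraMap R C) ≤ J) : ∃! τ : S →ₐ[R] C, True := by
  let e : R ⧸ I ≃+* S ⧸ I.map (algebraMap R S) := RingEquiv.ofBijective _ hq
  let b : R ⧸ I →+* C ⧸ J := Ideal.quotientMap J (algebraMap R C) (Ideal.map_le_iff_le_comap.1 hIJ)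
  let σ : S →ₐ[R] C ⧸ J :=
    { toRingHom := (b.comp e.symm.toRingHom).comp (Ideal.Quotient.mk (I.map (algebraMap R S)))
      commutes' := fun r => by
        have h1 : e.symm (Ideal.Quotient.mk _ (algebraMap R S r)) = Ideal.Quotient.mk I r :=
          e.symm_apply_eq.2 (Ideal.quotientMap_mk (H := Ideal.le_comap_map)).symm
        show b (e.symm (Ideal.Quotient.mk (I.map (algebraMap R S)) (algebraMap R S r))) = _
        rw [h1]
        rfl }
  obtain ⟨τ, -⟩ := exists_algHom_lift σ
  refine ⟨τ, trivial, fun τ' _ => algHom_eq_of_sub_mem (J := J) τ' τ fun x => ?_⟩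
  obtain ⟨r, hr⟩ := exists_sub_algebraMap_mem hq.2 x
  have h : ∀ φ : S →ₐ[R] C, φ x - algebraMap R C r ∈ J := fun φ => by
    have := Ideal.mem_map_of_mem (φ : S →+* C) hr
    rw [Ideal.map_map, φ.comp_algebraMap] at this
    simpa using hIJ this
  simpa using J.sub_mem (h τ') (h τ)

/-- The henselization of an étale neighbourhood of a pair is a henselization of the pair. -/
theorem isPairHenselization_of_etaleNbhd [Algebra.Etale R S] {I : Ideal R}
    (hq : Function.Bijective (Ideal.quotientMap (I.map (algebraMap R S)) (algebraMap R S) Ideal.le_comap_map))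
    {H : Type u} [CommRing H] [Algebra S H] [Algebra R H] [IsScalarTower R S H]
    (hH : Hens2.IsPairHenselization S (I.map (algebraMap R S)) H) : Hens2.IsPairHenselization R I H := by
  refine ⟨?_, fun D _ K f hD hfK => ?_⟩
  · have := hH.1
    rwa [Ideal.map_map, ← IsScalarTower.algebraMap_eq] at this
  letI : Algebra R D := f.toAlgebra
  haveI := hD
  obtain ⟨τ, -, huniq⟩ := existsUnique_algHom_of_etaleNbhd (C := D) (J := K) hq hfK
  have hτK : (I.map (algebraMap R S)).map (τ : S →+* D) ≤ K := by
    rw [Ideal.map_map, τ.comp_algebraMap]; exact hfK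
  obtain ⟨g, hg, hg'⟩ := hH.2 D K (τ : S →+* D) hD hτK
  refine ⟨g, ?_, fun g' (hg1 : g'.comp _ = f) => hg' g' ?_⟩
  · show g.comp (algebraMap R H) = f
    rw [IsScalarTower.algebraMap_eq R S H, ← RingHom.comp_assoc, hg, τ.comp_algebraMap]
    rfl
  · show g'.comp (algebraMap S H) = _
    let τ' : S →ₐ[R] D :=
      { toRingHom := g'.comp (algebraMap S H)
        commutes' := fun r => by
          show g' (algebraMap S H (algebraMap R S r)) = f r
          rw [← IsScalarTower.algebraMap_apply, ← RingHom.comp_apply, hg1] }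
    rw [← huniq τ' trivial]
    rfl

end PairHensLib
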