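import Groth.Agent.PairHensLib.Step
import Groth.Prelude.Def_Hens2
import Mathlib.Algebra.Colimit.DirectLimit

/-! Henselization of a pair: existence and universal property. -/

set_option autoImplicit false
set_option maxHeartbeats 1000000
universe u

noncomputable section

namespace PairHensLib

variable {R : Type u} [CommRing R] {Ω : Type u} [CommRing Ω]

/-- A stage of the construction. -/
structure Stage (θ₀ : R →+* Ω) where
  carrier : Type u
  [ring : CommRing carrier]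
  [alg : Algebra R carrier]
  θ : carrier →+* Ω
  comp : θ.comp (algebraMap R carrier) = θ₀
  kerLe : RingHom.ker θ ≤ (RingHom.ker θ₀).map (algebraMap R carrier)

attribute [instance] Stage.ring Stage.alg

variable {θ₀ : R →+* Ω}

theorem Stage.surjective (hsurj : Function.Surjective θ₀) (S : Stage θ₀) : Function.Surjective S.θ := fun w =>
  let ⟨r, hr⟩ := hsurj w
  ⟨algebraMap R S.carrier r, (RingHom.congr_fun S.comp r).trans hr⟩

namespace Stage

/-- The next stage. -/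
def next (hsurj : Function.Surjective θ₀) (S : Stage θ₀) : Stage θ₀ where
  carrier := Step.Next S.θ
  θ := Step.nextθ S.θ
  comp := by
    rw [IsScalarTower.algebraMap_eq R S.carrier (Step.Next S.θ), ← RingHom.comp_assoc, Step.nextθ_comp, S.comp]
  kerLe := by
    rw [Step.ker_nextθ S.θ (S.surjective hsurj), IsScalarTower.algebraMap_eq R S.carrier (Step.Next S.θ), ← Ideal.map_map]
    exact Ideal.map_mono S.kerLe

/-- The transition map. -/
def toNext (hsurj : Function.Surjective θ₀) (S : Stage θ₀) : S.carrier →ₐ[R] (S.next hsurj).carrier where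
  __ := algebraMap S.carrier (Step.Next S.θ)
  commutes' r := (IsScalarTower.algebraMap_apply R S.carrier (Step.Next S.θ) r).symm

theorem toNext_θ (hsurj : Function.Surjective θ₀) (S : Stage θ₀) (x : S.carrier) : (S.next hsurj).θ (S.toNext hsurj x) = S.θ x :=
  RingHom.congr_fun (Step.nextθ_comp S.θ) x

end Stage

variable (hθ₀ : Function.Surjective θ₀)

/-- The sequence of stages. -/
def seq : ℕ → Stage θ₀
  | 0 => { carrier := R, θ := θ₀, comp := RingHom.comp_id θ₀, kerLe := (Ideal.map_id _).ge }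
  | n + 1 => (seq n).next hθ₀

/-- The carriers. -/
abbrev G (n : ℕ) : Type u := (seq hθ₀ n).carrier

/-- One transition map. -/
def up (n : ℕ) : G hθ₀ n →ₐ[R] G hθ₀ (n + 1) := (seq hθ₀ n).toNext hθ₀

theorem up_θ (n : ℕ) (x : G hθ₀ n) : (seq hθ₀ (n + 1)).θ (up hθ₀ n x) = (seq hθ₀ n).θ x :=
  (seq hθ₀ n).toNext_θ hθ₀ x

/-- The transition maps. -/
def tr (n m : ℕ) (h : n ≤ m) : G hθ₀ n →ₐ[R] G hθ₀ m :=
  Nat.leRecOn (C := fun k => G hθ₀ n →ₐ[R] G hθ₀ k) h (fun {k} g => (up hθ₀ k).comp g) (AlgHom.id R _)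

theorem tr_self (n : ℕ) : tr hθ₀ n n le_rfl = AlgHom.id R _ :=
  Nat.leRecOn_self (C := fun k => G hθ₀ n →ₐ[R] G hθ₀ k) _

theorem tr_succ {n m : ℕ} (h : n ≤ m) :
    tr hθ₀ n (m + 1) (h.trans (Nat.le_succ m)) = (up hθ₀ m).comp (tr hθ₀ n m h) :=
  Nat.leRecOn_succ (C := fun k => G hθ₀ n →ₐ[R] G hθ₀ k) h _

theorem tr_tr {n m : ℕ} (h : n ≤ m) {k : ℕ} (h' : m ≤ k) :
    (tr hθ₀ m k h').comp (tr hθ₀ n m h) = tr hθ₀ n k (h.trans h') := by
  induction k, h' using Nat.le_induction with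
  | base => rw [tr_self, AlgHom.id_comp]
  | succ k hk ih => rw [tr_succ hθ₀ hk, tr_succ hθ₀ (h.trans hk), AlgHom.comp_assoc, ih]

theorem tr_θ {n m : ℕ} (h : n ≤ m) (x : G hθ₀ n) : (seq hθ₀ m).θ (tr hθ₀ n m h x) = (seq hθ₀ n).θ x := by
  induction m, h using Nat.le_induction with
  | base => rw [tr_self]; rfl
  | succ m hm ih =>
    rw [tr_succ hθ₀ hm, AlgHom.comp_apply]
    exact (up_θ hθ₀ m _).trans ih

instance : DirectedSystem (G hθ₀) fun i j h => tr hθ₀ i j h where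
  map_self i x := by rw [tr_self]; rfl
  map_map i j k hij hjk x := by rw [← AlgHom.comp_apply, tr_tr]

/-- The henselization relative to `θ₀`. -/
abbrev Hens : Type u := DirectLimit (G hθ₀) (fun i j h => tr hθ₀ i j h)

/-- The inclusion of a stage. -/
def of (n : ℕ) : G hθ₀ n →ₐ[R] Hens hθ₀ where
  toFun x := ⟦⟨n, x⟩⟧
  map_one' := (DirectLimit.one_def n).symm
  map_mul' x y := (DirectLimit.mul_def n x y).symm
  map_zero' := (DirectLimit.zero_def n).symm
  map_add' x y := (DirectLimit.add_def n x y).symm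
  commutes' r := (DirectLimit.algebraMap_def n r).symm

theorem of_tr {n m : ℕ} (h : n ≤ m) (x : G hθ₀ n) : of hθ₀ m (tr hθ₀ n m h x) = of hθ₀ n x :=
  (DirectLimit.eq_of_le (f := fun i j h => tr hθ₀ i j h) ⟨n, x⟩ m h).symm

theorem exists_of (z : Hens hθ₀) : ∃ n x, of hθ₀ n x = z :=
  let ⟨n, x, h⟩ := DirectLimit.exists_eq_mk (f := fun i j h => tr hθ₀ i j h) z
  ⟨n, x, h.symm⟩

theorem exists_of₂ (z w : Hens hθ₀) : ∃ n x y, of hθ₀ n x = z ∧ of hθ₀ n y = w :=
  let ⟨n, x, y, h1, h2⟩ := DirectLimit.exists_eq_mk₂ (f := fun i j h => tr hθ₀ i j h) z w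
  ⟨n, x, y, h1.symm, h2.symm⟩

theorem of_eq_of {n : ℕ} {x y : G hθ₀ n} (h : of hθ₀ n x = of hθ₀ n y) :
    ∃ m, ∃ hm : n ≤ m, tr hθ₀ n m hm x = tr hθ₀ n m hm y := by
  obtain ⟨m, h1, h2, h3⟩ := Quotient.exact h
  exact ⟨m, h1, h3⟩

/-- The map to `Ω`. -/
def hensθ : Hens hθ₀ →+* Ω where
  toFun := DirectLimit.lift _ (fun n x => (seq hθ₀ n).θ x) fun i j h x => (tr_θ hθ₀ h x).symm
  map_one' := by rw [DirectLimit.one_def 0]; exact map_one _
  map_mul' := DirectLimit.induction₂ _ fun i x y => by rw [DirectLimit.mul_def]; exact map_mul _ _ _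
  map_zero' := by rw [DirectLimit.zero_def 0]; exact map_zero _
  map_add' := DirectLimit.induction₂ _ fun i x y => by rw [DirectLimit.add_def]; exact map_add _ _ _

theorem hensθ_of (n : ℕ) (x : G hθ₀ n) : hensθ hθ₀ (of hθ₀ n x) = (seq hθ₀ n).θ x := rfl

theorem isUnit_iff_hensθ (z : Hens hθ₀) : IsUnit z ↔ IsUnit (hensθ hθ₀ z) := by
  refine ⟨fun h => h.map (hensθ hθ₀), fun h => ?_⟩
  obtain ⟨n, x, rfl⟩ := exists_of hθ₀ z
  rw [← of_tr hθ₀ (Nat.le_succ n) x] at h ⊢
  exact (Step.isUnit_of_isUnit_nextθ (seq hθ₀ n).θ (x := tr hθ₀ n (n + 1) (Nat.le_succ n) x) h).map (of hθ₀ (n + 1))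

theorem hensθ_comp : (hensθ hθ₀).comp (algebraMap R (Hens hθ₀)) = θ₀ := by
  ext r
  rw [RingHom.comp_apply, ← (of hθ₀ 0).commutes r, hensθ_of]
  rfl

theorem ker_hensθ : RingHom.ker (hensθ hθ₀) = (RingHom.ker θ₀).map (algebraMap R (Hens hθ₀)) := by
  refine le_antisymm (fun z hz => ?_) (Ideal.map_le_iff_le_comap.2 fun r hr => ?_)
  · obtain ⟨n, x, rfl⟩ := exists_of hθ₀ z
    rw [RingHom.mem_ker, hensθ_of] at hz
    have := Ideal.mem_map_of_mem ((of hθ₀ n : _ →ₐ[R] _) : G hθ₀ n →+* Hens hθ₀) ((seq hθ₀ n).kerLe hz)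
    rwa [Ideal.map_map, (of hθ₀ n).comp_algebraMap] at this
  · rw [Ideal.mem_comap, RingHom.mem_ker, ← RingHom.comp_apply, hensθ_comp]
    exact hr

theorem hensθ_surjective : Function.Surjective (hensθ hθ₀) := fun w =>
  let ⟨r, hr⟩ := hθ₀ w
  ⟨algebraMap R _ r, (RingHom.congr_fun (hensθ_comp hθ₀) r).trans hr⟩

theorem exists_coeff_stage (f : Polynomial (Hens hθ₀)) :
    ∀ k : ℕ, ∃ n, ∀ j < k, ∃ x : G hθ₀ n, of hθ₀ n x = f.coeff j := by
  intro k
  induction k with
  | zero => exact ⟨0, fun j hj => absurd hj (Nat.not_lt_zero j)⟩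
  | succ k ih =>
    obtain ⟨n, hn⟩ := ih
    obtain ⟨n', x, hx⟩ := exists_of hθ₀ (f.coeff k)
    refine ⟨max n n', fun j hj => ?_⟩
    rcases Nat.lt_succ_iff_lt_or_eq.1 hj with h | rfl
    · obtain ⟨y, hy⟩ := hn j h
      exact ⟨tr hθ₀ n _ (le_max_left n n') y, (of_tr hθ₀ _ y).trans hy⟩
    · exact ⟨tr hθ₀ n' _ (le_max_right n n') x, (of_tr hθ₀ _ x).trans hx⟩

theorem henselianRing_hens :
    HenselianRing (Hens hθ₀) ((RingHom.ker θ₀).map (algebraMap R (Hens hθ₀))) where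
  jac := fun z hz => by
    rw [Ideal.mem_jacobson_bot]
    intro y
    rw [← ker_hensθ, RingHom.mem_ker] at hz
    rw [isUnit_iff_hensθ, map_add, map_mul, hz, zero_mul, zero_add, map_one]
    exact isUnit_one
  is_henselian f hf a₀ h₁ h₂ := by
    have hu : IsUnit (hensθ hθ₀ (f.derivative.eval a₀)) := by
      obtain ⟨w, hw⟩ := isUnit_iff_exists_inv.1 h₂
      obtain ⟨w, rfl⟩ := Ideal.Quotient.mk_surjective w
      rw [← map_mul, ← map_one (Ideal.Quotient.mk _), Ideal.Quotient.eq, ← ker_hensθ, RingHom.mem_ker, map_sub, map_mul,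
        map_one, sub_eq_zero] at hw
      exact IsUnit.of_mul_eq_one _ hw
    classical
    obtain ⟨n₁, hn₁⟩ := exists_coeff_stage hθ₀ f f.natDegree
    obtain ⟨n₂, y, hy⟩ := exists_of hθ₀ a₀
    let n := max n₁ n₂
    have hc : ∀ j, ∃ x : G hθ₀ n, j < f.natDegree → of hθ₀ n x = f.coeff j := fun j => by
      by_cases hj : j < f.natDegree
      · obtain ⟨x, hx⟩ := hn₁ j hj
        exact ⟨tr hθ₀ n₁ n (le_max_left _ _) x, fun _ => (of_tr hθ₀ _ x).trans hx⟩
      · exact ⟨0, fun h => absurd h hj⟩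
    choose c hc using hc
    let F : Polynomial (G hθ₀ n) := Polynomial.X ^ f.natDegree +
      ∑ j ∈ Finset.range f.natDegree, Polynomial.C (c j) * Polynomial.X ^ j
    have hF : F.Monic := by
      refine Polynomial.monic_X_pow_add ((Polynomial.degree_sum_le _ _).trans_lt
        ((Finset.sup_lt_iff (WithBot.bot_lt_coe _)).2 fun j hj => ?_))
      exact (Polynomial.degree_C_mul_X_pow_le _ _).trans_lt (by exact_mod_cast Finset.mem_range.1 hj)
    have hFf : F.map (of hθ₀ n : G hθ₀ n →+* Hens hθ₀) = f := by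
      conv_rhs => rw [hf.as_sum]
      simp only [F, Polynomial.map_add, Polynomial.map_pow, Polynomial.map_X, Polynomial.map_sum,
        Polynomial.map_mul, Polynomial.map_C]
      congr 1
      exact Finset.sum_congr rfl fun j hj => by
        rw [show ((of hθ₀ n : G hθ₀ n →+* Hens hθ₀)) (c j) = f.coeff j from hc j (Finset.mem_range.1 hj)]
    let b := tr hθ₀ n₂ n (le_max_right _ _) y
    have hb : of hθ₀ n b = a₀ := (of_tr hθ₀ _ y).trans hy
    have hev : ∀ P : Polynomial (G hθ₀ n), P.eval₂ (seq hθ₀ n).θ ((seq hθ₀ n).θ b) =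
        hensθ hθ₀ ((P.map (of hθ₀ n : G hθ₀ n →+* Hens hθ₀)).eval a₀) := fun P => by
      rw [← hb, Polynomial.eval₂_at_apply]
      show _ = hensθ hθ₀ ((P.map _).eval ((of hθ₀ n : G hθ₀ n →+* Hens hθ₀) b))
      rw [Polynomial.eval_map_apply]
      rfl
    let i : Step.Idx (seq hθ₀ n).θ := ⟨(F, (seq hθ₀ n).θ b), hF, by
      rw [hev, hFf, ← RingHom.mem_ker, ker_hensθ]; exact h₁, by
      rw [hev, ← Polynomial.derivative_map, hFf]; exact hu⟩
    let r : G hθ₀ (n + 1) := Step.root (seq hθ₀ n).θ i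
    refine ⟨of hθ₀ (n + 1) r, ?_, ?_⟩
    · show Polynomial.eval _ f = 0
      have h0 : Polynomial.eval₂ (up hθ₀ n : G hθ₀ n →+* G hθ₀ (n + 1)) r F = 0 :=
        Step.aeval_root (seq hθ₀ n).θ i
      have htr : ∀ x, of hθ₀ (n + 1) (up hθ₀ n x) = of hθ₀ n x := fun x => by
        rw [← of_tr hθ₀ (Nat.le_succ n) x, tr_succ hθ₀ le_rfl, tr_self]
        rfl
      have hcomp : ((of hθ₀ (n + 1) : G hθ₀ (n + 1) →+* Hens hθ₀)).comp (up hθ₀ n : G hθ₀ n →+* G hθ₀ (n + 1)) =
          (of hθ₀ n : G hθ₀ n →+* Hens hθ₀) := RingHom.ext htr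
      rw [← hFf, Polynomial.eval_map, ← hcomp]
      have := congrArg (of hθ₀ (n + 1) : G hθ₀ (n + 1) →+* Hens hθ₀) h0
      rw [map_zero, Polynomial.hom_eval₂] at this
      exact this
    · rw [← ker_hensθ, RingHom.mem_ker, map_sub, hensθ_of, ← hb, hensθ_of, sub_eq_zero]
      exact Step.nextθ_root (seq hθ₀ n).θ i

theorem existsUnique_hens_lift_pair {T : Type u} [CommRing T] {J : Ideal T} [HenselianRing T J] (g : R →+* T)
    (τ : Ω →+* T ⧸ J) (hg : (Ideal.Quotient.mk J).comp g = τ.comp θ₀) :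
    ∃! h : Hens hθ₀ →+* T, h.comp (algebraMap R (Hens hθ₀)) = g ∧
      (Ideal.Quotient.mk J).comp h = τ.comp (hensθ hθ₀) := by
  classical
  let gs : ∀ n, {h : G hθ₀ n →+* T // h.comp (algebraMap R (G hθ₀ n)) = g ∧
      (Ideal.Quotient.mk J).comp h = τ.comp (seq hθ₀ n).θ} := fun n => by
    induction n with
    | zero => exact ⟨g, RingHom.comp_id g, hg⟩
    | succ n ih =>
      have hh := (Step.existsUnique_lift_pair (seq hθ₀ n).θ ih.1 τ ih.2.2).choose_spec.1
      refine ⟨(Step.existsUnique_lift_pair (seq hθ₀ n).θ ih.1 τ ih.2.2).choose, ?_, hh.2⟩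
      exact RingHom.ext fun r => (RingHom.congr_fun hh.1 (algebraMap R (G hθ₀ n) r)).trans (RingHom.congr_fun ih.2.1 r)
  have hsucc : ∀ n (x : G hθ₀ n), (gs (n + 1)).1 (up hθ₀ n x) = (gs n).1 x := fun n x =>
    RingHom.congr_fun (Step.existsUnique_lift_pair (seq hθ₀ n).θ (gs n).1 τ (gs n).2.2).choose_spec.1.1 x
  have hcompat : ∀ i j (h : i ≤ j) (x : G hθ₀ i), (gs i).1 x = (gs j).1 (tr hθ₀ i j h x) := by
    intro i j h
    induction j, h using Nat.le_induction with
    | base => intro x; rw [tr_self]; rfl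
    | succ j hj ih => intro x; rw [tr_succ hθ₀ hj, AlgHom.comp_apply, hsucc, ← ih]
  let h : Hens hθ₀ →+* T :=
    { toFun := DirectLimit.lift _ (fun n x => (gs n).1 x) hcompat
      map_one' := by rw [DirectLimit.one_def 0]; exact map_one _
      map_mul' := DirectLimit.induction₂ _ fun i x y => by rw [DirectLimit.mul_def]; exact map_mul _ _ _
      map_zero' := by rw [DirectLimit.zero_def 0]; exact map_zero _
      map_add' := DirectLimit.induction₂ _ fun i x y => by rw [DirectLimit.add_def]; exact map_add _ _ _ }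
  refine ⟨h, ⟨?_, ?_⟩, fun h' ⟨h1, h2⟩ => ?_⟩
  · exact RingHom.ext fun r => by
      rw [RingHom.comp_apply, ← (of hθ₀ 0).commutes r]
      exact RingHom.congr_fun (gs 0).2.1 r
  · refine RingHom.ext fun z => ?_
    obtain ⟨n, x, rfl⟩ := exists_of hθ₀ z
    exact RingHom.congr_fun (gs n).2.2 x
  · refine RingHom.ext fun z => ?_
    obtain ⟨n, x, rfl⟩ := exists_of hθ₀ z
    show h' (of hθ₀ n x) = (gs n).1 x
    induction n with
    | zero =>
      exact ((congrArg h' ((of hθ₀ 0).commutes x)).trans (RingHom.congr_fun h1 x))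
    | succ n ih =>
      have huni := (Step.existsUnique_lift_pair (seq hθ₀ n).θ (gs n).1 τ (gs n).2.2).choose_spec.2
      have heq : h'.comp (of hθ₀ (n + 1) : G hθ₀ (n + 1) →+* Hens hθ₀) = (gs (n + 1)).1 := by
        refine huni _ ⟨RingHom.ext fun y => ?_, RingHom.ext fun y => RingHom.congr_fun h2 (of hθ₀ (n + 1) y)⟩
        refine (congrArg h' ?_).trans (ih y)
        rw [← of_tr hθ₀ (Nat.le_succ n) y, tr_succ hθ₀ le_rfl, tr_self]
        rfl
      exact RingHom.congr_fun heq x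

/-- The henselization of a pair. -/
abbrev PH (A : Type u) [CommRing A] (I : Ideal A) : Type u := Hens (θ₀ := Ideal.Quotient.mk I) Ideal.Quotient.mk_surjective

theorem isPairHenselization_PH (A : Type u) [CommRing A] (I : Ideal A) :
    Hens2.IsPairHenselization A I (PH A I) := by
  have hJ : (RingHom.ker (Ideal.Quotient.mk I)).map (algebraMap A (PH A I)) = I.map (algebraMap A (PH A I)) := by
    rw [Ideal.mk_ker]
  refine ⟨hJ ▸ henselianRing_hens _, fun C _ J f hC hfJ => ?_⟩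
  haveI := hC
  let τ : A ⧸ I →+* C ⧸ J := Ideal.Quotient.lift I ((Ideal.Quotient.mk J).comp f)
    fun a ha => Ideal.Quotient.eq_zero_iff_mem.2 (hfJ (Ideal.mem_map_of_mem f ha))
  obtain ⟨g, ⟨hg1, hg2⟩, huniq⟩ := existsUnique_hens_lift_pair (θ₀ := Ideal.Quotient.mk I) Ideal.Quotient.mk_surjective f τ
    (RingHom.ext fun a => rfl)
  refine ⟨g, hg1, fun g' hg' => huniq g' ⟨hg', RingHom.ext fun z => ?_⟩⟩
  obtain ⟨r, hr⟩ := Ideal.Quotient.mk_surjective (hensθ (θ₀ := Ideal.Quotient.mk I) Ideal.Quotient.mk_surjective z)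
  have hz : z - algebraMap A _ r ∈ I.map (algebraMap A (PH A I)) := by
    rw [← hJ, ← ker_hensθ, RingHom.mem_ker, map_sub, ← RingHom.comp_apply, hensθ_comp, hr, sub_self]
  have hz' : g' z - f r ∈ J := by
    have h := Ideal.mem_map_of_mem g' hz
    rw [map_sub, ← RingHom.comp_apply g', hg', Ideal.map_map, hg'] at h
    exact hfJ h
  rw [RingHom.comp_apply, RingHom.comp_apply, Ideal.Quotient.eq.2 hz', ← hr]
  rfl

end PairHensLib
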