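import Groth.Agent.PairHensLib.Api
import Mathlib.RingTheory.Flat.EquationalCriterion

/-! A pair henselization is the union of the etale neighbourhoods of the pair. -/

set_option autoImplicit false
set_option maxHeartbeats 800000
universe u

noncomputable section

open TensorProduct

namespace PairHensLib

variable {A B : Type u} [CommRing A] [CommRing B] [Algebra A B] {I : Ideal A}

/-- The union of the images of the etale algebras. -/
def etaleImages (A B : Type u) [CommRing A] [CommRing B] [Algebra A B] : Subalgebra A B where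
  carrier := {x | ∃ (U : Type u) (_ : CommRing U) (_ : Algebra A U) (_ : Algebra.Etale A U) (ξ : U →ₐ[A] B) (u : U), ξ u = x}
  algebraMap_mem' a := ⟨A, inferInstance, inferInstance, inferInstance, Algebra.ofId A B, a, rfl⟩
  mul_mem' := by
    rintro _ _ ⟨U, _, _, _, ξ, u, rfl⟩ ⟨V, _, _, _, ζ, v, rfl⟩
    haveI : Algebra.Etale A (U ⊗[A] V) := Algebra.Etale.comp A U (U ⊗[A] V)
    exact ⟨U ⊗[A] V, inferInstance, inferInstance, inferInstance, Algebra.TensorProduct.productMap ξ ζ,
      u ⊗ₜ v, by simp⟩
  add_mem' := by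
    rintro _ _ ⟨U, _, _, _, ξ, u, rfl⟩ ⟨V, _, _, _, ζ, v, rfl⟩
    haveI : Algebra.Etale A (U ⊗[A] V) := Algebra.Etale.comp A U (U ⊗[A] V)
    exact ⟨U ⊗[A] V, inferInstance, inferInstance, inferInstance, Algebra.TensorProduct.productMap ξ ζ,
      u ⊗ₜ 1 + 1 ⊗ₜ v, by simp⟩

theorem exists_etale_finset (s : Finset B) (hs : ∀ x ∈ s, x ∈ etaleImages A B) :
    ∃ (U : Type u) (_ : CommRing U) (_ : Algebra A U) (_ : Algebra.Etale A U) (ξ : U →ₐ[A] B), ∀ x ∈ s, x ∈ ξ.range := by
  classical
  induction s using Finset.induction_on with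
  | empty => exact ⟨A, inferInstance, inferInstance, inferInstance, Algebra.ofId A B, by simp⟩
  | @insert a s _ ih =>
    obtain ⟨U, _, _, _, ξ, hξ⟩ := ih fun x hx => hs x (Finset.mem_insert_of_mem hx)
    obtain ⟨V, _, _, _, ζ, v, hv⟩ := hs a (Finset.mem_insert_self a s)
    haveI : Algebra.Etale A (U ⊗[A] V) := Algebra.Etale.comp A U (U ⊗[A] V)
    refine ⟨U ⊗[A] V, inferInstance, inferInstance, inferInstance, Algebra.TensorProduct.productMap ξ ζ, fun x hx => ?_⟩
    rcases Finset.mem_insert.1 hx with rfl | hx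
    · exact ⟨1 ⊗ₜ v, by simp [hv]⟩
    · obtain ⟨u, hu⟩ := hξ x hx
      exact ⟨u ⊗ₜ 1, by simpa using hu⟩

/-- The reduction of the base is that of the henselization. -/
theorem algebraMap_mem_iff (hB : Hens2.IsPairHenselization A I B) {a : A} :
    algebraMap A B a ∈ I.map (algebraMap A B) ↔ a ∈ I := by
  refine ⟨fun h => ?_, fun h => Ideal.mem_map_of_mem _ h⟩
  have hb := quotientMap_bijective hB 1
  rw [pow_one] at hb
  rw [← Ideal.Quotient.eq_zero_iff_mem] at h ⊢
  exact hb.1 (by rw [Ideal.quotientMap_mk, h, map_zero])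

/-- An etale algebra mapping to the henselization shrinks to an etale neighbourhood. -/
theorem exists_shrink (hB : Hens2.IsPairHenselization A I B) {U : Type u} [CommRing U] [Algebra A U]
    [Algebra.Etale A U] (ξ : U →ₐ[A] B) :
    ∃ (U' : Type u) (_ : CommRing U') (_ : Algebra A U') (_ : Algebra.Etale A U') (ι : U →ₐ[A] U') (ξ' : U' →ₐ[A] B),
      Function.Bijective (Ideal.quotientMap (I.map (algebraMap A U')) (algebraMap A U') Ideal.le_comap_map) ∧
      ξ'.comp ι = ξ := by
  haveI := hB.1
  have hb := quotientMap_bijective hB 1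
  rw [pow_one] at hb
  let q : A ⧸ I →ₐ[A] B ⧸ I.map (algebraMap A B) :=
    { toRingHom := Ideal.quotientMap _ (algebraMap A B) Ideal.le_comap_map
      commutes' := fun a => rfl }
  let e := AlgEquiv.ofBijective q hb
  let σ : U →ₐ[A] A ⧸ I := e.symm.toAlgHom.comp ((Ideal.Quotient.mkₐ A _).comp ξ)
  obtain ⟨δ, hδ, hker⟩ := HenselLib.exists_separating σ
  have hσ : ∀ u, Ideal.Quotient.mk (I.map (algebraMap A B)) (ξ u) = q (σ u) := fun u =>
    (e.apply_symm_apply (Ideal.Quotient.mk _ (ξ u))).symm
  have hu : IsUnit (ξ δ) := HenselLib.isUnit_of_sub_mem (HenselianRing.jac (I := I.map (algebraMap A B))) isUnit_one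
    (Ideal.Quotient.eq.1 (by rw [hσ, hδ, map_one, map_one]))
  haveI : Algebra.Etale U (Localization.Away δ) := Algebra.Etale.of_isLocalizationAway δ
  haveI : Algebra.Etale A (Localization.Away δ) := Algebra.Etale.comp A U (Localization.Away δ)
  let ι := IsScalarTower.toAlgHom A U (Localization.Away δ)
  let ξ' : Localization.Away δ →ₐ[A] B := IsLocalization.Away.liftAlgHom δ (f := ξ) hu
  have hξ' : ξ'.comp ι = ξ := AlgHom.ext fun u => by simp [ξ', ι]
  refine ⟨Localization.Away δ, inferInstance, inferInstance, inferInstance, ι, ξ', ⟨?_, ?_⟩, hξ'⟩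
  · rw [injective_iff_map_eq_zero]
    intro x hx
    obtain ⟨a, rfl⟩ := Ideal.Quotient.mk_surjective x
    rw [Ideal.quotientMap_mk, Ideal.Quotient.eq_zero_iff_mem] at hx
    have := Ideal.mem_map_of_mem (ξ' : Localization.Away δ →+* B) hx
    rw [Ideal.map_map, ξ'.comp_algebraMap] at this
    rw [Ideal.Quotient.eq_zero_iff_mem, ← algebraMap_mem_iff hB]
    simpa using this
  · intro x
    obtain ⟨y, rfl⟩ := Ideal.Quotient.mk_surjective x
    obtain ⟨n, u, hyu⟩ := IsLocalization.Away.surj δ y
    obtain ⟨r, hr⟩ := Ideal.Quotient.mk_surjective (σ u)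
    let M := Ideal.Quotient.mk (I.map (algebraMap A (Localization.Away δ)))
    have hM : ∀ z, σ z = 0 → M (ι z) = 0 := fun z hz => by
      have h1 := Ideal.mem_map_of_mem (ι : U →+* Localization.Away δ) (hker z hz)
      rw [Ideal.map_map, ι.comp_algebraMap] at h1
      have h2 : M (ι z) * M (ι δ) = 0 := by
        rw [← map_mul, ← map_mul]; exact Ideal.Quotient.eq_zero_iff_mem.2 h1
      exact ((IsLocalization.Away.algebraMap_isUnit (S := Localization.Away δ) δ).map M).mul_left_eq_zero.1 h2
    have hM1 : M (ι δ) = 1 := sub_eq_zero.1 (by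
      rw [← map_one M, ← map_one ι, ← map_sub, ← map_sub]
      exact hM _ (by rw [map_sub, hδ, map_one, sub_self]))
    refine ⟨Ideal.Quotient.mk I r, ?_⟩
    rw [Ideal.quotientMap_mk]
    have h3 : M (ι u) = M (ι (algebraMap A U r)) := sub_eq_zero.1 (by
      rw [← map_sub, ← map_sub]
      exact hM _ (by rw [map_sub, σ.commutes, Ideal.Quotient.algebraMap_eq, hr, sub_self]))
    have h4 : M y = M (ι u) := by
      rw [show ι u = y * ι δ ^ n from hyu.symm, map_mul, map_pow, hM1, one_pow, mul_one]
    rw [ι.commutes] at h3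
    exact (h4.trans h3).symm

/-- Finitely many elements of the henselization coming from etale algebras come from one etale neighbourhood. -/
theorem exists_nbhd_finset (hB : Hens2.IsPairHenselization A I B) (s : Finset B) (hs : ∀ x ∈ s, x ∈ etaleImages A B) :
    ∃ (U : Type u) (_ : CommRing U) (_ : Algebra A U) (_ : Algebra.Etale A U) (ξ : U →ₐ[A] B),
      Function.Bijective (Ideal.quotientMap (I.map (algebraMap A U)) (algebraMap A U) Ideal.le_comap_map) ∧
      ∀ x ∈ s, x ∈ ξ.range := by
  obtain ⟨U, _, _, _, ξ, hξ⟩ := exists_etale_finset s hs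
  obtain ⟨U', i1, i2, i3, ι, ξ', hb, hι⟩ := exists_shrink hB ξ
  refine ⟨U', i1, i2, i3, ξ', hb, fun x hx => ?_⟩
  obtain ⟨u, hu⟩ := hξ x hx
  exact ⟨ι u, (AlgHom.congr_fun hι u).trans hu⟩

theorem mem_map_of_mem_etaleImages (hB : Hens2.IsPairHenselization A I B) {x : etaleImages A B}
    (h : (x : B) ∈ I.map (algebraMap A B)) : x ∈ I.map (algebraMap A (etaleImages A B)) := by
  obtain ⟨U, _, _, _, ξ, hb, hξ⟩ := exists_nbhd_finset hB {(x : B)} (by simp)
  obtain ⟨u, hu⟩ := hξ _ (Finset.mem_singleton_self _)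
  obtain ⟨a, ha⟩ := exists_sub_algebraMap_mem hb.2 u
  have ha' : ξ (u - algebraMap A U a) ∈ I.map (algebraMap A B) := by
    have := Ideal.mem_map_of_mem (ξ : U →+* B) ha
    rwa [Ideal.map_map, ξ.comp_algebraMap] at this
  rw [map_sub, ξ.commutes] at ha'
  have haI : a ∈ I := (algebraMap_mem_iff hB).1 (by
    have h1 : ξ u ∈ I.map (algebraMap A B) := by
      rw [show ξ u = (x : B) from hu]; exact h
    have h2 := sub_mem h1 ha'
    rwa [sub_sub_cancel] at h2)
  let ξ₀ : U →ₐ[A] etaleImages A B := ξ.codRestrict _ fun v => ⟨U, _, _, ‹_›, ξ, v, rfl⟩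
  have hmem := Ideal.mem_map_of_mem (ξ₀ : U →+* etaleImages A B) (add_mem ha (Ideal.mem_map_of_mem (algebraMap A U) haI))
  rw [Ideal.map_map, ξ₀.comp_algebraMap, sub_add_cancel] at hmem
  rwa [show x = ξ₀ u from Subtype.ext hu.symm]

open Polynomial in
theorem henselianRing_etaleImages (hB : Hens2.IsPairHenselization A I B) :
    HenselianRing (etaleImages A B) (I.map (algebraMap A (etaleImages A B))) := by
  classical
  haveI := hB.1
  set E := etaleImages A B
  have hmap : ∀ z : E, z ∈ I.map (algebraMap A E) → (z : B) ∈ I.map (algebraMap A B) := fun z hz => by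
    have := Ideal.mem_map_of_mem (E.val : E →+* B) hz
    rwa [Ideal.map_map, E.val.comp_algebraMap] at this
  refine HenselLib.henselianRing_of_gabberRoots (fun z hz => ?_) fun n hn p hp hc => ?_
  · rw [Ideal.mem_jacobson_bot]
    intro y
    have hu : IsUnit ((z * y + 1 : E) : B) := by
      simpa using Ideal.mem_jacobson_bot.1 ((HenselianRing.jac (I := I.map (algebraMap A B))) (hmap z hz)) (y : B)
    obtain ⟨U, _, _, _, ξ, u, hξu⟩ := (z * y + 1 : E).2
    haveI : Algebra.Etale U (Localization.Away u) := Algebra.Etale.of_isLocalizationAway u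
    haveI : Algebra.Etale A (Localization.Away u) := Algebra.Etale.comp A U (Localization.Away u)
    rw [← hξu] at hu
    let ξ' : Localization.Away u →ₐ[A] B := IsLocalization.Away.liftAlgHom u (f := ξ) hu
    obtain ⟨v, hv⟩ := isUnit_iff_exists_inv.1 (IsLocalization.Away.algebraMap_isUnit (S := Localization.Away u) u)
    refine isUnit_iff_exists_inv.2 ⟨⟨ξ' v, _, _, _, ‹_›, ξ', v, rfl⟩, Subtype.ext ?_⟩
    have h1 := congrArg ξ' hv
    rw [map_mul, map_one] at h1
    rw [Subalgebra.coe_mul, ← hξu, Subalgebra.coe_one]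
    simpa [ξ'] using h1
  · let f : E[X] := X ^ n * (X - 1) + p
    have hfm : f.Monic := HenselLib.monic_gabber hp
    have hpB : ∀ i, (p.map (algebraMap E B)).coeff i ∈ I.map (algebraMap A B) := fun i => by
      rw [coeff_map]; exact hmap _ (hc i)
    obtain ⟨α, hα, hroot⟩ := HenselLib.gabberRoots_of_henselianRing (I := I.map (algebraMap A B)) n hn
      (p.map (algebraMap E B)) (natDegree_map_le.trans hp) hpB
    obtain ⟨U, _, _, _, ξ, hξ⟩ := exists_etale_finset ((Finset.range (n + 1)).image fun i => algebraMap E B (p.coeff i))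
      fun x hx => by
        obtain ⟨i, -, rfl⟩ := Finset.mem_image.1 hx
        exact (p.coeff i).2
    choose c hc' using fun (i : Finset.range (n + 1)) => hξ _ (Finset.mem_image_of_mem _ i.2)
    let pU : U[X] := ∑ i ∈ (Finset.range (n + 1)).attach, monomial i.1 (c i)
    let F : U[X] := X ^ n * (X - 1) + pU
    have hFm : F.Monic := HenselLib.monic_gabber (natDegree_sum_le_of_forall_le _ _ fun k _ =>
      (natDegree_monomial_le _).trans (Nat.lt_succ_iff.1 (Finset.mem_range.1 k.2)))
    have hfB : f.map (algebraMap E B) = X ^ n * (X - 1) + p.map (algebraMap E B) := by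
      simp [f, Polynomial.map_add]
    have hF : F.map (ξ : U →+* B) = f.map (algebraMap E B) := by
      have hpU : pU.map (ξ : U →+* B) = p.map (algebraMap E B) := by
        conv_rhs => rw [p.as_sum_range' (n + 1) (Nat.lt_succ_of_le hp), ← Finset.sum_attach]
        simp only [pU, Polynomial.map_sum, map_monomial]
        exact Finset.sum_congr rfl fun i _ => congrArg _ (hc' i)
      rw [hfB, ← hpU]
      simp [F, Polynomial.map_add]
    let P := HenselLib.rootPair F hFm
    letI : Algebra U B := ξ.toRingHom.toAlgebra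
    haveI : IsScalarTower A U B := IsScalarTower.of_algebraMap_eq fun a => (ξ.commutes a).symm
    have hev : ∀ G : U[X], aeval α G = (G.map (ξ : U →+* B)).eval α := fun G => (eval_map _ _).symm
    have hm : P.HasMap α := by
      refine ⟨?_, ?_⟩
      · rw [show P.f = F from rfl, hev, hF, hfB]; exact hroot
      · rw [show P.g = derivative F from rfl, hev, ← derivative_map, hF, hfB]
        refine HenselLib.isUnit_of_sub_mem (HenselianRing.jac (I := I.map (algebraMap A B))) isUnit_one ?_
        rw [← Ideal.Quotient.eq, map_one, ← eval_map_apply, ← derivative_map, Ideal.Quotient.eq.2 hα, map_one]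
        have hp0 : (p.map (algebraMap E B)).map (Ideal.Quotient.mk (I.map (algebraMap A B))) = 0 := Polynomial.ext fun i => by
          rw [coeff_map, Ideal.Quotient.eq_zero_iff_mem.2 (hpB i), coeff_zero]
        simp [Polynomial.map_add, hp0]
    letI : Algebra A P.Ring := ((algebraMap U P.Ring).comp (algebraMap A U)).toAlgebra
    haveI : IsScalarTower A U P.Ring := IsScalarTower.of_algebraMap_eq' rfl
    haveI : Algebra.Etale A P.Ring := Algebra.Etale.comp A U P.Ring
    let αE : E := ⟨α, P.Ring, _, _, ‹_›, (P.lift _ hm).restrictScalars A, P.X, P.lift_X _ hm⟩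
    refine ⟨αE, mem_map_of_mem_etaleImages hB (by simpa [αE] using hα), ?_⟩
    have h0 : (f.map (algebraMap E B)).eval (algebraMap E B αE) = 0 := by rw [hfB]; exact hroot
    rw [eval_map_apply, ← map_zero (algebraMap E B)] at h0
    exact Subtype.val_injective h0

theorem etaleImages_eq_top (hB : Hens2.IsPairHenselization A I B) : etaleImages A B = ⊤ := by
  obtain ⟨g, hg, -⟩ := hB.2 (etaleImages A B) _ (algebraMap A _) (henselianRing_etaleImages hB) le_rfl
  have h : ((etaleImages A B).val : etaleImages A B →+* B).comp g = RingHom.id B :=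
    (hB.2 B _ (algebraMap A B) hB.1 le_rfl).unique (by rw [RingHom.comp_assoc, hg]; exact (etaleImages A B).val.comp_algebraMap)
      (RingHom.id_comp _)
  refine eq_top_iff.2 fun x _ => ?_
  have hx : ((g x : etaleImages A B) : B) = x := RingHom.congr_fun h x
  exact hx ▸ (g x).2

/-- The etale neighbourhoods of a pair exhaust its henselization. -/
theorem exists_nbhd (hB : Hens2.IsPairHenselization A I B) (s : Finset B) :
    ∃ (U : Type u) (_ : CommRing U) (_ : Algebra A U) (_ : Algebra.Etale A U) (ξ : U →ₐ[A] B),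
      Function.Bijective (Ideal.quotientMap (I.map (algebraMap A U)) (algebraMap A U) Ideal.le_comap_map) ∧
      ∀ x ∈ s, x ∈ ξ.range :=
  exists_nbhd_finset hB s fun _ _ => etaleImages_eq_top hB ▸ Algebra.mem_top

/-- A henselization of a pair is one of each of its etale neighbourhoods. -/
theorem isPairHenselization_nbhd (hB : Hens2.IsPairHenselization A I B) {U : Type u} [CommRing U] [Algebra A U]
    [Algebra.Etale A U] [Algebra U B] [IsScalarTower A U B]
    (hb : Function.Bijective (Ideal.quotientMap (I.map (algebraMap A U)) (algebraMap A U) Ideal.le_comap_map)) :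
    Hens2.IsPairHenselization U (I.map (algebraMap A U)) B := by
  refine ⟨?_, fun C _ J h hC hJ => ?_⟩
  · rw [Ideal.map_map, ← IsScalarTower.algebraMap_eq]; exact hB.1
  letI : Algebra A C := (h.comp (algebraMap A U)).toAlgebra
  haveI := hC
  have hIJ : I.map (algebraMap A C) ≤ J := by rw [RingHom.algebraMap_toAlgebra, ← Ideal.map_map]; exact hJ
  obtain ⟨g, hg, hguniq⟩ := hB.2 C J (algebraMap A C) hC hIJ
  obtain ⟨τ, -, huniq⟩ := existsUnique_algHom_of_etaleNbhd (C := C) hb hIJ
  let h' : U →ₐ[A] C := { toRingHom := h, commutes' := fun a => rfl }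
  let g' : U →ₐ[A] C :=
    { toRingHom := g.comp (algebraMap U B)
      commutes' := fun a => by
        show g (algebraMap U B (algebraMap A U a)) = _
        rw [← IsScalarTower.algebraMap_apply, ← RingHom.comp_apply, hg] }
  refine ⟨g, ?_, fun k (hk : k.comp _ = h) => hguniq k ?_⟩
  · exact congrArg (fun v : U →ₐ[A] C => (v : U →+* C)) ((huniq g' trivial).trans (huniq h' trivial).symm)
  · show k.comp (algebraMap A B) = _
    rw [IsScalarTower.algebraMap_eq A U B, ← RingHom.comp_assoc, hk]
    rfl

/-- An element of a neighbourhood vanishing in the henselization vanishes in a smaller one. -/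
theorem exists_nbhd_kernel (hB : Hens2.IsPairHenselization A I B) {U : Type u} [CommRing U] [Algebra A U]
    [Algebra.Etale A U] (hb : Function.Bijective (Ideal.quotientMap (I.map (algebraMap A U)) (algebraMap A U) Ideal.le_comap_map))
    (φ : U →ₐ[A] B) {s : U} (hs : φ s = 0) :
    ∃ (U' : Type u) (_ : CommRing U') (_ : Algebra A U') (_ : Algebra.Etale A U'),
      Function.Bijective (Ideal.quotientMap (I.map (algebraMap A U')) (algebraMap A U') Ideal.le_comap_map) ∧
        ∃ ψ : U →ₐ[A] U', ψ s = 0 := by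
  letI : Algebra U B := φ.toRingHom.toAlgebra
  haveI : IsScalarTower A U B := IsScalarTower.of_algebraMap_eq fun a => (φ.commutes a).symm
  have hBU := isPairHenselization_nbhd hB (U := U) hb
  haveI := flat_of_isPairHenselization hBU
  have hrel : ∑ i : Fin 1, (fun _ => s) i • (fun _ => (1 : B)) i = 0 := by
    simp only [Finset.univ_unique, Finset.sum_singleton, Algebra.smul_def, mul_one]; exact hs
  obtain ⟨k, a, y, hy, ha⟩ := Module.Flat.iff_forall_isTrivialRelation.1 (inferInstance : Module.Flat U B) hrel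
  let N : Ideal U := LinearMap.ker (LinearMap.mulLeft U s)
  have haN : ∀ j, a 0 j ∈ N := fun j => by simpa [N] using ha j
  have h1 : (1 : B) ∈ N.map (algebraMap U B) := by
    rw [show (1 : B) = ∑ j, a 0 j • y j from hy 0]
    exact sum_mem fun j _ => by rw [Algebra.smul_def]; exact Ideal.mul_mem_right _ _ (Ideal.mem_map_of_mem _ (haN j))
  have hb1 := quotientMap_bijective hBU 1
  rw [pow_one] at hb1
  obtain ⟨c, hcN, hc⟩ : ∃ c ∈ N, c - 1 ∈ I.map (algebraMap A U) := by
    have hle : N.map (algebraMap U B) ≤ Ideal.comap (Ideal.Quotient.mk ((I.map (algebraMap A U)).map (algebraMap U B)))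
        ((N.map (Ideal.Quotient.mk (I.map (algebraMap A U)))).map
          (Ideal.quotientMap ((I.map (algebraMap A U)).map (algebraMap U B)) (algebraMap U B) Ideal.le_comap_map)) := by
      rw [Ideal.map_le_iff_le_comap]
      exact fun c hc => Ideal.mem_map_of_mem _ (Ideal.mem_map_of_mem _ hc)
    obtain ⟨x, hx, hx1⟩ := (Ideal.mem_map_iff_of_surjective _ hb1.2).1 (hle h1)
    obtain ⟨c, hc, rfl⟩ := (Ideal.mem_map_iff_of_surjective _ Ideal.Quotient.mk_surjective).1 hx
    exact ⟨c, hc, Ideal.Quotient.eq.1 (hb1.1 (hx1.trans (by simp)))⟩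
  have hu : IsUnit (φ c) := by
    haveI := hB.1
    refine HenselLib.isUnit_of_sub_mem (HenselianRing.jac (I := I.map (algebraMap A B))) isUnit_one ?_
    have := Ideal.mem_map_of_mem (φ : U →+* B) hc
    rw [Ideal.map_map, φ.comp_algebraMap] at this
    simpa using this
  haveI : Algebra.Etale U (Localization.Away c) := Algebra.Etale.of_isLocalizationAway c
  haveI : Algebra.Etale A (Localization.Away c) := Algebra.Etale.comp A U (Localization.Away c)
  obtain ⟨U', i1, i2, i3, ι, -, hb', -⟩ := exists_shrink hB (IsLocalization.Away.liftAlgHom (S := Localization.Away c) c (f := φ) hu)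
  refine ⟨U', i1, i2, i3, hb', ι.comp (IsScalarTower.toAlgHom A U (Localization.Away c)), ?_⟩
  have hsc : c * s = 0 := by
    have h := hcN
    simp only [N, LinearMap.mem_ker, LinearMap.mulLeft_apply] at h
    rw [mul_comm]; exact h
  have h0 : algebraMap U (Localization.Away c) s = 0 := by
    rw [← (IsLocalization.Away.algebraMap_isUnit (S := Localization.Away c) c).mul_right_eq_zero, ← map_mul, hsc, map_zero]
  show ι (algebraMap U _ s) = 0
  rw [h0, map_zero]

end PairHensLib
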