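import Groth.Agent.RichLib.QFLocusConstructible
import Groth.Agent.FlatLib.OpenFP
import Groth.Agent.FlatLib.SchemeFlat
import Groth.Agent.FibDimLib.QFAffine
import Mathlib.RingTheory.Smooth.Locus
import Mathlib.RingTheory.Flat.Localization

/-! Open conditions along a closed subset spread to an etale neighbourhood. -/

set_option autoImplicit false
universe u

noncomputable section

namespace PairHensLib

variable {R : Type u} [CommRing R] (J : Ideal R)

theorem exists_basicOpen_subset {U : Set (PrimeSpectrum R)} (hU : IsOpen U) (h : PrimeSpectrum.zeroLocus (J : Set R) ⊆ U) :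
    ∃ g : R, g - 1 ∈ J ∧ (PrimeSpectrum.basicOpen g : Set (PrimeSpectrum R)) ⊆ U := by
  obtain ⟨K, hK⟩ := (PrimeSpectrum.isClosed_iff_zeroLocus_ideal _).1 hU.isClosed_compl
  have htop : K ⊔ J = ⊤ := by
    by_contra hne
    obtain ⟨m, hm, hle⟩ := Ideal.exists_le_maximal _ hne
    have h1 : (⟨m, hm.isPrime⟩ : PrimeSpectrum R) ∈ U := h (le_sup_right.trans hle)
    exact (hK ▸ (le_sup_left.trans hle : K ≤ m) : (⟨m, hm.isPrime⟩ : PrimeSpectrum R) ∈ Uᶜ) h1
  obtain ⟨g, hg, j, hj, hgj⟩ := Submodule.mem_sup.1 ((Ideal.eq_top_iff_one _).1 htop)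
  refine ⟨g, by rw [← hgj, sub_add_cancel_left]; exact J.neg_mem hj, fun p hp => ?_⟩
  by_contra hpU
  have h1 : p ∈ PrimeSpectrum.zeroLocus (K : Set R) := hK ▸ hpU
  exact hp (h1 hg)

theorem etale_away_quotient_bijective {g : R} (hg : g - 1 ∈ J) :
    Algebra.Etale R (Localization.Away g) ∧ Function.Bijective
      (Ideal.quotientMap (J.map (algebraMap R (Localization.Away g))) (algebraMap R (Localization.Away g)) Ideal.le_comap_map) := by
  have hmk : Ideal.Quotient.mk J g = 1 := by rw [← map_one (Ideal.Quotient.mk J)]; exact Ideal.Quotient.eq.2 hg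
  let ψ : Localization.Away g →+* R ⧸ J := IsLocalization.Away.lift g (g := Ideal.Quotient.mk J) (by rw [hmk]; exact isUnit_one)
  refine ⟨Algebra.Etale.of_isLocalizationAway g, (injective_iff_map_eq_zero _).2 fun x hx => ?_, fun y => ?_⟩
  · obtain ⟨a, rfl⟩ := Ideal.Quotient.mk_surjective x
    rw [Ideal.quotientMap_mk, Ideal.Quotient.eq_zero_iff_mem] at hx
    have := Ideal.mem_map_of_mem ψ hx
    rw [Ideal.map_map, IsLocalization.Away.lift_comp, Ideal.map_quotient_self] at this
    simpa [ψ] using this
  · obtain ⟨z, rfl⟩ := Ideal.Quotient.mk_surjective y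
    obtain ⟨n, a, ha⟩ := IsLocalization.Away.surj g z
    refine ⟨Ideal.Quotient.mk J a, ?_⟩
    have h1 : Ideal.Quotient.mk (J.map (algebraMap R (Localization.Away g))) (algebraMap R _ g) = 1 := by
      rw [← map_one (Ideal.Quotient.mk (J.map _)), ← map_one (algebraMap R (Localization.Away g)), Ideal.Quotient.eq, ← map_sub]
      exact Ideal.mem_map_of_mem _ hg
    rw [Ideal.quotientMap_mk, ← ha, map_mul, map_pow, h1, one_pow, mul_one]

variable {A : Type u} [CommRing A] [Algebra A R]

/-- Local rings of a basic open are local rings. -/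
theorem nonempty_equiv_atPrime (g : R) (q : Ideal (Localization.Away g)) [q.IsPrime] :
    Nonempty (Localization.AtPrime (q.comap (algebraMap R (Localization.Away g))) ≃ₐ[A] Localization.AtPrime q) := by
  haveI := IsLocalization.isLocalization_isLocalization_atPrime_isLocalization (Submonoid.powers g) (Localization.AtPrime q) q
  exact ⟨(IsLocalization.algEquiv (q.comap (algebraMap R (Localization.Away g))).primeCompl
    (Localization.AtPrime (q.comap (algebraMap R (Localization.Away g)))) (Localization.AtPrime q)).restrictScalars A⟩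

theorem exists_etale_of_open (U : Set (PrimeSpectrum R)) (hU : IsOpen U) (h : PrimeSpectrum.zeroLocus (J : Set R) ⊆ U)
    (P : ∀ (R' : Type u) [CommRing R'] [Algebra A R'], Prop)
    (hP : ∀ g : R, (PrimeSpectrum.basicOpen g : Set (PrimeSpectrum R)) ⊆ U → P (Localization.Away g)) :
    ∃ (R' : Type u) (_ : CommRing R') (_ : Algebra R R') (_ : Algebra A R') (_ : IsScalarTower A R R'),
      Algebra.Etale R R' ∧ Function.Bijective (Ideal.quotientMap (J.map (algebraMap R R')) (algebraMap R R') Ideal.le_comap_map) ∧ P R' := by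
  obtain ⟨g, hg, hgU⟩ := exists_basicOpen_subset J hU h
  obtain ⟨h1, h2⟩ := etale_away_quotient_bijective J hg
  exact ⟨Localization.Away g, inferInstance, inferInstance, inferInstance, inferInstance, h1, h2, hP g hgU⟩

theorem flat_away [Algebra.FinitePresentation A R] {g : R}
    (h : (PrimeSpectrum.basicOpen g : Set (PrimeSpectrum R)) ⊆ FlatLib.flatLocus A R R) :
    Module.Flat A (Localization.Away g) := by
  refine Module.flat_of_isLocalized_maximal (S := Localization.Away g) (M := Localization.Away g)
    (fun P => Localization.AtPrime P) (fun P => Algebra.linearMap _ _) fun P hP => ?_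
  let p : PrimeSpectrum R := ⟨P.comap (algebraMap R (Localization.Away g)), inferInstance⟩
  have hp : p ∈ (PrimeSpectrum.basicOpen g : Set (PrimeSpectrum R)) := fun hgp =>
    hP.ne_top (Ideal.eq_top_of_isUnit_mem P hgp (IsLocalization.Away.algebraMap_isUnit g))
  haveI := (FlatLib.mem_flatLocus_self_iff p).1 (h hp)
  obtain ⟨e⟩ := nonempty_equiv_atPrime (A := A) g P
  exact Module.Flat.of_linearEquiv e.symm.toLinearEquiv

theorem quasiFinite_away [Algebra.FiniteType A R] {g : R}
    (h : (PrimeSpectrum.basicOpen g : Set (PrimeSpectrum R)) ⊆ {q | Algebra.QuasiFiniteAt A q.asIdeal}) :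
    Algebra.QuasiFinite A (Localization.Away g) := by
  haveI : Algebra.FiniteType A (Localization.Away g) := Algebra.FiniteType.trans (S := R) inferInstance inferInstance
  refine FibDimLib.quasiFinite_of_forall fun q => ?_
  have hp : PrimeSpectrum.comap (algebraMap R (Localization.Away g)) q ∈ (PrimeSpectrum.basicOpen g : Set (PrimeSpectrum R)) :=
    fun hgp => q.2.ne_top (Ideal.eq_top_of_isUnit_mem q.asIdeal hgp (IsLocalization.Away.algebraMap_isUnit g))
  have hq : Algebra.QuasiFiniteAt A (q.asIdeal.comap (algebraMap R (Localization.Away g))) := h hp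
  obtain ⟨e⟩ := nonempty_equiv_atPrime (A := A) g q.asIdeal
  exact (Algebra.QuasiFinite.iff_of_algEquiv e).1 hq

end PairHensLib
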