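import Groth.Agent.PairHensLib.HEtale
import Groth.Agent.HenselLib.Perm
import Mathlib.RingTheory.ZariskisMainTheorem
import Mathlib.RingTheory.Ideal.GoingUp
import Mathlib.RingTheory.Finiteness.Basic
import Mathlib.RingTheory.Localization.Away.Basic

/-! Henselian finitely presented algebras which are finite modulo the ideal. -/

set_option autoImplicit false
set_option maxHeartbeats 1000000
universe u

noncomputable section

namespace PairHensLib

variable {A R : Type u} [CommRing A] [CommRing R] [Algebra A R] {I : Ideal A}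

theorem quasiFiniteAt_of_quotient [Algebra.FiniteType A R] [Algebra.QuasiFinite A (R ⧸ I.map (algebraMap A R))]
    (q : PrimeSpectrum R) (hq : I.map (algebraMap A R) ≤ q.asIdeal) : Algebra.QuasiFiniteAt A q.asIdeal := by
  let J := I.map (algebraMap A R)
  let c := PrimeSpectrum.comap (Ideal.Quotient.mk J)
  rw [Algebra.quasiFiniteAt_iff_isOpen_singleton_fiber]
  let p := q.comap (algebraMap A R)
  let F := PrimeSpectrum.comap (algebraMap A R) ⁻¹' {p}
  have hI : I ≤ p.asIdeal := fun a ha => hq (Ideal.mem_map_of_mem _ ha)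
  have hmem : ∀ x ∈ F, ∃ y, c y = x := fun x (hx : PrimeSpectrum.comap (algebraMap A R) x = p) => by
    have hJx : J ≤ x.asIdeal := Ideal.map_le_iff_le_comap.2 fun a ha => by
      have h1 : a ∈ p.asIdeal := hI ha
      rwa [← hx] at h1
    exact ⟨⟨x.asIdeal.map (Ideal.Quotient.mk J),
        Ideal.map_isPrime_of_surjective Ideal.Quotient.mk_surjective (by rwa [Ideal.mk_ker])⟩,
      PrimeSpectrum.ext (by
        show (x.asIdeal.map _).comap _ = _
        rw [Ideal.comap_map_of_surjective _ Ideal.Quotient.mk_surjective, ← RingHom.ker_eq_comap_bot, Ideal.mk_ker]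
        exact sup_eq_left.2 hJx)⟩
  have hfin : F.Finite := by
    refine ((Algebra.QuasiFinite.finite_comap_preimage_singleton (R := A) (S := R ⧸ J) p).image c).subset fun x hx => ?_
    obtain ⟨y, rfl⟩ := hmem x hx
    exact ⟨y, hx, rfl⟩
  haveI : Finite F := hfin.to_subtype
  haveI : T1Space F := ⟨fun x => by
    have hx : ({x} : Set F) = Subtype.val ⁻¹' closure {x.1} := by
      ext y
      refine ⟨fun h => subset_closure (congrArg Subtype.val h), fun h => Subtype.ext ?_⟩
      have hle : x.1 ≤ y.1 := (PrimeSpectrum.le_iff_mem_closure _ _).2 h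
      obtain ⟨x', hx'⟩ := hmem x.1 x.2
      obtain ⟨y', hy'⟩ := hmem y.1 y.2
      have hle' : x'.asIdeal ≤ y'.asIdeal := fun z hz => by
        obtain ⟨w, rfl⟩ := Ideal.Quotient.mk_surjective z
        have hw : w ∈ x.1.asIdeal := hx' ▸ hz
        have := hle hw
        rwa [← hy'] at this
      have hu : x'.asIdeal.under A = y'.asIdeal.under A := by
        have h1 : PrimeSpectrum.comap (algebraMap A R) (c x') = PrimeSpectrum.comap (algebraMap A R) (c y') := by
          rw [hx', hy']; exact x.2.trans y.2.symm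
        exact congrArg PrimeSpectrum.asIdeal h1
      have := Algebra.QuasiFinite.eq_of_le_of_under_eq (R := A) x'.asIdeal y'.asIdeal hle' hu
      rw [← hx', ← hy', PrimeSpectrum.ext this]
    rw [hx]
    exact isClosed_closure.preimage continuous_subtype_val⟩
  exact isOpen_discrete _

/-- A finite subalgebra containing the algebra locally around the closed subset. -/
theorem exists_finite_subalgebra [Algebra.FiniteType A R] [Module.Finite A (R ⧸ I.map (algebraMap A R))] :
    ∃ (S : Subalgebra A R) (s : S), Module.Finite A S ∧ (s : R) - 1 ∈ I.map (algebraMap A R) ∧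
      ∀ x : R, ∃ m : ℕ, (s : R) ^ m * x ∈ S := by
  classical
  let J := I.map (algebraMap A R)
  have hqf : ∀ q : PrimeSpectrum (R ⧸ J), ∃ (S' : Subalgebra A R) (r : S'), S'.toSubmodule.FG ∧
      r.1 ∉ (PrimeSpectrum.comap (Ideal.Quotient.mk J) q).asIdeal ∧
      ∀ x : R, ∃ b : S', ∃ m : ℕ, (b : R) = r.1 ^ m * x := fun q => by
    haveI := quasiFiniteAt_of_quotient (A := A) (PrimeSpectrum.comap (Ideal.Quotient.mk J) q) fun x hx => by
      show Ideal.Quotient.mk J x ∈ q.asIdeal
      rw [Ideal.Quotient.eq_zero_iff_mem.2 hx]; exact zero_mem _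
    obtain ⟨S', hS', r, hr, hb⟩ := Algebra.QuasiFiniteAt.exists_fg_and_exists_notMem_and_awayMap_bijective
      (R := A) (PrimeSpectrum.comap (Ideal.Quotient.mk J) q).asIdeal
    exact ⟨S', r, hS', hr, fun x => (Localization.awayMap_surjective_iff.1 hb.2) x⟩
  choose S' r hfg hr hsurj using hqf
  have htop : Ideal.span (Set.range fun q => Ideal.Quotient.mk J (r q).1) = ⊤ := by
    by_contra hne
    obtain ⟨m, hm, hle⟩ := Ideal.exists_le_maximal _ hne
    exact hr ⟨m, hm.isPrime⟩ (hle (Ideal.subset_span ⟨⟨m, hm.isPrime⟩, rfl⟩))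
  obtain ⟨cf, hcf⟩ := Finsupp.mem_ideal_span_range_iff_exists_finsupp.1 ((Ideal.eq_top_iff_one _).1 htop)
  choose gens hgens using hfg
  let G : Set R := ⋃ q ∈ cf.support, (gens q : Set R)
  let S := Algebra.adjoin A G
  have hGint : ∀ x ∈ G, IsIntegral A x := fun x hx => by
    obtain ⟨q, -, hxq⟩ := Set.mem_iUnion₂.1 hx
    exact IsIntegral.of_mem_of_fg (S' q) ⟨gens q, hgens q⟩ x (by
      show x ∈ (S' q).toSubmodule
      rw [← hgens q]; exact Submodule.subset_span hxq)
  haveI : Module.Finite A S := ⟨(Submodule.fg_top _).mpr (fg_adjoin_of_finite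
    (Set.Finite.biUnion cf.support.finite_toSet fun q _ => (gens q).finite_toSet) hGint)⟩
  have hle : ∀ q ∈ cf.support, ∀ x ∈ S' q, x ∈ S := fun q hq x hx => by
    have hx' : x ∈ (S' q).toSubmodule := hx
    rw [← hgens q] at hx'
    have : Submodule.span A (gens q : Set R) ≤ S.toSubmodule := Submodule.span_le.2 fun y hy =>
      Algebra.subset_adjoin (Set.mem_iUnion₂.2 ⟨q, hq, hy⟩)
    exact this hx'
  let C : Ideal S := Ideal.span (Set.range fun q : cf.support => (⟨(r q.1).1, hle q.1 q.2 _ (r q.1).2⟩ : S))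
  let π : S →ₐ[A] R ⧸ J := (Ideal.Quotient.mkₐ A J).comp S.val
  letI : Algebra S (R ⧸ J) := π.toRingHom.toAlgebra
  haveI : IsScalarTower A S (R ⧸ J) := IsScalarTower.of_algebraMap_eq fun a => (π.commutes a).symm
  haveI : Algebra.IsIntegral S (R ⧸ J) := ⟨fun x => (Algebra.IsIntegral.isIntegral (R := A) x).tower_top⟩
  have hC : RingHom.ker (algebraMap S (R ⧸ J)) ⊔ C = ⊤ := by
    by_contra hne
    obtain ⟨m, hm, hle'⟩ := Ideal.exists_le_maximal _ hne
    obtain ⟨Q, hQ, hQm⟩ := Ideal.exists_ideal_over_maximal_of_isIntegral m (le_sup_left.trans hle')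
    refine hQ.ne_top ((Ideal.eq_top_iff_one _).2 ?_)
    rw [← hcf]
    refine Q.sum_mem fun q hq => Q.mul_mem_left _ ?_
    have h1 : (⟨(r q).1, hle q hq _ (r q).2⟩ : S) ∈ m := hle' (Ideal.mem_sup_right (Ideal.subset_span ⟨⟨q, hq⟩, rfl⟩))
    rw [← hQm] at h1
    exact h1
  obtain ⟨k, hk, s, hs, hks⟩ := Submodule.mem_sup.1 ((Ideal.eq_top_iff_one _).1 hC)
  refine ⟨S, s, inferInstance, ?_, fun x => ?_⟩
  · have h1 : (k : R) + s = 1 := congrArg Subtype.val hks
    rw [← h1, sub_add_cancel_right]
    exact J.neg_mem (Ideal.Quotient.eq_zero_iff_mem.1 hk)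
  · let Cx : Ideal S :=
      { carrier := {b | (b : R) * x ∈ S}
        add_mem' := fun {a b} ha hb => by
          show ((a : R) + b) * x ∈ S
          rw [add_mul]; exact add_mem ha hb
        zero_mem' := by show (0 : R) * x ∈ S; rw [zero_mul]; exact zero_mem S
        smul_mem' := fun c b hb => by
          show (c : R) * b * x ∈ S
          rw [mul_assoc]; exact mul_mem c.2 hb }
    have hCx : C ≤ Cx.radical := Ideal.span_le.2 fun _ ⟨q, hq⟩ => by
      subst hq
      obtain ⟨b, m, hb⟩ := hsurj q.1 x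
      refine ⟨m, ?_⟩
      show ((r q.1).1) ^ m * x ∈ S
      rw [← hb]
      exact hle q.1 q.2 _ b.2
    obtain ⟨m, hm⟩ := hCx hs
    exact ⟨m, hm⟩

theorem mem_map_of_mem_map (S : Subalgebra A R) (s : S) (hsx : ∀ x : R, ∃ m : ℕ, (s : R) ^ m * x ∈ S)
    {w : R} (hw : w ∈ I.map (algebraMap A R)) :
    ∃ m : ℕ, ∃ v : S, v ∈ I.map (algebraMap A S) ∧ (v : R) = (s : R) ^ m * w := by
  induction hw using Submodule.span_induction with
  | mem v hv =>
    obtain ⟨a, ha, rfl⟩ := hv
    exact ⟨0, algebraMap A S a, Ideal.mem_map_of_mem _ ha, by simp⟩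
  | zero => exact ⟨0, 0, zero_mem _, by simp⟩
  | add u w _ _ hu hw =>
    obtain ⟨m₁, v₁, hv₁, e₁⟩ := hu
    obtain ⟨m₂, v₂, hv₂, e₂⟩ := hw
    refine ⟨m₁ + m₂, s ^ m₂ * v₁ + s ^ m₁ * v₂, add_mem (Ideal.mul_mem_left _ _ hv₁) (Ideal.mul_mem_left _ _ hv₂), ?_⟩
    simp only [Subalgebra.coe_add, Subalgebra.coe_mul, Subalgebra.coe_pow, e₁, e₂]; ring
  | smul t u _ hu =>
    obtain ⟨m, v, hv, e⟩ := hu
    obtain ⟨m', hm'⟩ := hsx t
    refine ⟨m' + m, ⟨_, hm'⟩ * v, Ideal.mul_mem_left _ _ hv, ?_⟩
    simp only [Subalgebra.coe_mul, e, smul_eq_mul]; ring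

variable {B : Type u} [CommRing B] [Algebra R B] [Algebra A B] [IsScalarTower A R B]

theorem finite_of_quotient_finite [HenselianRing A I] [Algebra.FinitePresentation A R]
    (hB : Hens2.IsPairHenselization R (I.map (algebraMap A R)) B)
    (hfin : (Ideal.quotientMap (I.map (algebraMap A B)) (algebraMap A B) Ideal.le_comap_map).Finite) :
    Module.Finite A B ∧ Algebra.FinitePresentation A B := by
  classical
  haveI := henselianRing_tower hB
  haveI hRI : Module.Finite A (R ⧸ I.map (algebraMap A R)) := by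
    have hb := quotientMap_bijective hB 1
    rw [pow_one] at hb
    letI : Algebra (A ⧸ I) (B ⧸ I.map (algebraMap A B)) := (Ideal.quotientMap _ (algebraMap A B) Ideal.le_comap_map).toAlgebra
    haveI : Module.Finite (A ⧸ I) (B ⧸ I.map (algebraMap A B)) := hfin
    haveI : IsScalarTower A (A ⧸ I) (B ⧸ I.map (algebraMap A B)) := IsScalarTower.of_algebraMap_eq fun a => rfl
    haveI : Module.Finite A (B ⧸ I.map (algebraMap A B)) := Module.Finite.trans (A ⧸ I) _
    let e : (R ⧸ I.map (algebraMap A R)) ≃+* B ⧸ I.map (algebraMap A B) :=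
      (RingEquiv.ofBijective _ hb).trans (Ideal.quotEquivOfEq (map_map_eq I))
    exact Module.Finite.equiv (AlgEquiv.ofRingEquiv (R := A) (f := e) fun a => by
      show Ideal.Quotient.mk _ (algebraMap R B (algebraMap A R a)) = _
      rw [← IsScalarTower.algebraMap_apply]; rfl).symm.toLinearEquiv
  obtain ⟨S, s, hS, hs1, hsx⟩ := exists_finite_subalgebra (A := A) (R := R) (I := I)
  let IS := I.map (algebraMap A S)
  have hISR : ∀ z ∈ IS, (z : R) ∈ I.map (algebraMap A R) := fun z hz => by
    have := Ideal.mem_map_of_mem (S.val : S →+* R) hz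
    rwa [Ideal.map_map, S.val.comp_algebraMap] at this
  -- the idempotent
  obtain ⟨M, v, hv, hve⟩ := mem_map_of_mem_map S s hsx hs1
  have hks : s ^ (M + 1) * (1 - s) ∈ IS := by
    have : s ^ (M + 1) * (1 - s) = -(s * v) := Subtype.ext (by
      simp only [Subalgebra.coe_mul, Subalgebra.coe_pow, Subalgebra.coe_sub, Subalgebra.coe_one, Subalgebra.coe_neg, hve]
      ring)
    rw [this]
    exact neg_mem (IS.mul_mem_left _ hv)
  obtain ⟨a, b, hab⟩ : IsCoprime (1 - s) (s ^ (M + 1)) := IsCoprime.pow_right ⟨1, 1, by ring⟩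
  let e₀ := b * s ^ (M + 1)
  obtain ⟨E, hE, hEe⟩ := HenselLib.exists_idempotent_lift (I := I) (B := S) e₀ (by
    have : e₀ * e₀ - e₀ = -(a * b) * (s ^ (M + 1) * (1 - s)) := by
      linear_combination e₀ * hab
    rw [this]
    exact IS.mul_mem_left _ hks)
  let T := S ⧸ Ideal.span {1 - E}
  let μ : S →ₐ[A] T := Ideal.Quotient.mkₐ A _
  have hμE : μ E = 1 := by
    have h0 : μ (1 - E) = 0 := Ideal.Quotient.eq_zero_iff_mem.2 (Ideal.mem_span_singleton_self (1 - E))
    rw [map_sub, map_one, sub_eq_zero] at h0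
    exact h0.symm
  haveI : Module.Finite A T := Module.Finite.of_surjective μ.toLinearMap Ideal.Quotient.mk_surjective
  have hμI : ∀ z ∈ IS, μ z ∈ I.map (algebraMap A T) := fun z hz => by
    have := Ideal.mem_map_of_mem (μ : S →+* T) hz
    rwa [Ideal.map_map, μ.comp_algebraMap] at this
  haveI hT : HenselianRing T (I.map (algebraMap A T)) := HenselLib.henselianRing_map_of_isIntegral
  have hμs : IsUnit (μ s) := by
    refine HenselLib.isUnit_of_sub_mem (HenselianRing.jac (I := I.map (algebraMap A T))) isUnit_one ?_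
    have h1 : E * (s - 1) ∈ IS := by
      have h2 : e₀ * (s - 1) = -(b * (s ^ (M + 1) * (1 - s))) := by simp only [e₀]; ring
      have h3 : E * (s - 1) = (E - e₀) * (s - 1) + e₀ * (s - 1) := by ring
      rw [h3, h2]
      exact add_mem (IS.mul_mem_right _ hEe) (neg_mem (IS.mul_mem_left _ hks))
    simpa [hμE] using hμI _ h1
  -- the map from the algebra
  let Φ := Localization.awayMap (S.val : S →+* R) s
  have hΦ : Function.Bijective Φ := by
    refine ⟨?_, Localization.awayMap_surjective_iff.2 fun x => ?_⟩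
    · exact IsLocalization.map_injective_of_injective _ _ _ Subtype.val_injective
    · obtain ⟨m, hm⟩ := hsx x
      exact ⟨⟨_, hm⟩, m, rfl⟩
  let j : R →+* T := ((IsLocalization.Away.lift (S := Localization.Away s) s (g := (μ : S →+* T)) hμs).comp
    (RingEquiv.ofBijective Φ hΦ).symm.toRingHom).comp (algebraMap R (Localization.Away ((S.val : S →+* R) s)))
  have hj : ∀ z : S, j z = μ z := fun z => by
    have h : Φ (algebraMap S _ z) = algebraMap R _ ((S.val : S →+* R) z) := by
      exact IsLocalization.map_eq _ z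
    show IsLocalization.Away.lift s hμs ((RingEquiv.ofBijective Φ hΦ).symm (algebraMap R _ ((S.val : S →+* R) z))) = μ z
    rw [← h]
    erw [(RingEquiv.ofBijective Φ hΦ).symm_apply_apply]
    exact IsLocalization.Away.lift_eq s hμs z
  have hjA : j.comp (algebraMap A R) = algebraMap A T := RingHom.ext fun c => by
    show j ((algebraMap A S c : S) : R) = _
    rw [hj]; exact μ.commutes c
  obtain ⟨g, hg, -⟩ := hB.2 T (I.map (algebraMap A T)) j hT (by rw [Ideal.map_map, hjA])
  -- the map to the henselization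
  let ι : S →ₐ[A] B := (IsScalarTower.toAlgHom A R B).comp S.val
  have hιI : ∀ z ∈ IS, ι z ∈ I.map (algebraMap A B) := fun z hz => by
    have := Ideal.mem_map_of_mem (ι : S →+* B) hz
    rwa [Ideal.map_map, ι.comp_algebraMap] at this
  have hιs : ι s - 1 ∈ I.map (algebraMap A B) := by
    have := Ideal.mem_map_of_mem (algebraMap R B) hs1
    rw [map_map_eq, map_sub, map_one] at this
    exact this
  have hιE : ι E = 1 := by
    refine HenselLib.idem_eq_of_sub_mem (HenselianRing.jac (I := I.map (algebraMap A B))) (hE.map ι) IsIdempotentElem.one ?_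
    rw [← Ideal.Quotient.eq_zero_iff_mem, map_sub, map_one, sub_eq_zero]
    let π := Ideal.Quotient.mk (I.map (algebraMap A B))
    have e1 : π (ι E) = π (ι e₀) := sub_eq_zero.1 (by
      rw [← map_sub, ← map_sub]; exact Ideal.Quotient.eq_zero_iff_mem.2 (hιI _ hEe))
    have e2 : π (ι s) = 1 := by rw [← map_one π]; exact Ideal.Quotient.eq.2 hιs
    have e3 : π (ι e₀) = 1 := by
      have h := congrArg (fun z => π (ι z)) hab
      simp only [map_add, map_mul, map_pow, map_sub, map_one, e2, sub_self, mul_zero, zero_add] at h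
      simpa [e₀, e2] using h
    exact e1.trans e3
  have hι0 : ∀ z ∈ Ideal.span {1 - E}, ι z = 0 := fun z hz => by
    obtain ⟨c, rfl⟩ := Ideal.mem_span_singleton.1 hz
    rw [map_mul, map_sub, map_one, hιE, sub_self, zero_mul]
  let θ : T →ₐ[A] B := Ideal.Quotient.liftₐ _ ι hι0
  have hθ : ∀ z, θ (μ z) = ι z := fun z => rfl
  have hus : IsUnit (ι s) := HenselLib.isUnit_of_sub_mem (HenselianRing.jac (I := I.map (algebraMap A B))) isUnit_one hιs
  have hθj : ∀ x : R, θ (j x) = algebraMap R B x := fun x => by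
    obtain ⟨m, hm⟩ := hsx x
    refine (hus.pow m).mul_left_cancel ?_
    have h1 := congrArg θ (hj ⟨_, hm⟩)
    rw [map_mul, map_pow, map_mul, map_pow, hj, hθ, hθ] at h1
    rw [h1]
    show algebraMap R B ((s : R) ^ m * x) = _
    rw [map_mul, map_pow]
    rfl
  have e1 : (θ : T →+* B).comp g = RingHom.id B := by
    refine (hB.2 B _ (algebraMap R B) hB.1 le_rfl).unique (RingHom.ext fun x => ?_) (RingHom.id_comp _)
    show θ (g (algebraMap R B x)) = _
    rw [← RingHom.comp_apply g, hg]
    exact hθj x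
  have e2 : ∀ t, g (θ t) = t := fun t => by
    obtain ⟨z, rfl⟩ := Ideal.Quotient.mk_surjective t
    show g (algebraMap R B z) = _
    rw [← RingHom.comp_apply g, hg]
    exact hj z
  have hbij : Function.Bijective θ :=
    ⟨Function.LeftInverse.injective e2, fun y => ⟨g y, RingHom.congr_fun e1 y⟩⟩
  haveI : Module.Finite A B := Module.Finite.equiv (AlgEquiv.ofBijective θ hbij).toLinearEquiv
  refine ⟨inferInstance, ?_⟩
  let t : R := ((s * E : S) : R)
  have ht : IsUnit (algebraMap R B t) := by
    show IsUnit (ι (s * E))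
    rw [map_mul, hιE, mul_one]; exact hus
  let L : Localization.Away t →ₐ[R] B := IsLocalization.Away.liftAlgHom t (f := Algebra.ofId R B) ht
  have hL : ∀ x, L (algebraMap R _ x) = algebraMap R B x := fun x => L.commutes x
  have hLb : Function.Bijective L := by
    refine ⟨(injective_iff_map_eq_zero L).2 fun z hz => ?_, fun y => ?_⟩
    · obtain ⟨n, x, hx⟩ := IsLocalization.Away.surj t z
      have hx0 : algebraMap R B x = 0 := by rw [← hL, ← hx, map_mul, hz, zero_mul]
      obtain ⟨m, hm⟩ := hsx x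
      have h1 : μ ⟨_, hm⟩ = 0 := by
        rw [← hj, map_mul, map_pow]
        have h2 : j x = 0 := by rw [← e2 (j x), hθj, hx0, map_zero]
        rw [h2, mul_zero]
      obtain ⟨c, hc⟩ := Ideal.mem_span_singleton.1 (Ideal.Quotient.eq_zero_iff_mem.1 h1)
      have h3 : t ^ (m + 1) * x = 0 := by
        have hm1 : E ^ (m + 1) = E := hE.pow_succ_eq m
        have h4 : (s * E) ^ (m + 1) = s * (E * s ^ m) := by rw [mul_pow, hm1, pow_succ]; ring
        have h5 : E * (⟨_, hm⟩ : S) = 0 := by
          rw [hc, ← mul_assoc, mul_sub, mul_one, hE.eq, sub_self, zero_mul]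
        have h6 := congrArg (fun z : S => (s : R) * (z : R)) h5
        simp only [Subalgebra.coe_mul, Subalgebra.coe_zero, mul_zero] at h6
        have h7 : t ^ (m + 1) = (s : R) * ((E : R) * (s : R) ^ m) := congrArg (fun z : S => (z : R)) h4
        rw [h7, ← h6]; ring
      have hxz : algebraMap R (Localization.Away t) x = 0 := by
        rw [← ((IsLocalization.Away.algebraMap_isUnit (S := Localization.Away t) t).pow (m + 1)).mul_right_eq_zero,
          ← map_pow, ← map_mul, h3, map_zero]
      rw [hxz] at hx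
      exact ((IsLocalization.Away.algebraMap_isUnit (S := Localization.Away t) t).pow n).mul_left_eq_zero.1 hx
    · obtain ⟨t', rfl⟩ := hbij.2 y
      obtain ⟨z, rfl⟩ := Ideal.Quotient.mk_surjective t'
      exact ⟨algebraMap R _ (z : R), hL _⟩
  haveI : Algebra.FinitePresentation A (Localization.Away t) := Algebra.FinitePresentation.trans A R (Localization.Away t)
  exact Algebra.FinitePresentation.equiv ((AlgEquiv.ofBijective L hLb).restrictScalars A)

end PairHensLib
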