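import Groth.Agent.HenselLib.Criteria
import Groth.Prelude.Def_Hens2
import Mathlib.Algebra.Colimit.DirectLimit
import Mathlib.Order.DirectedInverseSystem

/-! Henselian pairs and henselizations in directed colimits. -/

set_option autoImplicit false
set_option maxHeartbeats 600000
universe u

noncomputable section

open Polynomial

namespace PairHensLib

variable {ι : Type u} [Preorder ι] [IsDirectedOrder ι] [Nonempty ι]
  {B : ι → Type u} [∀ i, CommRing (B i)] {g : ∀ i j : ι, i ≤ j → (B i →+* B j)}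
  [DirectedSystem B (fun i j h => g i j h)]

local notation "ofB" => DirectLimit.Ring.of B g

theorem iSup_map_mem_iff {J : ∀ i, Ideal (B i)} (hJ : ∀ i j h, (J i).map (g i j h) ≤ J j) (z : DirectLimit B g) :
    z ∈ ⨆ i, (J i).map (ofB i) ↔ ∃ i, ∃ x ∈ J i, ofB i x = z := by
  refine ⟨fun hz => ?_, fun ⟨i, x, hx, hxz⟩ => hxz ▸ Ideal.mem_iSup_of_mem i (Ideal.mem_map_of_mem _ hx)⟩
  have hup : ∀ {i j} (h : i ≤ j) {x : B i}, x ∈ J i → g i j h x ∈ J j := by
    intro i j h x hx
    exact hJ _ _ h (Ideal.mem_map_of_mem _ hx)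
  have hadd : ∀ {x y : DirectLimit B g}, (∃ i, ∃ a ∈ J i, ofB i a = x) → (∃ i, ∃ b ∈ J i, ofB i b = y) →
      ∃ i, ∃ c ∈ J i, ofB i c = x + y := by
    rintro _ _ ⟨i, a, ha, rfl⟩ ⟨j, b, hb, rfl⟩
    obtain ⟨k, hik, hjk⟩ := exists_ge_ge i j
    exact ⟨k, g i k hik a + g j k hjk b, add_mem (hup hik ha) (hup hjk hb), by
      rw [map_add, DirectLimit.Ring.of_f, DirectLimit.Ring.of_f]⟩
  induction hz using Submodule.iSup_induction' with
  | mem i x hx =>
    induction hx using Submodule.span_induction with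
    | mem y hy =>
      obtain ⟨a, ha, rfl⟩ := hy
      exact ⟨i, a, ha, rfl⟩
    | zero => exact ⟨i, 0, zero_mem _, map_zero _⟩
    | add x y _ _ hx hy => exact hadd hx hy
    | smul c x _ hx =>
      obtain ⟨j, a, ha, rfl⟩ := hx
      obtain ⟨k, b, rfl⟩ := DirectLimit.exists_eq_mk (f := fun i j h => g i j h) c
      obtain ⟨l, hjl, hkl⟩ := exists_ge_ge j k
      refine ⟨l, g k l hkl b * g j l hjl a, Ideal.mul_mem_left _ _ (hup hjl ha), ?_⟩
      rw [map_mul, DirectLimit.Ring.of_f, DirectLimit.Ring.of_f]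
      rfl
  | zero =>
    obtain ⟨i⟩ := ‹Nonempty ι›
    exact ⟨i, 0, zero_mem _, map_zero _⟩
  | add x y _ _ hx hy => exact hadd hx hy

/-- A directed colimit of henselian pairs is henselian. -/
theorem henselianRing_directLimit {J : ∀ i, Ideal (B i)} (hJ : ∀ i j h, (J i).map (g i j h) ≤ J j)
    (hh : ∀ i, HenselianRing (B i) (J i)) : HenselianRing (DirectLimit B g) (⨆ i, (J i).map (ofB i)) := by
  classical
  have hup : ∀ {i j} (h : i ≤ j) {x : B i}, x ∈ J i → g i j h x ∈ J j := by
    intro i j h x hx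
    exact hJ _ _ h (Ideal.mem_map_of_mem _ hx)
  refine HenselLib.henselianRing_of_gabberRoots (fun z hz => ?_) fun n hn p hp hc => ?_
  · rw [Ideal.mem_jacobson_bot]
    intro y
    obtain ⟨i, x, hx, rfl⟩ := (iSup_map_mem_iff hJ z).1 hz
    obtain ⟨k, b, rfl⟩ := DirectLimit.exists_eq_mk (f := fun i j h => g i j h) y
    obtain ⟨l, hil, hkl⟩ := exists_ge_ge i k
    have := (Ideal.mem_jacobson_bot.1 ((hh l).jac (hup hil hx)) (g k l hkl b)).map (ofB l)
    rw [map_add, map_mul, map_one, DirectLimit.Ring.of_f, DirectLimit.Ring.of_f] at this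
    exact this
  · have hst : ∀ s : Finset ℕ, ∃ i, ∀ k ∈ s, ∃ x ∈ J i, ofB i x = p.coeff k := by
      intro s
      induction s using Finset.induction_on with
      | empty => obtain ⟨i⟩ := ‹Nonempty ι›; exact ⟨i, by simp⟩
      | @insert a s _ ih =>
        obtain ⟨i, hi⟩ := ih
        obtain ⟨j, x, hx, hxa⟩ := (iSup_map_mem_iff hJ _).1 (hc a)
        obtain ⟨l, hil, hjl⟩ := exists_ge_ge i j
        refine ⟨l, fun k hk => ?_⟩
        rcases Finset.mem_insert.1 hk with rfl | hk
        · exact ⟨g j l hjl x, hup hjl hx, (DirectLimit.Ring.of_f hjl x).trans hxa⟩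
        · obtain ⟨y, hy, hyk⟩ := hi k hk
          exact ⟨g i l hil y, hup hil hy, (DirectLimit.Ring.of_f hil y).trans hyk⟩
    obtain ⟨i, hi⟩ := hst (Finset.range (n + 1))
    choose x hx hxp using hi
    let P : (B i)[X] := ∑ k ∈ (Finset.range (n + 1)).attach, monomial k.1 (x k.1 k.2)
    have hPn : P.natDegree ≤ n := natDegree_sum_le_of_forall_le _ _ fun k _ =>
      (natDegree_monomial_le _).trans (Nat.lt_succ_iff.1 (Finset.mem_range.1 k.2))
    haveI := hh i
    obtain ⟨α, hα, hroot⟩ := HenselLib.gabberRoots_of_henselianRing (I := J i) n hn P hPn fun m => by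
      simp only [P, finset_sum_coeff, coeff_monomial]
      refine sum_mem fun k _ => ?_
      split_ifs
      · exact hx _ _
      · exact zero_mem _
    have hPp : P.map (ofB i) = p := by
      conv_rhs => rw [p.as_sum_range' (n + 1) (Nat.lt_succ_of_le hp), ← Finset.sum_attach]
      simp [P, Polynomial.map_sum, hxp]
    refine ⟨ofB i α, (iSup_map_mem_iff hJ _).2 ⟨i, α - 1, hα, by rw [map_sub, map_one]⟩, ?_⟩
    have := hroot.map (f := ofB i)
    simpa [Polynomial.map_add, hPp] using this

variable {G : ι → Type u} [∀ i, CommRing (G i)] {f : ∀ i j : ι, i ≤ j → (G i →+* G j)}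
  [DirectedSystem G (fun i j h => f i j h)] [∀ i, Algebra (G i) (B i)]
  [Algebra (DirectLimit G f) (DirectLimit B g)]

local notation "ofG" => DirectLimit.Ring.of G f

/-- Henselization of pairs commutes with directed colimits. -/
theorem isPairHenselization_directLimit {I : ∀ i, Ideal (G i)} (hI : ∀ i j h, (I i).map (f i j h) ≤ I j)
    (hB : ∀ i, Hens2.IsPairHenselization (G i) (I i) (B i))
    (hg : ∀ i j h, (g i j h).comp (algebraMap (G i) (B i)) = (algebraMap (G j) (B j)).comp (f i j h))
    (halg : ∀ i x, algebraMap (DirectLimit G f) (DirectLimit B g) (ofG i x) = ofB i (algebraMap (G i) (B i) x)) :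
    Hens2.IsPairHenselization (DirectLimit G f) (⨆ i, (I i).map (ofG i)) (DirectLimit B g) := by
  have hc : ∀ i, (algebraMap (DirectLimit G f) (DirectLimit B g)).comp (ofG i) =
      (ofB i).comp (algebraMap (G i) (B i)) := fun i => RingHom.ext (halg i)
  refine ⟨?_, fun C _ K φ hC hK => ?_⟩
  · rw [Ideal.map_iSup]
    simp only [Ideal.map_map, hc]
    simp only [← Ideal.map_map]
    refine henselianRing_directLimit (J := fun i => (I i).map (algebraMap (G i) (B i))) (fun i j h => ?_) fun i => (hB i).1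
    rw [Ideal.map_map, hg, ← Ideal.map_map]
    exact Ideal.map_mono (hI i j h)
  have hKi : ∀ i, (I i).map (φ.comp (ofG i)) ≤ K := fun i => by
    rw [← Ideal.map_map]
    exact (Ideal.map_mono (le_iSup (fun i => (I i).map (ofG i)) i)).trans hK
  choose u hu huniq using fun i => (hB i).2 C K (φ.comp (ofG i)) hC (hKi i)
  have hcompat : ∀ i j h x, u j (g i j h x) = u i x := fun i j h x => by
    refine RingHom.congr_fun (huniq i ((u j).comp (g i j h)) (RingHom.ext fun y => ?_)) x
    show u j (g i j h (algebraMap (G i) (B i) y)) = φ (ofG i y)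
    rw [show g i j h (algebraMap (G i) (B i) y) = algebraMap (G j) (B j) (f i j h y) from RingHom.congr_fun (hg i j h) y,
      show u j (algebraMap (G j) (B j) (f i j h y)) = φ (ofG j (f i j h y)) from RingHom.congr_fun (hu j) _,
      DirectLimit.Ring.of_f]
  refine ⟨DirectLimit.Ring.lift B g C u hcompat, ?_, fun v (hv : v.comp _ = φ) => ?_⟩
  · refine DirectLimit.Ring.hom_ext (h := fun i => ?_)
    rw [RingHom.comp_assoc, hc, ← RingHom.comp_assoc, DirectLimit.Ring.lift_comp_of, hu]
  · refine DirectLimit.Ring.hom_ext (h := fun i => ?_)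
    rw [DirectLimit.Ring.lift_comp_of]
    refine huniq i _ ?_
    show (v.comp (ofB i)).comp _ = _
    rw [RingHom.comp_assoc, ← hc, ← RingHom.comp_assoc, hv]

end PairHensLib
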