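import Groth.Agent.PairHensLib.HEtale
import Groth.Agent.PairHensLib.Limit
import Groth.Agent.HenselLib.Perm
import Mathlib.RingTheory.FinitePresentation

/-! Compact objects among henselian algebras are henselian finitely presented. -/

set_option autoImplicit false
set_option maxHeartbeats 1000000
universe u

noncomputable section

namespace PairHensLib

variable {A : Type u} [CommRing A] (I : Ideal A) {B : Type u} [CommRing B] [Algebra A B]

/-- A henselized polynomial algebra in the given elements. -/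
theorem exists_henselized_poly [HenselianRing B (I.map (algebraMap A B))] {n : ℕ} (v : Fin n → B) :
    ∃ (P : Type u) (_ : CommRing P) (_ : Algebra (MvPolynomial (Fin n) A) P) (_ : Algebra A P)
      (_ : IsScalarTower A (MvPolynomial (Fin n) A) P),
      Hens2.IsPairHenselization (MvPolynomial (Fin n) A) (I.map (algebraMap A (MvPolynomial (Fin n) A))) P ∧
      ∃ φ : P →ₐ[A] B, ∀ p : MvPolynomial (Fin n) A, φ (algebraMap (MvPolynomial (Fin n) A) P p) = MvPolynomial.aeval v p := by
  let M := MvPolynomial (Fin n) A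
  obtain ⟨P, _, _, hP⟩ : ∃ (P : Type u) (_ : CommRing P) (_ : Algebra M P),
      Hens2.IsPairHenselization M (I.map (algebraMap A M)) P :=
    ⟨PH M _, inferInstance, inferInstance, isPairHenselization_PH M _⟩
  letI : Algebra A P := ((algebraMap M P).comp (algebraMap A M)).toAlgebra
  haveI : IsScalarTower A M P := IsScalarTower.of_algebraMap_eq' rfl
  let ev : M →ₐ[A] B := MvPolynomial.aeval v
  obtain ⟨φ₀, hφ₀, -⟩ := hP.2 B (I.map (algebraMap A B)) (ev : M →+* B) inferInstance
    (by rw [Ideal.map_map, ev.comp_algebraMap])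
  let φ : P →ₐ[A] B := { toRingHom := φ₀, commutes' := fun a => (RingHom.congr_fun hφ₀ (algebraMap A M a)).trans (ev.commutes a) }
  exact ⟨P, inferInstance, inferInstance, inferInstance, inferInstance, hP, φ, fun p => RingHom.congr_fun hφ₀ p⟩

theorem henselianRing_range {P : Type u} [CommRing P] [Algebra A P] [HenselianRing P (I.map (algebraMap A P))]
    (φ : P →ₐ[A] B) : HenselianRing φ.range (I.map (algebraMap A φ.range)) := by
  letI : Algebra P φ.range := φ.rangeRestrict.toRingHom.toAlgebra
  haveI : IsScalarTower A P φ.range := IsScalarTower.of_algebraMap_eq fun a => (φ.rangeRestrict.commutes a).symm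
  haveI : Algebra.IsIntegral P φ.range := ⟨fun x => by
    obtain ⟨p, rfl⟩ := φ.rangeRestrict_surjective x
    exact (show IsIntegral P (algebraMap P φ.range p) from isIntegral_algebraMap)⟩
  rw [IsScalarTower.algebraMap_eq A P φ.range, ← Ideal.map_map]
  exact HenselLib.henselianRing_map_of_isIntegral

/-- The compactness hypothesis. -/
def IsCompactHens (B : Type u) [CommRing B] [Algebra A B] : Prop :=
  ∀ (κ : Type u) [Preorder κ] [IsDirectedOrder κ] [Nonempty κ]
      (Ra : κ → Type u) [∀ a, CommRing (Ra a)] [∀ a, Algebra A (Ra a)]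
      [∀ a, HenselianRing (Ra a) (I.map (algebraMap A (Ra a)))]
      (t : ∀ a b : κ, a ≤ b → (Ra a →+* Ra b)) [DirectedSystem Ra (fun a b hab => t a b hab)],
      (∀ (a b : κ) (hab : a ≤ b), (t a b hab).comp (algebraMap A (Ra a)) = algebraMap A (Ra b)) →
      ∀ (f : ∀ a, Ra a →ₐ[A] B), (∀ a b hab x, f b (t a b hab x) = f a x) →
      (∀ y, ∃ a x, f a x = y) → (∀ a x, f a x = 0 → ∃ b hab, t a b hab x = 0) →
      ∃ (a : κ) (φ : B →ₐ[A] Ra a), ∀ y, f a (φ y) = y

variable {I}

theorem exists_surjection_of_compact [HenselianRing B (I.map (algebraMap A B))] (h : IsCompactHens I B) :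
    ∃ (n : ℕ) (P : Type u) (_ : CommRing P) (_ : Algebra (MvPolynomial (Fin n) A) P) (_ : Algebra A P)
      (_ : IsScalarTower A (MvPolynomial (Fin n) A) P),
      Hens2.IsPairHenselization (MvPolynomial (Fin n) A) (I.map (algebraMap A (MvPolynomial (Fin n) A))) P ∧
      ∃ φ : P →ₐ[A] B, Function.Surjective φ := by
  classical
  let v : ∀ F : Finset B, Fin F.card → B := fun F i => (F.equivFin.symm i : B)
  choose P i1 i2 i3 i4 hP φ hφ using fun F : Finset B => exists_henselized_poly (A := A) I (v F)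
  have hmono : ∀ F G : Finset B, F ≤ G → (φ F).range ≤ (φ G).range := by
    intro F G hFG
    let w : MvPolynomial (Fin F.card) A →ₐ[A] MvPolynomial (Fin G.card) A :=
      MvPolynomial.aeval fun i => MvPolynomial.X (G.equivFin ⟨v F i, hFG (F.equivFin.symm i).2⟩)
    haveI := henselianRing_tower (hP G)
    obtain ⟨k, hk, -⟩ := (hP F).2 (P G) (I.map (algebraMap A (P G))) ((algebraMap (MvPolynomial (Fin G.card) A) (P G)).comp (w : MvPolynomial (Fin F.card) A →+* MvPolynomial (Fin G.card) A))
      inferInstance (by rw [Ideal.map_map, RingHom.comp_assoc, w.comp_algebraMap, ← IsScalarTower.algebraMap_eq])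
    have hcomp : (φ G : P G →+* B).comp k = φ F := by
      refine ((hP F).2 B (I.map (algebraMap A B)) ((φ F : P F →+* B).comp (algebraMap _ _)) inferInstance ?_).unique ?_ rfl
      · rw [Ideal.map_map, RingHom.comp_assoc, ← IsScalarTower.algebraMap_eq, (φ F).comp_algebraMap]
      · refine RingHom.ext fun p => ?_
        show φ G (k (algebraMap _ (P F) p)) = φ F (algebraMap _ _ p)
        rw [← RingHom.comp_apply k, hk, hφ]
        show φ G (algebraMap _ (P G) (w p)) = _
        rw [hφ, ← AlgHom.comp_apply]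
        exact AlgHom.congr_fun (MvPolynomial.algHom_ext (f := (MvPolynomial.aeval (v G)).comp w)
          (g := MvPolynomial.aeval (v F)) fun i => by simp [w, v]) p
    rintro _ ⟨x, rfl⟩
    exact ⟨k x, RingHom.congr_fun hcomp x⟩
  haveI : ∀ F, HenselianRing (P F) (I.map (algebraMap A (P F))) := fun F => henselianRing_tower (hP F)
  haveI : ∀ F, HenselianRing (φ F).range (I.map (algebraMap A (φ F).range)) := fun F => henselianRing_range I (φ F)
  haveI : DirectedSystem (fun F => ↥(φ F).range) fun a b hab => (Subalgebra.inclusion (hmono a b hab)).toRingHom :=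
    { map_self := fun i x => rfl, map_map := fun i j k _ _ x => rfl }
  obtain ⟨F, ψ, hψ⟩ := h (Finset B) (fun F => ↥(φ F).range)
    (fun a b hab => (Subalgebra.inclusion (hmono a b hab)).toRingHom) (fun a b hab => RingHom.ext fun c => rfl)
    (fun F => (φ F).range.val) (fun a b hab x => rfl)
    (fun y => ⟨{y}, ⟨φ {y} (algebraMap (MvPolynomial (Fin ({y} : Finset B).card) A) (P {y}) (MvPolynomial.X ⟨0, by simp⟩)), (φ {y}).mem_range_self _⟩, by
      show φ {y} _ = y
      rw [hφ, MvPolynomial.aeval_X]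
      exact Finset.mem_singleton.1 (({y} : Finset B).equivFin.symm _).2⟩)
    (fun a x hx => ⟨a, le_rfl, Subtype.ext hx⟩)
  refine ⟨F.card, P F, i1 F, i2 F, i3 F, i4 F, hP F, φ F, fun y => ?_⟩
  obtain ⟨p, hp⟩ := (ψ y).2
  exact ⟨p, hp.trans (hψ y)⟩

theorem ker_fg_of_compact [HenselianRing B (I.map (algebraMap A B))] (h : IsCompactHens I B) {n : ℕ}
    {P : Type u} [CommRing P] [Algebra (MvPolynomial (Fin n) A) P] [Algebra A P] [IsScalarTower A (MvPolynomial (Fin n) A) P]
    (hP : Hens2.IsPairHenselization (MvPolynomial (Fin n) A) (I.map (algebraMap A (MvPolynomial (Fin n) A))) P)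
    (φ : P →ₐ[A] B) (hφ : Function.Surjective φ) : (RingHom.ker φ).FG := by
  classical
  let M := MvPolynomial (Fin n) A
  haveI := henselianRing_tower hP
  let K := RingHom.ker φ
  let N : Finset K → Ideal P := fun s => Ideal.span (Subtype.val '' (s : Set K))
  have hNK : ∀ s, N s ≤ K := fun s => Ideal.span_le.2 fun _ ⟨z, _, hz⟩ => hz ▸ z.2
  have hN : ∀ s t, s ≤ t → N s ≤ N t := fun s t hst => Ideal.span_mono (Set.image_mono (Finset.coe_subset.2 hst))
  haveI : ∀ s, HenselianRing (P ⧸ N s) (I.map (algebraMap A (P ⧸ N s))) := fun s => by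
    rw [IsScalarTower.algebraMap_eq A P (P ⧸ N s), ← Ideal.map_map]
    exact HenselLib.henselianRing_map_of_isIntegral
  haveI : DirectedSystem (fun s => P ⧸ N s) fun a b hab => Ideal.Quotient.factor (hN a b hab) :=
    { map_self := fun i x => by obtain ⟨x, rfl⟩ := Ideal.Quotient.mk_surjective x; rfl
      map_map := fun i j k _ _ x => by obtain ⟨x, rfl⟩ := Ideal.Quotient.mk_surjective x; rfl }
  let f : ∀ s, (P ⧸ N s) →ₐ[A] B := fun s => Ideal.Quotient.liftₐ (N s) φ fun x hx => hNK s hx
  obtain ⟨s, ψ, hψ⟩ := h (Finset K) (fun s => P ⧸ N s) (fun a b hab => Ideal.Quotient.factor (hN a b hab))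
    (fun a b hab => RingHom.ext fun c => rfl) f
    (fun a b hab x => by obtain ⟨x, rfl⟩ := Ideal.Quotient.mk_surjective x; rfl)
    (fun y => by obtain ⟨x, rfl⟩ := hφ y; exact ⟨∅, Ideal.Quotient.mk _ x, rfl⟩)
    (fun a x hx => by
      obtain ⟨x, rfl⟩ := Ideal.Quotient.mk_surjective x
      exact ⟨insert ⟨x, hx⟩ a, Finset.subset_insert _ _, Ideal.Quotient.eq_zero_iff_mem.2
        (Ideal.subset_span ⟨⟨x, hx⟩, Finset.mem_insert_self _ _, rfl⟩)⟩)
  choose d hd using fun i : Fin n => Ideal.Quotient.mk_surjective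
    (ψ (φ (algebraMap M P (MvPolynomial.X i))) - Ideal.Quotient.mk (N s) (algebraMap M P (MvPolynomial.X i)))
  have hdK : ∀ i, d i ∈ K := fun i => by
    show φ (d i) = 0
    have h1 := congrArg (f s) (hd i)
    rw [map_sub, hψ] at h1
    exact h1.trans (sub_self _)
  let s' := s ∪ Finset.univ.image fun i => (⟨d i, hdK i⟩ : K)
  have hss : N s ≤ N s' := hN _ _ Finset.subset_union_left
  let α : P →ₐ[A] P ⧸ N s' :=
    ({ toRingHom := Ideal.Quotient.factor hss, commutes' := fun a => rfl } : (P ⧸ N s) →ₐ[A] P ⧸ N s').comp (ψ.comp φ)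
  have hα : α = Ideal.Quotient.mkₐ A (N s') := by
    have hM : α.comp (IsScalarTower.toAlgHom A M P) = (Ideal.Quotient.mkₐ A (N s')).comp (IsScalarTower.toAlgHom A M P) := by
      refine MvPolynomial.algHom_ext fun i => ?_
      have h1 := congrArg (Ideal.Quotient.factor hss) (hd i)
      rw [map_sub] at h1
      refine sub_eq_zero.1 (h1.symm.trans ?_)
      exact Ideal.Quotient.eq_zero_iff_mem.2 (Ideal.subset_span
        ⟨⟨d i, hdK i⟩, Finset.mem_union_right _ (Finset.mem_image_of_mem _ (Finset.mem_univ i)), rfl⟩)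
    have hle : (I.map (algebraMap A M)).map ((α : P →+* P ⧸ N s').comp (algebraMap M P)) ≤ I.map (algebraMap A (P ⧸ N s')) := by
      rw [Ideal.map_map, RingHom.comp_assoc, ← IsScalarTower.algebraMap_eq, α.comp_algebraMap]
    exact AlgHom.coe_ringHom_injective ((hP.2 (P ⧸ N s') _ _ inferInstance hle).unique
      (y₁ := (α : P →+* P ⧸ N s')) (y₂ := (Ideal.Quotient.mkₐ A (N s') : P →+* P ⧸ N s')) rfl
      (congrArg (fun u : M →ₐ[A] P ⧸ N s' => (u : M →+* P ⧸ N s')) hM).symm)
  refine ⟨s'.image Subtype.val, le_antisymm ?_ fun x hx => ?_⟩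
  · rw [Finset.coe_image]; exact hNK s'
  · rw [Finset.coe_image]
    have h1 := AlgHom.congr_fun hα x
    refine Ideal.Quotient.eq_zero_iff_mem.1 (h1.symm.trans ?_)
    show Ideal.Quotient.factor hss (ψ (φ x)) = 0
    rw [show φ x = 0 from hx, map_zero, map_zero]

end PairHensLib
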