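import Groth.Agent.PairHensLib.Api
import Groth.Agent.HenselLib.NewtonSystem
import Mathlib.RingTheory.TensorProduct.Quotient
import Mathlib.RingTheory.Smooth.Flat
import Mathlib.RingTheory.Polynomial.Basic

/-! Henselizations of pairs of algebras over a henselian pair. -/

set_option autoImplicit false
set_option maxHeartbeats 800000
universe u

noncomputable section

open TensorProduct

namespace PairHensLib

variable {A R B : Type u} [CommRing A] [CommRing R] [CommRing B] [Algebra A R] [Algebra R B] [Algebra A B]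
  [IsScalarTower A R B] {I : Ideal A}

theorem map_map_eq (J : Ideal A) : (J.map (algebraMap A R)).map (algebraMap R B) = J.map (algebraMap A B) := by
  rw [Ideal.map_map, ← IsScalarTower.algebraMap_eq]

theorem henselianRing_tower (hB : Hens2.IsPairHenselization R (I.map (algebraMap A R)) B) :
    HenselianRing B (I.map (algebraMap A B)) := (map_map_eq (R := R) (B := B) I) ▸ hB.1

/-- The truncations of the henselization are those of the algebra. -/
theorem nonempty_quotient_algEquiv (hB : Hens2.IsPairHenselization R (I.map (algebraMap A R)) B) (r : ℕ) :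
    Nonempty (((A ⧸ I ^ r) ⊗[A] R) ≃ₐ[A ⧸ I ^ r] (B ⧸ (I ^ r).map (algebraMap A B))) := by
  let e₁ : ((A ⧸ I ^ r) ⊗[A] R) ≃+* R ⧸ (I ^ r).map (algebraMap A R) :=
    (Algebra.TensorProduct.comm A (A ⧸ I ^ r) R).toRingEquiv.trans
      (Algebra.TensorProduct.quotIdealMapEquivTensorQuot R (I ^ r)).symm.toRingEquiv
  have hb := quotientMap_bijective hB r
  let e₂ : R ⧸ ((I.map (algebraMap A R)) ^ r) ≃+* B ⧸ (((I.map (algebraMap A R)) ^ r).map (algebraMap R B)) :=
    RingEquiv.ofBijective _ hb
  have hpow : (I ^ r).map (algebraMap A R) = (I.map (algebraMap A R)) ^ r := Ideal.map_pow _ _ _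
  have hpow' : ((I.map (algebraMap A R)) ^ r).map (algebraMap R B) = (I ^ r).map (algebraMap A B) := by
    rw [← hpow, map_map_eq]
  let e : ((A ⧸ I ^ r) ⊗[A] R) ≃+* B ⧸ (I ^ r).map (algebraMap A B) :=
    (e₁.trans (Ideal.quotEquivOfEq hpow)).trans (e₂.trans (Ideal.quotEquivOfEq hpow'))
  refine ⟨AlgEquiv.ofRingEquiv (f := e) fun x => ?_⟩
  obtain ⟨a, rfl⟩ := Ideal.Quotient.mk_surjective x
  have h1 : e₁ (algebraMap (A ⧸ I ^ r) _ (Ideal.Quotient.mk _ a)) = Ideal.Quotient.mk _ (algebraMap A R a) := by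
    show (Algebra.TensorProduct.quotIdealMapEquivTensorQuot R (I ^ r)).symm (1 ⊗ₜ[A] Ideal.Quotient.mk _ a) = _
    rw [Algebra.TensorProduct.quotIdealMapEquivTensorQuot_symm_tmul, Algebra.smul_def, mul_one]
    rfl
  show Ideal.quotEquivOfEq hpow' (e₂ (Ideal.quotEquivOfEq hpow (e₁ (algebraMap (A ⧸ I ^ r) ((A ⧸ I ^ r) ⊗[A] R) (Ideal.Quotient.mk _ a))))) = _
  rw [h1, Ideal.quotEquivOfEq_mk]
  show Ideal.quotEquivOfEq hpow' (Ideal.Quotient.mk _ (algebraMap R B (algebraMap A R a))) = _
  rw [Ideal.quotEquivOfEq_mk, ← IsScalarTower.algebraMap_apply]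
  rfl

theorem flat_and_etale [Algebra.Etale A R] (hB : Hens2.IsPairHenselization R (I.map (algebraMap A R)) B) :
    Module.Flat A B ∧ ∀ r : ℕ, Algebra.Etale (A ⧸ I ^ r) (B ⧸ (I ^ r).map (algebraMap A B)) := by
  haveI := flat_of_isPairHenselization hB
  refine ⟨Module.Flat.trans A R B, fun r => ?_⟩
  obtain ⟨e⟩ := nonempty_quotient_algEquiv hB r
  exact Algebra.Etale.of_equiv e

theorem flat_and_smooth [Algebra.Smooth A R] (hB : Hens2.IsPairHenselization R (I.map (algebraMap A R)) B) :
    Module.Flat A B ∧ ∀ r : ℕ, Algebra.Smooth (A ⧸ I ^ r) (B ⧸ (I ^ r).map (algebraMap A B)) := by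
  haveI := flat_of_isPairHenselization hB
  refine ⟨Module.Flat.trans A R B, fun r => ?_⟩
  obtain ⟨e⟩ := nonempty_quotient_algEquiv hB r
  exact Algebra.Smooth.of_equiv e

variable {C : Type u} [CommRing C] [Algebra A C] {J : Ideal C} [HenselianRing C J]

/-- Maps out of an h-étale algebra into a henselian pair are determined by their reductions, and lift. -/
theorem algHom_eq_of_reduction [Algebra.Etale A R] (hB : Hens2.IsPairHenselization R (I.map (algebraMap A R)) B)
    (hIJ : I.map (algebraMap A C) ≤ J) (φ ψ : B →ₐ[A] C) (h : ∀ b, φ b - ψ b ∈ J) : φ = ψ := by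
  have h1 := algHom_eq_of_sub_mem (J := J) (φ.comp (IsScalarTower.toAlgHom A R B))
    (ψ.comp (IsScalarTower.toAlgHom A R B)) fun x => h _
  have hle : (I.map (algebraMap A R)).map ((φ : B →+* C).comp (algebraMap R B)) ≤ J := by
    rw [← Ideal.map_map, map_map_eq, Ideal.map_map, φ.comp_algebraMap]; exact hIJ
  exact AlgHom.coe_ringHom_injective ((hB.2 C J _ ‹_› hle).unique (y₁ := (φ : B →+* C)) (y₂ := (ψ : B →+* C)) rfl
    (congrArg (fun u : R →ₐ[A] C => (u : R →+* C)) h1).symm)

theorem exists_algHom_reduction [Algebra.Etale A R] (hB : Hens2.IsPairHenselization R (I.map (algebraMap A R)) B)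
    (hIJ : I.map (algebraMap A C) ≤ J) (χ : B ⧸ I.map (algebraMap A B) →ₐ[A] C ⧸ J) :
    ∃ φ : B →ₐ[A] C, ∀ b, Ideal.Quotient.mk J (φ b) = χ (Ideal.Quotient.mk _ b) := by
  let π : B →ₐ[A] C ⧸ J := χ.comp (Ideal.Quotient.mkₐ A _)
  obtain ⟨τ, hτ⟩ := exists_algHom_lift (π.comp (IsScalarTower.toAlgHom A R B))
  have hle : (I.map (algebraMap A R)).map (τ : R →+* C) ≤ J := by
    rw [Ideal.map_map, τ.comp_algebraMap]; exact hIJ
  obtain ⟨g, hg, -⟩ := hB.2 C J (τ : R →+* C) ‹_› hle
  let φ : B →ₐ[A] C :=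
    { toRingHom := g
      commutes' := fun a => by
        show g (algebraMap A B a) = _
        rw [IsScalarTower.algebraMap_apply A R B, ← RingHom.comp_apply, hg]
        exact τ.commutes a }
  refine ⟨φ, fun b => ?_⟩
  obtain ⟨r, hr⟩ := exists_sub_mem_pow hB 1 b
  rw [pow_one, map_map_eq] at hr
  have h1 : Ideal.Quotient.mk J (φ (b - algebraMap R B r)) = 0 := by
    have := Ideal.mem_map_of_mem (φ : B →+* C) hr
    rw [Ideal.map_map, φ.comp_algebraMap] at this
    exact Ideal.Quotient.eq_zero_iff_mem.2 (hIJ this)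
  have h2 : π (b - algebraMap R B r) = 0 := by
    show χ (Ideal.Quotient.mk _ _) = 0
    rw [Ideal.Quotient.eq_zero_iff_mem.2 hr, map_zero]
  have h3 : Ideal.Quotient.mk J (φ (algebraMap R B r)) = π (algebraMap R B r) := by
    show Ideal.Quotient.mk J (g (algebraMap R B r)) = _
    rw [← RingHom.comp_apply g, hg]
    exact AlgHom.congr_fun hτ r
  rw [map_sub, map_sub, h3, sub_eq_zero] at h1
  rw [map_sub, sub_eq_zero] at h2
  exact h1.trans h2.symm

open MvPolynomial in
/-- An h-finitely presented algebra which is a quotient modulo the ideal is a quotient. -/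
theorem surjective_of_quotient_surjective [HenselianRing A I] [Algebra.FinitePresentation A R]
    (hB : Hens2.IsPairHenselization R (I.map (algebraMap A R)) B)
    (hsurj : Function.Surjective (Ideal.quotientMap (I.map (algebraMap A B)) (algebraMap A B) Ideal.le_comap_map)) :
    Function.Surjective (algebraMap A B) := by
  classical
  haveI := henselianRing_tower hB
  obtain ⟨n, φ, hφ⟩ := Algebra.FiniteType.iff_quotient_mvPolynomial''.1 (inferInstance : Algebra.FiniteType A R)
  let ι := IsScalarTower.toAlgHom A R B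
  let w : Fin n → B := fun i => ι (φ (X i))
  have hex : ∀ i, ∃ (a : A) (Q : MvPolynomial (Fin n) A), Q ∈ I.map C ∧ φ (X i) - algebraMap A R a = φ Q := fun i => by
    obtain ⟨x, hx⟩ := hsurj (Ideal.Quotient.mk _ (w i))
    obtain ⟨a, rfl⟩ := Ideal.Quotient.mk_surjective x
    rw [Ideal.quotientMap_mk] at hx
    have h1 : φ (X i) - algebraMap A R a ∈ I.map (algebraMap A R) := by
      rw [← Ideal.Quotient.eq_zero_iff_mem]
      have hb := quotientMap_bijective hB 1
      rw [pow_one] at hb
      apply hb.1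
      rw [map_zero, Ideal.quotientMap_mk, Ideal.Quotient.eq_zero_iff_mem, map_map_eq, map_sub,
        ← IsScalarTower.algebraMap_apply]
      exact Ideal.Quotient.eq.1 hx.symm
    rw [← φ.comp_algebraMap (R := A), ← Ideal.map_map] at h1
    replace h1 : φ (X i) - algebraMap A R a ∈ (I.map C).map (φ : MvPolynomial (Fin n) A →+* R) := by
      rw [← φ.commutes]; exact h1
    obtain ⟨Q, hQ, hQe⟩ := (Ideal.mem_map_iff_of_surjective (φ : MvPolynomial (Fin n) A →+* R) hφ).1 h1
    exact ⟨a, Q, hQ, hQe.symm⟩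
  choose a Q hQ hQe using hex
  let P : Fin n → MvPolynomial (Fin n) A := fun i => X i - MvPolynomial.C (a i) - Q i
  let D := (Matrix.of fun i j => MvPolynomial.pderiv i (P j)).det
  have hpd : ∀ i (F : MvPolynomial (Fin n) A), F ∈ I.map C → pderiv i F ∈ I.map C := fun i F hF => by
    induction hF using Submodule.span_induction with
    | mem x hx => obtain ⟨c, hc, rfl⟩ := hx; rw [pderiv_C]; exact zero_mem _
    | zero => rw [map_zero]; exact zero_mem _
    | add x y _ _ hx hy => rw [map_add]; exact add_mem hx hy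
    | smul c x hxm hx =>
      rw [smul_eq_mul, Derivation.leibniz]
      exact add_mem (Ideal.mul_mem_left _ _ hx) (Ideal.mul_mem_right _ _ hxm)
  have hD : D - 1 ∈ I.map C := by
    rw [← Ideal.Quotient.eq, RingHom.map_det, map_one]
    convert Matrix.det_one (R := MvPolynomial (Fin n) A ⧸ I.map C) (n := Fin n)
    ext i j
    rw [RingHom.mapMatrix_apply, Matrix.map_apply, Matrix.of_apply, Matrix.one_apply]
    simp only [P, map_sub, pderiv_C, sub_zero, pderiv_X, Ideal.Quotient.eq_zero_iff_mem.2 (hpd i _ (hQ j)), Pi.single_apply]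
    split_ifs with h1 h2 h2 <;> simp_all
  have heval : ∀ {T : Type u} [CommRing T] (ψ : MvPolynomial (Fin n) A →+* T) (F : MvPolynomial (Fin n) A),
      F ∈ I.map C → ψ F ∈ I.map (ψ.comp C) := fun ψ F hF => by
    rw [← Ideal.map_map]; exact Ideal.mem_map_of_mem ψ hF
  -- roots in `A`
  have hPa : ∀ i, eval a (P i) ∈ I := fun i => by
    have h := heval (eval a) _ (hQ i)
    rw [show (eval a).comp C = RingHom.id A from RingHom.ext fun c => eval_C c, Ideal.map_id] at h
    simpa [P] using h
  have hDa : IsUnit (Ideal.Quotient.mk I (eval a D)) := by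
    have h := heval (eval a) _ hD
    rw [show (eval a).comp C = RingHom.id A from RingHom.ext fun c => eval_C c, Ideal.map_id, map_sub, map_one] at h
    rw [Ideal.Quotient.eq.2 h, map_one]
    exact isUnit_one
  obtain ⟨z, hz, hza⟩ := HenselLib.exists_root_system (I := I) P a hPa hDa
  haveI := HenselLib.etale_away_jacobian P
  -- two points of the etale algebra
  have hwP : ∀ i, aeval w (P i) = 0 := fun i => by
    have h : ι (φ (P i)) = 0 := by
      rw [show φ (P i) = 0 by simp only [P, map_sub]; rw [← algebraMap_eq, φ.commutes, hQe i, sub_self], map_zero]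
    rwa [← AlgHom.comp_apply, aeval_unique (ι.comp φ)] at h
  have hzP : ∀ i, aeval (fun j => algebraMap A B (z j)) (P i) = 0 := fun i => by
    rw [show (fun j => algebraMap A B (z j)) = algebraMap A B ∘ z from rfl, aeval_algebraMap_apply]
    rw [show aeval z (P i) = eval z (P i) from RingHom.congr_fun (coe_aeval_eq_eval z) (P i), hz, map_zero]
  have hunit : ∀ v : Fin n → B, IsUnit (aeval v D) := fun v => by
    refine HenselLib.isUnit_of_sub_mem (HenselianRing.jac (I := I.map (algebraMap A B))) isUnit_one ?_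
    have h := heval (aeval v : MvPolynomial (Fin n) A →ₐ[A] B).toRingHom _ hD
    rw [← algebraMap_eq, AlgHom.toRingHom_eq_coe, AlgHom.comp_algebraMap] at h
    simpa using h
  let S₀ := MvPolynomial (Fin n) A ⧸ Ideal.span (Set.range P)
  let mkS : ∀ v : Fin n → B, (∀ i, aeval v (P i) = 0) →
      (Localization.Away (Ideal.Quotient.mk (Ideal.span (Set.range P)) D) →ₐ[A] B) := fun v hv =>
    IsLocalization.Away.liftAlgHom (Ideal.Quotient.mk (Ideal.span (Set.range P)) D)
      (f := Ideal.Quotient.liftₐ _ (aeval v) fun F hF => by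
        have : Ideal.span (Set.range P) ≤ RingHom.ker (aeval v : MvPolynomial (Fin n) A →ₐ[A] B) :=
          Ideal.span_le.2 fun _ ⟨i, hi⟩ => hi ▸ hv i
        exact this hF) (hunit v)
  have hmk : ∀ v hv (F : MvPolynomial (Fin n) A),
      mkS v hv (algebraMap _ _ (Ideal.Quotient.mk (Ideal.span (Set.range P)) F)) = aeval v F := fun v hv F => by
    simp only [mkS, IsLocalization.Away.liftAlgHom]
    erw [IsLocalization.liftAlgHom_apply, IsLocalization.lift_eq]
    rfl
  have heq : mkS w hwP = mkS _ hzP := by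
    refine algHom_eq_of_sub_mem (J := I.map (algebraMap A B)) _ _ fun x => ?_
    have hpoly : ∀ F : MvPolynomial (Fin n) A, Ideal.Quotient.mk (I.map (algebraMap A B)) (aeval w F) =
        Ideal.Quotient.mk _ (aeval (fun j => algebraMap A B (z j)) F) := fun F => by
      refine AlgHom.congr_fun (MvPolynomial.algHom_ext (f := (Ideal.Quotient.mkₐ A _).comp (aeval w))
        (g := (Ideal.Quotient.mkₐ A _).comp (aeval fun j => algebraMap A B (z j))) fun i => ?_) F
      simp only [AlgHom.comp_apply, aeval_X, Ideal.Quotient.mkₐ_eq_mk]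
      have h1 : w i = algebraMap A B (a i) + ι (φ (Q i)) := by
        rw [← hQe, map_sub, AlgHom.commutes, add_sub_cancel]
      have h2 : ι (φ (Q i)) ∈ I.map (algebraMap A B) := by
        have := heval ((ι.comp φ : _ →ₐ[A] B) : MvPolynomial (Fin n) A →+* B) _ (hQ i)
        rwa [← algebraMap_eq, AlgHom.comp_algebraMap] at this
      rw [h1, map_add, Ideal.Quotient.eq_zero_iff_mem.2 h2, add_zero, Ideal.Quotient.eq, ← map_sub, ← neg_sub,
        map_neg]
      exact neg_mem (Ideal.mem_map_of_mem _ (hza i))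
    have hS : (Ideal.Quotient.mkₐ A (I.map (algebraMap A B))).comp (mkS w hwP) = (Ideal.Quotient.mkₐ A _).comp (mkS _ hzP) := by
      refine AlgHom.coe_ringHom_injective (IsLocalization.ringHom_ext (Submonoid.powers
        (Ideal.Quotient.mk (Ideal.span (Set.range P)) D)) (Ideal.Quotient.ringHom_ext (RingHom.ext fun F => ?_)))
      show Ideal.Quotient.mk _ (mkS w hwP _) = Ideal.Quotient.mk _ (mkS _ hzP _)
      rw [hmk w hwP, hmk _ hzP]
      exact hpoly F
    exact Ideal.Quotient.eq.1 (AlgHom.congr_fun hS x)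
  have hwz : ∀ i, w i = algebraMap A B (z i) := fun i => by
    have := AlgHom.congr_fun heq (algebraMap _ _ (Ideal.Quotient.mk (Ideal.span (Set.range P)) (X i)))
    rwa [hmk w hwP, hmk _ hzP, aeval_X, aeval_X] at this
  let S := (Algebra.ofId A B).range
  have hR : ∀ x, ι x ∈ S := fun x => by
    obtain ⟨F, rfl⟩ := hφ x
    induction F using MvPolynomial.induction_on with
    | C c => exact ⟨c, by rw [← algebraMap_eq, φ.commutes, ι.commutes]; rfl⟩
    | add p q hp hq => rw [map_add, map_add]; exact add_mem hp hq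
    | mul_X p i hp => rw [map_mul, map_mul]; exact mul_mem hp ⟨z i, (hwz i).symm⟩
  have hint : Algebra.IsIntegral A S := ⟨fun ⟨s, hs⟩ => by
    obtain ⟨c, rfl⟩ := hs
    exact (show IsIntegral A (algebraMap A S c) from isIntegral_algebraMap)⟩
  let ψ : R →ₐ[A] S := ι.codRestrict S hR
  have hle : (I.map (algebraMap A R)).map (ψ : R →+* S) ≤ I.map (algebraMap A S) := by
    rw [Ideal.map_map, ψ.comp_algebraMap]
  obtain ⟨g, hg, -⟩ := hB.2 S (I.map (algebraMap A S)) (ψ : R →+* S) HenselLib.henselianRing_map_of_isIntegral hle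
  have hid : (S.val : S →+* B).comp g = RingHom.id B := by
    refine (hB.2 B _ (algebraMap R B) hB.1 le_rfl).unique ?_ (RingHom.id_comp _)
    rw [RingHom.comp_assoc, hg]
    rfl
  intro b
  obtain ⟨c, hc⟩ := (g b).2
  exact ⟨c, hc.trans (RingHom.congr_fun hid b)⟩

end PairHensLib
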