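import Groth.Agent.PairHensLib.OpenLocus
import Groth.Agent.PairHensLib.Nbhd
import Groth.Agent.PairHensLib.HEtale
import Groth.Agent.SweepSix.FlatCancel
import Mathlib.RingTheory.Smooth.Fiber
import Mathlib.RingTheory.Unramified.Locus
import Mathlib.RingTheory.Nakayama
import Mathlib.RingTheory.LocalRing.ResidueField.Fiber

/-! Flat henselian finitely presented algebras. -/

set_option autoImplicit false
set_option maxHeartbeats 1000000
universe u

noncomputable section

open TensorProduct

namespace PairHensLib

variable {A R B : Type u} [CommRing A] [CommRing R] [CommRing B] [Algebra A R] [Algebra R B] [Algebra A B]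
  [IsScalarTower A R B] {I : Ideal A}

theorem flat_atPrime_of_flat (hB : Hens2.IsPairHenselization R (I.map (algebraMap A R)) B) [Module.Flat A B]
    (q : Ideal R) [q.IsPrime] (hq : I.map (algebraMap A R) ≤ q) : Module.Flat A (Localization.AtPrime q) := by
  let J := I.map (algebraMap A R)
  have hb := quotientMap_bijective hB 1
  rw [pow_one] at hb
  let e := RingEquiv.ofBijective _ hb
  haveI : (q.map (Ideal.Quotient.mk J)).IsPrime :=
    Ideal.map_isPrime_of_surjective Ideal.Quotient.mk_surjective (by rwa [Ideal.mk_ker])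
  let Q : Ideal B := ((q.map (Ideal.Quotient.mk J)).comap e.symm.toRingHom).comap (Ideal.Quotient.mk _)
  have hQ : Q.comap (algebraMap R B) = q := by
    ext x
    show e.symm (Ideal.Quotient.mk _ (algebraMap R B x)) ∈ q.map (Ideal.Quotient.mk J) ↔ x ∈ q
    rw [show e.symm (Ideal.Quotient.mk _ (algebraMap R B x)) = Ideal.Quotient.mk J x from
      e.symm_apply_eq.2 (Ideal.quotientMap_mk (H := Ideal.le_comap_map)).symm]
    refine ⟨fun h => ?_, Ideal.mem_map_of_mem _⟩
    obtain ⟨y, hy, hyx⟩ := (Ideal.mem_map_iff_of_surjective _ Ideal.Quotient.mk_surjective).1 h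
    have := q.sub_mem hy (hq (Ideal.Quotient.eq.1 hyx))
    rwa [sub_sub_cancel] at this
  haveI : Q.LiesOver q := ⟨hQ.symm⟩
  letI := Localization.AtPrime.algebraOfLiesOver q Q
  let Rq := Localization.AtPrime q
  let BQ := Localization.AtPrime Q
  haveI := flat_of_isPairHenselization hB
  haveI : Module.Flat R BQ := Module.Flat.trans R B BQ
  haveI : Module.Flat A BQ := Module.Flat.trans A B BQ
  haveI : Module.Flat Rq BQ := (Module.flat_iff_of_isLocalization Rq q.primeCompl BQ).2 ‹_›
  haveI : IsLocalHom (algebraMap Rq BQ) := Localization.isLocalHom_localRingHom q Q (algebraMap R B) hQ.symm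
  haveI : Module.FaithfullyFlat Rq BQ := Module.FaithfullyFlat.of_flat_of_isLocalHom
  haveI : IsScalarTower A Rq BQ := IsScalarTower.of_algebraMap_eq fun a => by
    rw [IsScalarTower.algebraMap_apply A R BQ, IsScalarTower.algebraMap_apply R Rq BQ, ← IsScalarTower.algebraMap_apply A R Rq]
  exact SweepSix.flat_of_faithfullyFlat (B := Rq) (C := BQ)

/-- A henselization of a pair is one of a basic open containing the closed subset. -/
theorem exists_structure_away (hB : Hens2.IsPairHenselization R (I.map (algebraMap A R)) B) {g : R}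
    (hg : g - 1 ∈ I.map (algebraMap A R)) :
    ∃ (_ : Algebra (Localization.Away g) B) (_ : IsScalarTower A (Localization.Away g) B),
      Hens2.IsPairHenselization (Localization.Away g) (I.map (algebraMap A (Localization.Away g))) B := by
  haveI := henselianRing_tower hB
  have hu : IsUnit (algebraMap R B g) := HenselLib.isUnit_of_sub_mem (HenselianRing.jac (I := I.map (algebraMap A B)))
    isUnit_one (by
      have := Ideal.mem_map_of_mem (algebraMap R B) hg
      rwa [map_map_eq, map_sub, map_one] at this)
  letI : Algebra (Localization.Away g) B := (IsLocalization.Away.lift g hu).toAlgebra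
  haveI : IsScalarTower R (Localization.Away g) B :=
    IsScalarTower.of_algebraMap_eq fun x => (IsLocalization.Away.lift_eq g hu x).symm
  haveI : IsScalarTower A (Localization.Away g) B := IsScalarTower.of_algebraMap_eq fun a => by
    rw [IsScalarTower.algebraMap_apply A R (Localization.Away g), ← IsScalarTower.algebraMap_apply R,
      ← IsScalarTower.algebraMap_apply]
  obtain ⟨h1, h2⟩ := etale_away_quotient_bijective (I.map (algebraMap A R)) hg
  haveI := h1
  have h := isPairHenselization_nbhd hB (U := Localization.Away g) h2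
  rw [map_map_eq] at h
  exact ⟨inferInstance, inferInstance, h⟩

/-- The flat model. -/
theorem exists_flat_model [Algebra.FinitePresentation A R]
    (hB : Hens2.IsPairHenselization R (I.map (algebraMap A R)) B) [Module.Flat A B] :
    ∃ (S : Type u) (_ : CommRing S) (_ : Algebra A S) (_ : Algebra S B) (_ : IsScalarTower A S B),
      Algebra.FinitePresentation A S ∧ Module.Flat A S ∧
      Hens2.IsPairHenselization S (I.map (algebraMap A S)) B := by
  obtain ⟨g, hg, hgU⟩ := exists_basicOpen_subset (I.map (algebraMap A R)) (FlatLib.isOpen_flatLocus_fp (M := R))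
    fun p hp => (FlatLib.mem_flatLocus_self_iff p).2 (flat_atPrime_of_flat hB p.asIdeal hp)
  obtain ⟨_, _, h⟩ := exists_structure_away hB hg
  exact ⟨Localization.Away g, inferInstance, inferInstance, inferInstance, inferInstance,
    Algebra.FinitePresentation.trans A R (Localization.Away g), flat_away hgU, h⟩

/-- The special fibre of the model. -/
theorem nonempty_algEquiv_specialFibre (hB : Hens2.IsPairHenselization R (I.map (algebraMap A R)) B) :
    Nonempty ((A ⧸ I) ⊗[A] R ≃ₐ[A ⧸ I] B ⧸ I.map (algebraMap A B)) := by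
  have h := nonempty_quotient_algEquiv hB 1
  rwa [pow_one] at h

theorem isSmoothAt_of_specialFibre [Algebra.FinitePresentation A R] [Module.Flat A R]
    [Algebra.Smooth (A ⧸ I) ((A ⧸ I) ⊗[A] R)] (q : Ideal R) [q.IsPrime] (hq : I.map (algebraMap A R) ≤ q) :
    Algebra.IsSmoothAt A q := by
  let p := q.comap (algebraMap A R)
  haveI : q.LiesOver p := ⟨rfl⟩
  have hI : ∀ a ∈ I, algebraMap A p.ResidueField a = 0 := fun a ha =>
    Ideal.algebraMap_residueField_eq_zero.2 (hq (Ideal.mem_map_of_mem _ ha))
  letI : Algebra (A ⧸ I) p.ResidueField := (Ideal.Quotient.lift I (algebraMap A p.ResidueField) hI).toAlgebra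
  haveI : IsScalarTower A (A ⧸ I) p.ResidueField := IsScalarTower.of_algebraMap_eq fun a => rfl
  haveI : Algebra.FormallySmooth p.ResidueField (p.Fiber R) := Algebra.FormallySmooth.of_equiv
    (Algebra.TensorProduct.cancelBaseChange A (A ⧸ I) p.ResidueField p.ResidueField R)
  exact Algebra.IsSmoothAt.of_formallySmooth_fiber p q

theorem exists_formallyUnramified_away [Algebra.FiniteType A R]
    [Algebra.FormallyUnramified A (R ⧸ I.map (algebraMap A R))] :
    ∃ g : R, g - 1 ∈ I.map (algebraMap A R) ∧ Algebra.FormallyUnramified A (Localization.Away g) := by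
  let J := I.map (algebraMap A R)
  let N := Ω[R⁄A] ⧸ (J • ⊤ : Submodule R Ω[R⁄A])
  let D₀ : R →ₗ[A] N := ((J • ⊤ : Submodule R Ω[R⁄A]).mkQ.restrictScalars A).comp (KaehlerDifferential.D A R).toLinearMap
  have hJ : ∀ x ∈ J, D₀ x = 0 := fun x hx => by
    show Submodule.Quotient.mk (KaehlerDifferential.D A R x) = (0 : N)
    rw [Submodule.Quotient.mk_eq_zero]
    induction hx using Submodule.span_induction with
    | mem v hv => obtain ⟨a, -, rfl⟩ := hv; rw [Derivation.map_algebraMap]; exact zero_mem _
    | zero => rw [map_zero]; exact zero_mem _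
    | add x y _ _ hx hy => rw [map_add]; exact add_mem hx hy
    | smul c x hxJ hx =>
      rw [smul_eq_mul, Derivation.leibniz]
      exact add_mem (Submodule.smul_mem _ _ hx) (Submodule.smul_mem_smul hxJ Submodule.mem_top)
  let L : (R ⧸ J) →ₗ[A] N := Submodule.liftQ (J.restrictScalars A) D₀ hJ
  have hL : ∀ x, L (Ideal.Quotient.mk J x) = D₀ x := fun x => rfl
  let d : Derivation A (R ⧸ J) N :=
    { toLinearMap := L
      map_one_eq_zero' := by
        show L (Ideal.Quotient.mk J 1) = 0
        rw [hL]
        show Submodule.Quotient.mk (KaehlerDifferential.D A R 1) = (0 : N)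
        rw [Derivation.map_one_eq_zero, Submodule.Quotient.mk_zero]
      leibniz' := fun x y => by
        obtain ⟨x, rfl⟩ := Ideal.Quotient.mk_surjective x
        obtain ⟨y, rfl⟩ := Ideal.Quotient.mk_surjective y
        rw [← map_mul, hL, hL, hL]
        show Submodule.Quotient.mk (KaehlerDifferential.D A R (x * y)) = _
        rw [Derivation.leibniz, Submodule.Quotient.mk_add, Submodule.Quotient.mk_smul, Submodule.Quotient.mk_smul]
        rfl }
  have hd : ∀ x, d x = 0 := fun x => by
    rw [← d.liftKaehlerDifferential_comp_D x, Subsingleton.elim (KaehlerDifferential.D A (R ⧸ J) x) 0, map_zero]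
  have hle : (⊤ : Submodule R Ω[R⁄A]) ≤ J • ⊤ := by
    conv_lhs => rw [← KaehlerDifferential.span_range_derivation]
    rw [Submodule.span_le]
    rintro _ ⟨x, rfl⟩
    exact (Submodule.Quotient.mk_eq_zero _).1 (hd (Ideal.Quotient.mk J x))
  obtain ⟨g, hg, hg0⟩ := Submodule.exists_sub_one_mem_and_smul_eq_zero_of_fg_of_le_smul J ⊤ Module.Finite.fg_top hle
  refine ⟨g, hg, Algebra.basicOpen_subset_unramifiedLocus_iff.1 fun p hp => ?_⟩
  rw [Algebra.unramifiedLocus_eq_compl_support, Set.mem_compl_iff, Module.notMem_support_iff']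
  exact fun m => ⟨g, hp, hg0 m trivial⟩

theorem exists_smooth_model [Algebra.FinitePresentation A R]
    (hB : Hens2.IsPairHenselization R (I.map (algebraMap A R)) B) [Module.Flat A B]
    [Algebra.Smooth (A ⧸ I) (B ⧸ I.map (algebraMap A B))] :
    ∃ (S : Type u) (_ : CommRing S) (_ : Algebra A S) (_ : Algebra S B) (_ : IsScalarTower A S B),
      Algebra.Smooth A S ∧ Hens2.IsPairHenselization S (I.map (algebraMap A S)) B := by
  obtain ⟨T, _, _, _, _, _, _, hT⟩ := exists_flat_model hB
  obtain ⟨e⟩ := nonempty_algEquiv_specialFibre hT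
  haveI : Algebra.Smooth (A ⧸ I) ((A ⧸ I) ⊗[A] T) := Algebra.Smooth.of_equiv e.symm
  obtain ⟨g, hg, hgU⟩ := exists_basicOpen_subset (I.map (algebraMap A T)) Algebra.isOpen_smoothLocus
    fun p hp => isSmoothAt_of_specialFibre p.asIdeal hp
  obtain ⟨_, _, h⟩ := exists_structure_away hT hg
  exact ⟨Localization.Away g, inferInstance, inferInstance, inferInstance, inferInstance,
    Algebra.basicOpen_subset_smoothLocus_iff_smooth.1 hgU, h⟩

theorem exists_etale_model [Algebra.FinitePresentation A R]
    (hB : Hens2.IsPairHenselization R (I.map (algebraMap A R)) B) [Module.Flat A B]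
    [Algebra.Etale (A ⧸ I) (B ⧸ I.map (algebraMap A B))] :
    ∃ (S : Type u) (_ : CommRing S) (_ : Algebra A S) (_ : Algebra S B) (_ : IsScalarTower A S B),
      Algebra.Etale A S ∧ Hens2.IsPairHenselization S (I.map (algebraMap A S)) B := by
  obtain ⟨T, _, _, _, _, _, _, hT⟩ := exists_flat_model hB
  haveI : Algebra.FormallyUnramified A (B ⧸ I.map (algebraMap A B)) :=
    Algebra.FormallyUnramified.comp A (A ⧸ I) _
  haveI : Algebra.FormallyUnramified A (T ⧸ I.map (algebraMap A T)) := by
    have hb := quotientMap_bijective hT 1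
    rw [pow_one] at hb
    let e : (T ⧸ I.map (algebraMap A T)) ≃+* B ⧸ I.map (algebraMap A B) :=
      (RingEquiv.ofBijective _ hb).trans (Ideal.quotEquivOfEq (map_map_eq I))
    exact Algebra.FormallyUnramified.of_equiv (AlgEquiv.ofRingEquiv (R := A) (f := e) fun a => by
      show Ideal.Quotient.mk _ (algebraMap T B (algebraMap A T a)) = _
      rw [← IsScalarTower.algebraMap_apply]; rfl).symm
  obtain ⟨g, hg, hu⟩ := exists_formallyUnramified_away (A := A) (R := T) (I := I)
  obtain ⟨_, _, h⟩ := exists_structure_away hT hg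
  haveI := hu
  haveI : Algebra.FinitePresentation A (Localization.Away g) :=
    Algebra.FinitePresentation.trans A T (Localization.Away g)
  haveI : Module.Flat A (Localization.Away g) := Module.Flat.trans A T (Localization.Away g)
  exact ⟨Localization.Away g, inferInstance, inferInstance, inferInstance, inferInstance,
    Algebra.Etale.of_formallyUnramified_of_flat, h⟩

end PairHensLib
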