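import Groth.Agent.PairHensLib.HEtale
import Mathlib.RingTheory.Smooth.Basic
import Mathlib.RingTheory.Etale.Basic

/-! Formal lifting properties of henselian finitely presented algebras. -/

set_option autoImplicit false
set_option maxHeartbeats 1000000
universe u

noncomputable section

open TensorProduct

namespace PairHensLib

variable {A : Type u} [CommRing A] {J : Ideal A} {B : Type u} [CommRing B] [Algebra A B]
  {E : Type u} [CommRing E] [Algebra A E]

/-- The structure of an algebra killed by an ideal over the quotient. -/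
@[reducible] def quotAlgebra (hE : J.map (algebraMap A E) = ⊥) : Algebra (A ⧸ J) E :=
  (Ideal.Quotient.lift J (algebraMap A E) fun a ha => by
    simpa [hE] using Ideal.mem_map_of_mem (algebraMap A E) ha).toAlgebra

theorem tower_quotAlgebra (hE : J.map (algebraMap A E) = ⊥) :
    letI := quotAlgebra hE
    IsScalarTower A (A ⧸ J) E := by
  letI := quotAlgebra hE
  exact IsScalarTower.of_algebraMap_eq fun a => rfl

/-- Factorisation through the truncation. -/
theorem existsUnique_factor [Algebra (A ⧸ J) E] [IsScalarTower A (A ⧸ J) E]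
    (u : B →ₐ[A] E) : ∃ w : (B ⧸ J.map (algebraMap A B)) →ₐ[A ⧸ J] E, ∀ b, w (Ideal.Quotient.mk _ b) = u b := by
  have hker : ∀ z ∈ J.map (algebraMap A B), u z = 0 := fun z hz => by
    have hle : J.map (algebraMap A B) ≤ RingHom.ker u := Ideal.map_le_iff_le_comap.2 fun a ha => by
      show u (algebraMap A B a) = 0
      rw [u.commutes, IsScalarTower.algebraMap_apply A (A ⧸ J) E, Ideal.Quotient.algebraMap_eq,
        Ideal.Quotient.eq_zero_iff_mem.2 ha, map_zero]
    exact hle hz
  refine ⟨{ toRingHom := Ideal.Quotient.lift _ (u : B →+* E) hker, commutes' := fun x => ?_ }, fun b => rfl⟩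
  obtain ⟨a, rfl⟩ := Ideal.Quotient.mk_surjective x
  show u (algebraMap A B a) = algebraMap (A ⧸ J) E (algebraMap A (A ⧸ J) a)
  rw [u.commutes, ← IsScalarTower.algebraMap_apply]

/-- Restriction to the algebra. -/
def unfactor [Algebra (A ⧸ J) E] [IsScalarTower A (A ⧸ J) E]
    (w : (B ⧸ J.map (algebraMap A B)) →ₐ[A ⧸ J] E) : B →ₐ[A] E where
  toRingHom := (w : _ →+* E).comp (Ideal.Quotient.mk _)
  commutes' a := by
    show w (Ideal.Quotient.mk _ (algebraMap A B a)) = algebraMap A E a
    rw [IsScalarTower.algebraMap_apply A (A ⧸ J) E, ← w.commutes]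
    rfl

theorem unfactor_apply [Algebra (A ⧸ J) E] [IsScalarTower A (A ⧸ J) E]
    (w : (B ⧸ J.map (algebraMap A B)) →ₐ[A ⧸ J] E) (b : B) : unfactor w b = w (Ideal.Quotient.mk _ b) := rfl

theorem exists_lift_of_formallySmooth [Algebra.FormallySmooth (A ⧸ J) (B ⧸ J.map (algebraMap A B))]
    (hE : J.map (algebraMap A E) = ⊥) {C : Type u} [CommRing C] [Algebra A C] (hC : J.map (algebraMap A C) = ⊥)
    (p : E →ₐ[A] C) (hp : Function.Surjective p) (hnil : IsNilpotent (RingHom.ker (p : E →+* C))) (u : B →ₐ[A] C) :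
    ∃ v : B →ₐ[A] E, p.comp v = u := by
  letI := quotAlgebra hE
  letI := quotAlgebra hC
  haveI := tower_quotAlgebra hE
  haveI := tower_quotAlgebra hC
  obtain ⟨w, hw⟩ := existsUnique_factor (J := J) u
  let p' : E →ₐ[A ⧸ J] C :=
    { toRingHom := (p : E →+* C)
      commutes' := fun x => by
        obtain ⟨a, rfl⟩ := Ideal.Quotient.mk_surjective x
        exact p.commutes a }
  let v' := Algebra.FormallySmooth.liftOfSurjective w p' hp hnil
  refine ⟨unfactor v', AlgHom.ext fun b => ?_⟩
  exact (Algebra.FormallySmooth.liftOfSurjective_apply w p' hp hnil _).trans (hw b)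

theorem lift_unique_of_formallyUnramified [Algebra.FormallyUnramified (A ⧸ J) (B ⧸ J.map (algebraMap A B))]
    (hE : J.map (algebraMap A E) = ⊥) {C : Type u} [CommRing C] [Algebra A C]
    (p : E →ₐ[A] C) (hnil : IsNilpotent (RingHom.ker (p : E →+* C))) (v v' : B →ₐ[A] E)
    (h : p.comp v = p.comp v') : v = v' := by
  letI := quotAlgebra hE
  haveI := tower_quotAlgebra hE
  obtain ⟨w, hw⟩ := existsUnique_factor (J := J) v
  obtain ⟨w', hw'⟩ := existsUnique_factor (J := J) v'
  have : w = w' := Algebra.FormallyUnramified.ext' (p : E →+* C) hnil w w' fun x => by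
    obtain ⟨b, rfl⟩ := Ideal.Quotient.mk_surjective x
    rw [hw, hw']
    exact AlgHom.congr_fun h b
  exact AlgHom.ext fun b => by rw [← hw, ← hw', this]

theorem formallySmooth_of_lift
    (h : ∀ (E : Type u) [CommRing E] [Algebra A E] (K : Ideal E), J.map (algebraMap A E) = ⊥ → K ^ 2 = ⊥ →
      ∀ u : B →ₐ[A] E ⧸ K, ∃ v : B →ₐ[A] E, (Ideal.Quotient.mkₐ A K).comp v = u) :
    Algebra.FormallySmooth (A ⧸ J) (B ⧸ J.map (algebraMap A B)) := by
  refine Algebra.FormallySmooth.of_comp_surjective fun E _ _ K hK u => ?_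
  letI : Algebra A E := ((algebraMap (A ⧸ J) E).comp (Ideal.Quotient.mk J)).toAlgebra
  haveI : IsScalarTower A (A ⧸ J) E := IsScalarTower.of_algebraMap_eq fun a => rfl
  have hE : J.map (algebraMap A E) = ⊥ := by
    rw [RingHom.algebraMap_toAlgebra, ← Ideal.map_map, Ideal.map_quotient_self, Ideal.map_bot]
  obtain ⟨v, hv⟩ := h E K hE hK (unfactor u)
  obtain ⟨w, hw⟩ := existsUnique_factor (J := J) v
  refine ⟨w, AlgHom.ext fun x => ?_⟩
  obtain ⟨b, rfl⟩ := Ideal.Quotient.mk_surjective x
  show Ideal.Quotient.mk K (w _) = _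
  rw [hw]
  exact AlgHom.congr_fun hv b

theorem formallyUnramified_of_unique
    (h : ∀ (E : Type u) [CommRing E] [Algebra A E] (K : Ideal E), J.map (algebraMap A E) = ⊥ → K ^ 2 = ⊥ →
      ∀ v v' : B →ₐ[A] E, (Ideal.Quotient.mkₐ A K).comp v = (Ideal.Quotient.mkₐ A K).comp v' → v = v') :
    Algebra.FormallyUnramified (A ⧸ J) (B ⧸ J.map (algebraMap A B)) := by
  refine Algebra.FormallyUnramified.iff_comp_injective.2 fun E _ _ K hK w w' hww => ?_
  letI : Algebra A E := ((algebraMap (A ⧸ J) E).comp (Ideal.Quotient.mk J)).toAlgebra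
  haveI : IsScalarTower A (A ⧸ J) E := IsScalarTower.of_algebraMap_eq fun a => rfl
  have hE : J.map (algebraMap A E) = ⊥ := by
    rw [RingHom.algebraMap_toAlgebra, ← Ideal.map_map, Ideal.map_quotient_self, Ideal.map_bot]
  have := h E K hE hK (unfactor w) (unfactor w') (AlgHom.ext fun b => AlgHom.congr_fun hww _)
  refine AlgHom.ext fun x => ?_
  obtain ⟨b, rfl⟩ := Ideal.Quotient.mk_surjective x
  exact AlgHom.congr_fun this b

theorem finitePresentation_truncation {R : Type u} [CommRing R] [Algebra A R] [Algebra R B] [IsScalarTower A R B]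
    [Algebra.FinitePresentation A R] {I : Ideal A} (hB : Hens2.IsPairHenselization R (I.map (algebraMap A R)) B) (r : ℕ) :
    Algebra.FinitePresentation (A ⧸ I ^ r) (B ⧸ (I ^ r).map (algebraMap A B)) := by
  obtain ⟨e⟩ := nonempty_quotient_algEquiv hB r
  exact Algebra.FinitePresentation.equiv e

end PairHensLib
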