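import Groth.Agent.PairHensLib.Nbhd
import Groth.Agent.PairHensLib.HEtale
import Mathlib.RingTheory.FinitePresentation

/-! Henselian finitely presented algebras. -/

set_option autoImplicit false
set_option maxHeartbeats 1000000
universe u

noncomputable section

open TensorProduct

namespace PairHensLib

variable {A : Type u} [CommRing A] {I : Ideal A} {R B : Type u} [CommRing R] [Algebra A R] [CommRing B] [Algebra R B]
  [Algebra A B] [IsScalarTower A R B]

theorem hfp_between [Algebra.FiniteType A R] (hB : Hens2.IsPairHenselization R (I.map (algebraMap A R)) B)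
    {S C : Type u} [CommRing S] [Algebra A S] [Algebra.FinitePresentation A S] [CommRing C] [Algebra S C] [Algebra A C]
    [IsScalarTower A S C] (hC : Hens2.IsPairHenselization S (I.map (algebraMap A S)) C)
    [Algebra B C] [IsScalarTower A B C] :
    ∃ (T : Type u) (_ : CommRing T) (_ : Algebra B T) (_ : Algebra T C) (_ : IsScalarTower B T C),
      Algebra.FinitePresentation B T ∧
      Hens2.IsPairHenselization T ((I.map (algebraMap A B)).map (algebraMap B T)) C := by
  classical
  obtain ⟨n, π, hπ⟩ := Algebra.FiniteType.iff_quotient_mvPolynomial''.1 (inferInstance : Algebra.FiniteType A R)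
  let r : Fin n → B := fun i => algebraMap R B (π (MvPolynomial.X i))
  obtain ⟨S', j1, j2, j3, ξ, hb, hξ⟩ := exists_nbhd hC (Finset.univ.image fun i => algebraMap B C (r i))
  choose s hs using fun i => hξ _ (Finset.mem_image_of_mem (fun i => algebraMap B C (r i)) (Finset.mem_univ i))
  letI : Algebra A S' := ((algebraMap S S').comp (algebraMap A S)).toAlgebra
  haveI : IsScalarTower A S S' := IsScalarTower.of_algebraMap_eq' rfl
  letI : Algebra S' C := ξ.toRingHom.toAlgebra
  haveI : IsScalarTower S S' C := IsScalarTower.of_algebraMap_eq fun a => (ξ.commutes a).symm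
  haveI : IsScalarTower A S' C := IsScalarTower.of_algebraMap_eq fun a => by
    rw [IsScalarTower.algebraMap_apply A S C]; exact (ξ.commutes _).symm
  haveI : Algebra.FinitePresentation A S' := Algebra.FinitePresentation.trans A S S'
  have hC' := isPairHenselization_nbhd hC (U := S') hb
  let K : Ideal (B ⊗[A] S') := Ideal.span (Finset.univ.image fun i => r i ⊗ₜ[A] (1 : S') - (1 : B) ⊗ₜ s i : Finset (B ⊗[A] S'))
  let T := (B ⊗[A] S') ⧸ K
  haveI : Algebra.FinitePresentation B T := Algebra.FinitePresentation.quotient ⟨_, rfl⟩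
  let μ : B ⊗[A] S' →ₐ[B] C :=
    Algebra.TensorProduct.lift (Algebra.ofId B C) (IsScalarTower.toAlgHom A S' C) fun _ _ => .all _ _
  have hμ : ∀ x ∈ K, μ x = 0 := fun x hx => by
    have hle : K ≤ RingHom.ker μ := Ideal.span_le.2 fun y hy => by
      obtain ⟨i, -, rfl⟩ := Finset.mem_image.1 (Finset.mem_coe.1 hy)
      have h1 : algebraMap S' C (s i) = algebraMap B C (r i) := hs i
      simp [μ, h1]
    exact hle hx
  let ν : T →ₐ[B] C := Ideal.Quotient.liftₐ K μ hμ
  letI : Algebra T C := ν.toRingHom.toAlgebra
  haveI : IsScalarTower B T C := IsScalarTower.of_algebraMap_eq fun a => (ν.commutes a).symm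
  refine ⟨T, inferInstance, inferInstance, inferInstance, inferInstance, inferInstance, ?_, fun D _ J h hD hJ => ?_⟩
  · rw [Ideal.map_map, Ideal.map_map, ← IsScalarTower.algebraMap_eq, ← IsScalarTower.algebraMap_eq]
    exact henselianRing_tower hC
  let hS : S' →+* D := (h.comp (Ideal.Quotient.mk K)).comp (Algebra.TensorProduct.includeRight : S' →ₐ[A] B ⊗[A] S').toRingHom
  let kB : B →+* D := h.comp (algebraMap B T)
  have hAA : ∀ a, hS (algebraMap A S' a) = kB (algebraMap A B a) := fun a => by
    show h (Ideal.Quotient.mk K ((1 : B) ⊗ₜ algebraMap A S' a)) = h (Ideal.Quotient.mk K (algebraMap A B a ⊗ₜ 1))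
    rw [Algebra.algebraMap_eq_smul_one, Algebra.algebraMap_eq_smul_one, TensorProduct.tmul_smul, TensorProduct.smul_tmul']
  rw [Ideal.map_map, ← Ideal.map_map] at hJ
  have hkB : (I.map (algebraMap A B)).map kB ≤ J := by rw [← Ideal.map_map]; exact hJ
  have hSJ : ((I.map (algebraMap A S)).map (algebraMap S S')).map hS ≤ J := by
    rw [Ideal.map_map (algebraMap A S), ← IsScalarTower.algebraMap_eq, Ideal.map_map,
      show hS.comp (algebraMap A S') = kB.comp (algebraMap A B) from RingHom.ext hAA, ← Ideal.map_map]
    exact hkB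
  obtain ⟨g, hg, hguniq⟩ := hC'.2 D J hS hD hSJ
  have hgs : ∀ x, g (algebraMap S' C x) = hS x := RingHom.congr_fun hg
  have hgB : g.comp (algebraMap B C) = kB := by
    have hR : (g.comp (algebraMap B C)).comp (algebraMap R B) = kB.comp (algebraMap R B) := by
      refine RingHom.ext fun x => ?_
      obtain ⟨p, rfl⟩ := hπ x
      induction p using MvPolynomial.induction_on with
      | C a =>
        show g (algebraMap B C (algebraMap R B (π (MvPolynomial.C a)))) = kB (algebraMap R B (π (MvPolynomial.C a)))
        rw [← MvPolynomial.algebraMap_eq, π.commutes, ← IsScalarTower.algebraMap_apply A R B,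
          ← IsScalarTower.algebraMap_apply A B C, IsScalarTower.algebraMap_apply A S' C, hgs, hAA]
      | add p q hp hq => rw [map_add, map_add, map_add, hp, hq]
      | mul_X p i hp =>
        rw [map_mul, map_mul, map_mul, hp]
        congr 1
        show g (algebraMap B C (r i)) = kB (r i)
        have h1 : algebraMap S' C (s i) = algebraMap B C (r i) := hs i
        rw [← h1, hgs]
        show h (Ideal.Quotient.mk K ((1 : B) ⊗ₜ s i)) = h (Ideal.Quotient.mk K (r i ⊗ₜ 1))
        exact congrArg h (Ideal.Quotient.eq.2 (by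
          rw [← neg_sub]; exact K.neg_mem (Ideal.subset_span (Finset.mem_image_of_mem _ (Finset.mem_univ i)))))
    refine (hB.2 D J (kB.comp (algebraMap R B)) hD ?_).unique hR rfl
    rw [← Ideal.map_map, map_map_eq]
    exact hkB
  refine ⟨g, ?_, fun g' (hg' : g'.comp _ = h) => hguniq g' (RingHom.ext fun x => ?_)⟩
  · refine Ideal.Quotient.ringHom_ext (RingHom.ext fun z => ?_)
    show g (ν (Ideal.Quotient.mk K z)) = h (Ideal.Quotient.mk K z)
    rw [show ν (Ideal.Quotient.mk K z) = μ z from rfl]
    induction z using TensorProduct.induction_on with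
    | zero => simp
    | add x y hx hy => simp only [map_add, hx, hy]
    | tmul b x =>
      have e : b ⊗ₜ[A] x = (b ⊗ₜ[A] (1 : S')) * ((1 : B) ⊗ₜ[A] x) := by simp
      simp only [μ, Algebra.TensorProduct.lift_tmul, Algebra.ofId_apply, IsScalarTower.coe_toAlgHom', map_mul, hgs]
      rw [← RingHom.comp_apply g (algebraMap B C), hgB, e, map_mul, map_mul]
      rfl
  · show g' (algebraMap S' C x) = h (Ideal.Quotient.mk K ((1 : B) ⊗ₜ x))
    rw [← hg', RingHom.comp_apply]
    refine congrArg g' ?_
    show algebraMap S' C x = μ ((1 : B) ⊗ₜ x)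
    simp [μ]

theorem hfp_comp [Algebra.FinitePresentation A R] (hB : Hens2.IsPairHenselization R (I.map (algebraMap A R)) B)
    {S C : Type u} [CommRing S] [Algebra B S] [Algebra A S] [IsScalarTower A B S] [Algebra.FinitePresentation B S]
    [CommRing C] [Algebra S C] [Algebra B C] [Algebra A C] [IsScalarTower B S C] [IsScalarTower A B C]
    (hC : Hens2.IsPairHenselization S (I.map (algebraMap A S)) C) :
    ∃ (T : Type u) (_ : CommRing T) (_ : Algebra A T) (_ : Algebra T C) (_ : IsScalarTower A T C),
      Algebra.FinitePresentation A T ∧ Hens2.IsPairHenselization T (I.map (algebraMap A T)) C := by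
  classical
  haveI hASC : IsScalarTower A S C := IsScalarTower.of_algebraMap_eq fun a => by
    rw [IsScalarTower.algebraMap_apply A B C, IsScalarTower.algebraMap_apply A B S, IsScalarTower.algebraMap_apply B S C]
  obtain ⟨m, π, hπ, hker⟩ := Algebra.FinitePresentation.out (R := B) (A := S)
  obtain ⟨rels, hrels⟩ := hker
  obtain ⟨R', j1, j2, j3, ξ, hb, hξ⟩ := exists_nbhd hB (rels.biUnion fun p => p.support.image fun d => p.coeff d)
  letI : Algebra A R' := ((algebraMap R R').comp (algebraMap A R)).toAlgebra
  haveI : IsScalarTower A R R' := IsScalarTower.of_algebraMap_eq' rfl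
  letI : Algebra R' B := ξ.toRingHom.toAlgebra
  haveI : IsScalarTower R R' B := IsScalarTower.of_algebraMap_eq fun a => (ξ.commutes a).symm
  haveI : IsScalarTower A R' B := IsScalarTower.of_algebraMap_eq fun a => by
    rw [IsScalarTower.algebraMap_apply A R B]; exact (ξ.commutes _).symm
  haveI : Algebra.FinitePresentation A R' := Algebra.FinitePresentation.trans A R R'
  have hB' := isPairHenselization_nbhd hB (U := R') hb
  have hlift : ∀ p ∈ rels, ∃ q : MvPolynomial (Fin m) R', MvPolynomial.map (algebraMap R' B) q = p := fun p hp => by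
    have hc : ∀ d ∈ p.support, ∃ c, algebraMap R' B c = p.coeff d := fun d hd =>
      hξ _ (Finset.mem_biUnion.2 ⟨p, hp, Finset.mem_image_of_mem _ hd⟩)
    choose c hc using hc
    refine ⟨∑ d ∈ p.support.attach, MvPolynomial.monomial d.1 (c d.1 d.2), ?_⟩
    rw [map_sum]
    conv_rhs => rw [p.as_sum, ← Finset.sum_attach]
    exact Finset.sum_congr rfl fun d _ => by rw [MvPolynomial.map_monomial, hc]
  choose q hq using hlift
  let K : Ideal (MvPolynomial (Fin m) R') := Ideal.span (rels.attach.image fun p => q p.1 p.2 : Finset _)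
  let T := MvPolynomial (Fin m) R' ⧸ K
  haveI : Algebra.FinitePresentation R' T := Algebra.FinitePresentation.quotient ⟨_, rfl⟩
  haveI : Algebra.FinitePresentation A T := Algebra.FinitePresentation.trans A R' T
  let μ : MvPolynomial (Fin m) R' →+* C :=
    ((algebraMap S C).comp π.toRingHom).comp (MvPolynomial.map (algebraMap R' B))
  have hμ : ∀ x ∈ K, μ x = 0 := fun x hx => by
    have hle : K ≤ RingHom.ker μ := Ideal.span_le.2 fun y hy => by
      obtain ⟨⟨p, hp⟩, -, rfl⟩ := Finset.mem_image.1 (Finset.mem_coe.1 hy)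
      show algebraMap S C (π (MvPolynomial.map _ (q p hp))) = 0
      rw [hq, show π p = 0 from hrels.le (Ideal.subset_span hp), map_zero]
    exact hle hx
  letI : Algebra T C := (Ideal.Quotient.lift K μ hμ).toAlgebra
  have hTC : ∀ z, algebraMap T C (Ideal.Quotient.mk K z) = μ z := fun z => rfl
  have hAT : ∀ a, algebraMap A T a = Ideal.Quotient.mk K (MvPolynomial.C (algebraMap A R' a)) := fun a => rfl
  haveI : IsScalarTower A T C := IsScalarTower.of_algebraMap_eq (R := A) (S := T) (A := C) fun a => by
    show algebraMap A C a = algebraMap S C (π (MvPolynomial.map (algebraMap R' B) (MvPolynomial.C (algebraMap A R' a))))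
    rw [MvPolynomial.map_C, ← IsScalarTower.algebraMap_apply A R' B, ← MvPolynomial.algebraMap_eq, π.commutes,
      ← IsScalarTower.algebraMap_apply B S C, ← IsScalarTower.algebraMap_apply A B C]
  refine ⟨T, inferInstance, inferInstance, inferInstance, inferInstance, inferInstance, ?_, fun D _ J h hD hJ => ?_⟩
  · rw [Ideal.map_map, ← IsScalarTower.algebraMap_eq]
    exact henselianRing_tower hC
  let hR : R' →+* D := h.comp (algebraMap R' T)
  have hJA : I.map (h.comp (algebraMap A T)) ≤ J := by rw [← Ideal.map_map]; exact hJ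
  have hRJ : ((I.map (algebraMap A R)).map (algebraMap R R')).map hR ≤ J := by
    rw [Ideal.map_map (algebraMap A R), ← IsScalarTower.algebraMap_eq, Ideal.map_map]
    exact hJA
  obtain ⟨gB, hgB, hgBuniq⟩ := hB'.2 D J hR hD hRJ
  let y : Fin m → D := fun i => h (Ideal.Quotient.mk K (MvPolynomial.X i))
  let e : MvPolynomial (Fin m) B →+* D := MvPolynomial.eval₂Hom gB y
  have he : ∀ z, e (MvPolynomial.map (algebraMap R' B) z) = h (Ideal.Quotient.mk K z) := fun z => by
    refine RingHom.congr_fun (MvPolynomial.ringHom_ext (f := e.comp (MvPolynomial.map (algebraMap R' B)))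
      (g := h.comp (Ideal.Quotient.mk K)) (fun c => ?_) fun i => ?_) z
    · simp only [RingHom.comp_apply, MvPolynomial.map_C, e, MvPolynomial.eval₂Hom_C]
      exact RingHom.congr_fun hgB c
    · simp [e, y]
  have hk : RingHom.ker π.toRingHom ≤ RingHom.ker e := by
    refine (show RingHom.ker π.toRingHom ≤ Ideal.span (rels : Set _) from hrels.ge).trans (Ideal.span_le.2 fun p hp => ?_)
    show e p = 0
    have hmem : q p hp ∈ K := Ideal.subset_span (Finset.mem_image.2 ⟨⟨p, hp⟩, Finset.mem_attach _ _, rfl⟩)
    rw [← hq p hp, he, Ideal.Quotient.eq_zero_iff_mem.2 hmem, map_zero]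
  let hS : S →+* D := π.toRingHom.liftOfSurjective hπ ⟨e, hk⟩
  have hSπ : ∀ p, hS (π p) = e p := fun p => RingHom.liftOfSurjective_comp_apply π.toRingHom hπ ⟨e, hk⟩ p
  have hSA : (I.map (algebraMap A S)).map hS ≤ J := by
    rw [Ideal.map_map]
    refine (le_of_eq (congrArg (fun f => I.map f) (RingHom.ext fun a => ?_))).trans hJA
    show hS (algebraMap A S a) = h (algebraMap A T a)
    rw [IsScalarTower.algebraMap_apply A B S, ← π.commutes, hSπ, MvPolynomial.algebraMap_eq, hAT, ← he,
      MvPolynomial.map_C, ← IsScalarTower.algebraMap_apply A R' B]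
  obtain ⟨g, hg, hguniq⟩ := hC.2 D J hS hD hSA
  refine ⟨g, Ideal.Quotient.ringHom_ext (RingHom.ext fun z => ?_), fun g' (hg' : g'.comp _ = h) => hguniq g' ?_⟩
  · show g (algebraMap T C (Ideal.Quotient.mk K z)) = _
    rw [hTC]
    show g (algebraMap S C (π _)) = _
    rw [← RingHom.comp_apply g, hg, hSπ, he]
    rfl
  · have h' : ∀ z, g' (algebraMap S C (π (MvPolynomial.map (algebraMap R' B) z))) = h (Ideal.Quotient.mk K z) :=
      fun z => RingHom.congr_fun hg' (Ideal.Quotient.mk K z)
    have hgB' : (g'.comp (algebraMap B C)) = gB := by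
      refine hgBuniq _ (RingHom.ext fun c => ?_)
      have := h' (MvPolynomial.C c)
      rw [MvPolynomial.map_C, ← MvPolynomial.algebraMap_eq, π.commutes, ← IsScalarTower.algebraMap_apply B S C] at this
      exact this
    refine RingHom.ext fun x => ?_
    obtain ⟨p, rfl⟩ := hπ x
    rw [RingHom.comp_apply, hSπ]
    refine RingHom.congr_fun (MvPolynomial.ringHom_ext (f := (g'.comp (algebraMap S C)).comp π.toRingHom) (g := e)
      (fun c => ?_) fun i => ?_) p
    · show g' (algebraMap S C (π (MvPolynomial.C c))) = e _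
      rw [← MvPolynomial.algebraMap_eq, π.commutes, ← IsScalarTower.algebraMap_apply B S C, ← RingHom.comp_apply, hgB']
      simp [e, MvPolynomial.algebraMap_eq]
    · have := h' (MvPolynomial.X i)
      rw [MvPolynomial.map_X] at this
      show g' (algebraMap S C (π (MvPolynomial.X i))) = e _
      rw [this]
      simp [e, y]

end PairHensLib
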