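import Groth.Agent.PairHensLib.Api
import Mathlib.RingTheory.IntegralClosure.Algebra.Basic

/-! Henselization of pairs commutes with integral base change. -/

set_option autoImplicit false
set_option maxHeartbeats 800000
universe u

noncomputable section

open TensorProduct

namespace PairHensLib

variable {A B Ah Bh : Type u} [CommRing A] [CommRing B] [CommRing Ah] [CommRing Bh] [Algebra A B]
  {I : Ideal A} {J : Ideal B} [Algebra A Ah] [Algebra B Bh] [Algebra A Bh] [IsScalarTower A B Bh]

theorem productMap_bijective (hIJ : I.map (algebraMap A B) ≤ J) (hrad : J ≤ (I.map (algebraMap A B)).radical)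
    [Algebra.IsIntegral A B] (hA : Hens2.IsPairHenselization A I Ah) (hB : Hens2.IsPairHenselization B J Bh)
    (φ : Ah →ₐ[A] Bh) : Function.Bijective (Algebra.TensorProduct.productMap φ (IsScalarTower.toAlgHom A B Bh)) := by
  let inR : B →ₐ[A] Ah ⊗[A] B := Algebra.TensorProduct.includeRight
  let Φ := Algebra.TensorProduct.productMap φ (IsScalarTower.toAlgHom A B Bh)
  haveI := hA.1
  haveI h1 : HenselianRing (Ah ⊗[A] B) (((I.map (algebraMap A Ah))).map (algebraMap Ah (Ah ⊗[A] B))) :=
    HenselLib.henselianRing_map_of_isIntegral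
  have hmap : (I.map (algebraMap A Ah)).map (algebraMap Ah (Ah ⊗[A] B)) = (I.map (algebraMap A B)).map (inR : B →+* Ah ⊗[A] B) := by
    rw [Ideal.map_map, Ideal.map_map, ← IsScalarTower.algebraMap_eq, inR.comp_algebraMap]
  haveI hT : HenselianRing (Ah ⊗[A] B) (J.map (inR : B →+* Ah ⊗[A] B)) := by
    rw [hmap] at h1
    exact HenselLib.henselianRing_of_le_radical ((Ideal.map_mono hrad).trans (Ideal.map_radical_le _))
  obtain ⟨ψ, hψ, -⟩ := hB.2 (Ah ⊗[A] B) _ (inR : B →+* Ah ⊗[A] B) hT le_rfl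
  have hΦ : ∀ b, Φ (inR b) = algebraMap B Bh b := fun b => by simp [Φ, inR]
  have e2 : (Φ : _ →+* Bh).comp ψ = RingHom.id Bh :=
    (hB.2 Bh _ (algebraMap B Bh) hB.1 le_rfl).unique
      (RingHom.ext fun b => by
        show Φ (ψ (algebraMap B Bh b)) = _
        rw [← RingHom.comp_apply ψ, hψ]
        exact hΦ b) (RingHom.id_comp _)
  have hψA : ∀ a : A, ψ (algebraMap A Bh a) = algebraMap A _ a := fun a => by
    rw [IsScalarTower.algebraMap_apply A B Bh, ← RingHom.comp_apply, hψ]
    exact inR.commutes a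
  let ψA : Bh →ₐ[A] Ah ⊗[A] B := { toRingHom := ψ, commutes' := hψA }
  have hleft : (ψA.comp φ : Ah →ₐ[A] Ah ⊗[A] B) = Algebra.TensorProduct.includeLeft := by
    refine AlgHom.coe_ringHom_injective ((hA.2 _ _ (algebraMap A (Ah ⊗[A] B)) h1 ?_).unique ?_ ?_)
    · rw [IsScalarTower.algebraMap_eq A Ah (Ah ⊗[A] B), ← Ideal.map_map]
    · exact (ψA.comp φ).comp_algebraMap
    · exact (Algebra.TensorProduct.includeLeft (R := A) (S := A) (A := Ah) (B := B)).comp_algebraMap
  have e1 : ψA.comp Φ = AlgHom.id A _ := by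
    refine Algebra.TensorProduct.ext' fun a b => ?_
    have ha : ψA (φ a) = a ⊗ₜ[A] 1 := AlgHom.congr_fun hleft a
    have hb : ψA (algebraMap B Bh b) = 1 ⊗ₜ[A] b := RingHom.congr_fun hψ b
    simp only [AlgHom.comp_apply, Φ, Algebra.TensorProduct.productMap_apply_tmul, IsScalarTower.coe_toAlgHom',
      map_mul, ha, hb, AlgHom.id_apply, Algebra.TensorProduct.tmul_mul_tmul, mul_one, one_mul]
  exact ⟨Function.LeftInverse.injective (g := ψA) (AlgHom.congr_fun e1),
    Function.RightInverse.surjective (g := ψA) (RingHom.congr_fun e2)⟩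

end PairHensLib
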