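import Groth.Agent.PairHensLib.Compact
import Groth.Agent.PairHensLib.Construction
import Groth.Agent.HensGlueLib.Base
import Groth.Agent.S17613

/-! Being henselian finitely presented is local. -/

set_option autoImplicit false
set_option maxHeartbeats 1000000
set_option linter.style.haveILetI false
set_option linter.unusedSectionVars false
universe u

noncomputable section

namespace PairHensLib

variable {A : Type u} [CommRing A] (I : Ideal A)

/-- The henselization of `R` localized at `c`. -/
def HL (R : Type u) [CommRing R] [Algebra A R] (c : R) : Type u :=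
  PH (Localization.Away c) (I.map (algebraMap A (Localization.Away c)))

section HL

variable (R : Type u) [CommRing R] [Algebra A R] (c : R)

instance : CommRing (HL I R c) :=
  inferInstanceAs (CommRing (PH (Localization.Away c) (I.map (algebraMap A (Localization.Away c)))))

instance : Algebra (Localization.Away c) (HL I R c) :=
  inferInstanceAs (Algebra (Localization.Away c) (PH (Localization.Away c) (I.map (algebraMap A (Localization.Away c)))))

instance instAlgebraHL : Algebra R (HL I R c) :=
  ((algebraMap (Localization.Away c) (HL I R c)).comp (algebraMap R (Localization.Away c))).toAlgebra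

instance instAlgebraHL' : Algebra A (HL I R c) :=
  ((algebraMap R (HL I R c)).comp (algebraMap A R)).toAlgebra

instance : IsScalarTower R (Localization.Away c) (HL I R c) := IsScalarTower.of_algebraMap_eq' rfl

instance : IsScalarTower A R (HL I R c) := IsScalarTower.of_algebraMap_eq' rfl

theorem isPairHenselization_HL :
    Hens2.IsPairHenselization (Localization.Away c) (I.map (algebraMap A (Localization.Away c))) (HL I R c) :=
  isPairHenselization_PH _ _

end HL

variable {I}

section Universal

variable {R : Type u} [CommRing R] [Algebra A R] {c : R} {D : Type u} [CommRing D]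
  [Algebra (Localization.Away c) D] [Algebra R D] [Algebra A D] [IsScalarTower R (Localization.Away c) D]
  [IsScalarTower A R D] {C : Type u} [CommRing C] [Algebra A C]

theorem henselianRing_away (hD : Hens2.IsPairHenselization (Localization.Away c) (I.map (algebraMap A (Localization.Away c))) D) :
    HenselianRing D (I.map (algebraMap A D)) := by
  have h := hD.1
  rwa [IsScalarTower.algebraMap_eq A R (Localization.Away c), Ideal.map_map, ← RingHom.comp_assoc,
    ← IsScalarTower.algebraMap_eq, ← IsScalarTower.algebraMap_eq] at h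

theorem isUnit_away (c : R) (D : Type u) [CommRing D] [Algebra (Localization.Away c) D] [Algebra R D]
    [IsScalarTower R (Localization.Away c) D] : IsUnit (algebraMap R D c) := by
  rw [IsScalarTower.algebraMap_apply R (Localization.Away c) D]
  exact (IsLocalization.Away.algebraMap_isUnit c).map _

theorem exists_away_lift (hD : Hens2.IsPairHenselization (Localization.Away c) (I.map (algebraMap A (Localization.Away c))) D)
    (hC : HenselianRing C (I.map (algebraMap A C))) (f : R →ₐ[A] C) (hc : IsUnit (f c)) :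
    ∃ g : D →ₐ[A] C, ∀ x, g (algebraMap R D x) = f x := by
  have hl : (IsLocalization.Away.lift c (g := f.toRingHom) hc : Localization.Away c →+* C).comp (algebraMap R _) = f.toRingHom :=
    IsLocalization.Away.lift_comp c hc
  obtain ⟨g, hg, -⟩ := hD.2 C _ (IsLocalization.Away.lift c (g := f.toRingHom) hc) hC (by
    rw [IsScalarTower.algebraMap_eq A R (Localization.Away c), Ideal.map_map, ← RingHom.comp_assoc, hl,
      AlgHom.toRingHom_eq_coe, f.comp_algebraMap])
  have hgR : ∀ x, g (algebraMap R D x) = f x := fun x => by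
    rw [IsScalarTower.algebraMap_apply R (Localization.Away c) D, ← RingHom.comp_apply g, hg]
    exact RingHom.congr_fun hl x
  have hgA : ∀ a, g (algebraMap A D a) = algebraMap A C a := fun a => by
    rw [IsScalarTower.algebraMap_apply A R D, hgR, f.commutes]
  exact ⟨{ toRingHom := g, commutes' := hgA }, hgR⟩

theorem away_hom_ext (hD : Hens2.IsPairHenselization (Localization.Away c) (I.map (algebraMap A (Localization.Away c))) D)
    (hC : HenselianRing C (I.map (algebraMap A C))) (g g' : D →ₐ[A] C)
    (h : ∀ x, g (algebraMap R D x) = g' (algebraMap R D x)) : g = g' := by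
  refine AlgHom.coe_ringHom_injective ((hD.2 C _ ((g : D →+* C).comp (algebraMap _ D)) hC ?_).unique rfl
    (IsLocalization.ringHom_ext (Submonoid.powers c) ?_))
  · rw [Ideal.map_map, IsScalarTower.algebraMap_eq A R (Localization.Away c), RingHom.comp_assoc,
      ← RingHom.comp_assoc _ _ (algebraMap (Localization.Away c) D), ← IsScalarTower.algebraMap_eq,
      ← IsScalarTower.algebraMap_eq, g.comp_algebraMap]
  · rw [RingHom.comp_assoc, RingHom.comp_assoc, ← IsScalarTower.algebraMap_eq]
    exact RingHom.ext fun x => (h x).symm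

end Universal

theorem henselianRing_HL (R : Type u) [CommRing R] [Algebra A R] (c : R) :
    HenselianRing (HL I R c) (I.map (algebraMap A (HL I R c))) :=
  henselianRing_away (isPairHenselization_HL I R c)

theorem isPairHenselization_self {R : Type u} [CommRing R] {J : Ideal R} (h : HenselianRing R J) :
    Hens2.IsPairHenselization R J R := by
  refine ⟨by rwa [Algebra.algebraMap_self, Ideal.map_id], fun C _ J' f _ _ => ⟨f, rfl, fun g hg => ?_⟩⟩
  rw [← hg, Algebra.algebraMap_self, RingHom.comp_id]

/-- A directed system of henselian algebras with colimit `B`. -/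
structure HCocone (I : Ideal A) (B : Type u) [CommRing B] [Algebra A B] (κ : Type u) [Preorder κ] where
  X : κ → Type u
  ring : ∀ a, CommRing (X a)
  alg : ∀ a, Algebra A (X a)
  hens : ∀ a, HenselianRing (X a) (I.map (algebraMap A (X a)))
  t : ∀ a b : κ, a ≤ b → (X a →+* X b)
  t_self : ∀ a x, t a a le_rfl x = x
  t_t : ∀ a b c hab hbc x, t b c hbc (t a b hab x) = t a c (le_trans hab hbc) x
  t_alg : ∀ a b h, (t a b h).comp (algebraMap A (X a)) = algebraMap A (X b)
  f : ∀ a, X a →ₐ[A] B
  f_t : ∀ a b h x, f b (t a b h x) = f a x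
  surj : ∀ y, ∃ a x, f a x = y
  inj : ∀ a x, f a x = 0 → ∃ b h, t a b h x = 0

attribute [instance] HCocone.ring HCocone.alg

variable {B : Type u} [CommRing B] [Algebra A B] {κ : Type u} [Preorder κ]

instance (S : HCocone I B κ) : DirectedSystem S.X fun a b h => S.t a b h where
  map_self := fun a x => S.t_self a x
  map_map := fun k j i hij hjk x => S.t_t _ _ _ _ _ x

theorem HCocone.inj' [IsDirectedOrder κ] (S : HCocone I B κ) (a : κ) (x y : S.X a) (h : S.f a x = S.f a y) :
    ∃ b hab, S.t a b hab x = S.t a b hab y := by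
  obtain ⟨b, hab, hb⟩ := S.inj a (x - y) (by rw [map_sub, h, sub_self])
  exact ⟨b, hab, sub_eq_zero.1 (by rw [← map_sub, hb])⟩

/-- Transition maps as algebra maps. -/
def HCocone.tA (S : HCocone I B κ) (a b : κ) (h : a ≤ b) : S.X a →ₐ[A] S.X b :=
  { toRingHom := S.t a b h, commutes' := RingHom.congr_fun (S.t_alg a b h) }

section Colimit

variable (S : HCocone I B κ) (c : ∀ a, S.X a) (hc : ∀ a b h, S.t a b h (c a) = c b)

include hc in
theorem exists_trHL (a b : κ) (h : a ≤ b) :
    ∃ g : HL I (S.X a) (c a) →ₐ[A] HL I (S.X b) (c b),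
      ∀ x, g (algebraMap (S.X a) _ x) = algebraMap (S.X b) _ (S.t a b h x) :=
  exists_away_lift (isPairHenselization_HL I _ _) (henselianRing_HL _ _)
    ((IsScalarTower.toAlgHom A (S.X b) (HL I (S.X b) (c b))).comp (S.tA a b h))
    (by
      show IsUnit (algebraMap (S.X b) _ (S.t a b h (c a)))
      rw [hc]
      exact isUnit_away (c b) _)

/-- Transition maps of the henselized localizations. -/
def trHL (a b : κ) (h : a ≤ b) : HL I (S.X a) (c a) →ₐ[A] HL I (S.X b) (c b) := (exists_trHL S c hc a b h).choose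

theorem trHL_algebraMap (a b : κ) (h : a ≤ b) (x : S.X a) :
    trHL S c hc a b h (algebraMap (S.X a) _ x) = algebraMap (S.X b) _ (S.t a b h x) :=
  (exists_trHL S c hc a b h).choose_spec x

theorem trHL_trHL (a b d : κ) (hab : a ≤ b) (hbd : b ≤ d) (x : HL I (S.X a) (c a)) :
    trHL S c hc b d hbd (trHL S c hc a b hab x) = trHL S c hc a d (hab.trans hbd) x :=
  AlgHom.congr_fun (away_hom_ext (isPairHenselization_HL I _ _) (henselianRing_HL _ _)
    ((trHL S c hc b d hbd).comp (trHL S c hc a b hab)) (trHL S c hc a d (hab.trans hbd)) fun x => by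
      rw [AlgHom.comp_apply, trHL_algebraMap, trHL_algebraMap, trHL_algebraMap, S.t_t]) x

theorem trHL_self (a : κ) (x : HL I (S.X a) (c a)) : trHL S c hc a a le_rfl x = x :=
  AlgHom.congr_fun (away_hom_ext (isPairHenselization_HL I _ _) (henselianRing_HL _ _)
    (trHL S c hc a a le_rfl) (AlgHom.id A _) fun x => by
      rw [trHL_algebraMap, S.t_self, AlgHom.id_apply]) x

variable {b₀ : B} {H : Type u} [CommRing H] [Algebra (Localization.Away b₀) H] [Algebra B H] [Algebra A H]
  [IsScalarTower B (Localization.Away b₀) H] [IsScalarTower A B H]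
  (hH : Hens2.IsPairHenselization (Localization.Away b₀) (I.map (algebraMap A (Localization.Away b₀))) H)
  (hcb : ∀ a, S.f a (c a) = b₀)

include hH hcb in
theorem exists_θHL (a : κ) : ∃ g : HL I (S.X a) (c a) →ₐ[A] H, ∀ x, g (algebraMap (S.X a) _ x) = algebraMap B H (S.f a x) :=
  exists_away_lift (isPairHenselization_HL I _ _) (henselianRing_away hH)
    ((IsScalarTower.toAlgHom A B H).comp (S.f a))
    (by show IsUnit (algebraMap B H (S.f a (c a))); rw [hcb]; exact isUnit_away b₀ H)

/-- The map to the henselized localization of the colimit. -/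
def θHL (a : κ) : HL I (S.X a) (c a) →ₐ[A] H := (exists_θHL S c hH hcb a).choose

theorem θHL_algebraMap (a : κ) (x : S.X a) :
    θHL S c hH hcb a (algebraMap (S.X a) _ x) = algebraMap B H (S.f a x) :=
  (exists_θHL S c hH hcb a).choose_spec x

theorem θHL_trHL (a b : κ) (h : a ≤ b) (x : HL I (S.X a) (c a)) :
    θHL S c hH hcb b (trHL S c hc a b h x) = θHL S c hH hcb a x :=
  AlgHom.congr_fun (away_hom_ext (isPairHenselization_HL I _ _) (henselianRing_away hH)
    ((θHL S c hH hcb b).comp (trHL S c hc a b h)) (θHL S c hH hcb a) fun x => by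
      rw [AlgHom.comp_apply, trHL_algebraMap, θHL_algebraMap, θHL_algebraMap, S.f_t]) x

/-- The henselized localizations form a colimit cocone over the henselized localization, seen through
maps from henselian finitely presented algebras. -/
theorem colim_HL [IsDirectedOrder κ] [Nonempty κ] [HenselianRing A I] :
    (∀ (R₀ : Type u) [CommRing R₀] [Algebra A R₀] [Algebra.FinitePresentation A R₀] [Algebra R₀ H]
        [IsScalarTower A R₀ H], Hens2.IsPairHenselization R₀ (I.map (algebraMap A R₀)) H →
      ∃ (a : κ) (φ : H →ₐ[A] HL I (S.X a) (c a)), ∀ y, θHL S c hH hcb a (φ y) = y) ∧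
    (∀ a (x y : HL I (S.X a) (c a)), θHL S c hH hcb a x = θHL S c hH hcb a y →
      ∃ b h, trHL S c hc a b h x = trHL S c hc a b h y) ∧
    ∀ (R₀ P : Type u) [CommRing R₀] [Algebra A R₀] [Algebra.FinitePresentation A R₀] [CommRing P] [Algebra R₀ P]
        [Algebra A P] [IsScalarTower A R₀ P], Hens2.IsPairHenselization R₀ (I.map (algebraMap A R₀)) P →
      ∀ (a : κ) (φ ψ : P →ₐ[A] HL I (S.X a) (c a)), (∀ z, θHL S c hH hcb a (φ z) = θHL S c hH hcb a (ψ z)) →
        ∃ b h, ∀ z, trHL S c hc a b h (φ z) = trHL S c hc a b h (ψ z) := by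
  classical
  let D := fun a => HL I (S.X a) (c a)
  let tD : ∀ a b, a ≤ b → (D a →+* D b) := fun a b h => (trHL S c hc a b h).toRingHom
  haveI : DirectedSystem D fun a b h => tD a b h :=
    { map_self := fun a x => trHL_self S c hc a x
      map_map := fun k j i hij hjk x => trHL_trHL S c hc _ _ _ _ _ x }
  haveI : ∀ a, HenselianRing (D a) (I.map (algebraMap A (D a))) := fun a => henselianRing_HL _ _
  let L := DirectLimit D tD
  obtain ⟨a₀⟩ := ‹Nonempty κ›
  letI : Algebra A L := ((DirectLimit.Ring.of D tD a₀).comp (algebraMap A (D a₀))).toAlgebra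
  have halg : ∀ (a : κ) (x : A), algebraMap A L x = DirectLimit.Ring.of D tD a (algebraMap A (D a) x) := by
    intro a x
    obtain ⟨d, hac, h0c⟩ := exists_ge_ge a a₀
    show DirectLimit.Ring.of D tD a₀ (algebraMap A (D a₀) x) = _
    rw [← DirectLimit.Ring.of_f h0c, ← DirectLimit.Ring.of_f hac (algebraMap A (D a) x)]
    exact congrArg _ (((trHL S c hc _ _ h0c).commutes x).trans ((trHL S c hc _ _ hac).commutes x).symm)
  haveI hL : HenselianRing L (I.map (algebraMap A L)) := by
    have h1 := henselianRing_directLimit (g := tD) (J := fun a => I.map (algebraMap A (D a)))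
      (fun a b h => by rw [Ideal.map_map]; exact le_of_eq (congrArg (fun f => I.map f) (trHL S c hc a b h).comp_algebraMap))
      fun a => inferInstance
    have h2 : (⨆ a, (I.map (algebraMap A (D a))).map (DirectLimit.Ring.of D tD a)) = I.map (algebraMap A L) := by
      have hof : ∀ a, (DirectLimit.Ring.of D tD a).comp (algebraMap A (D a)) = algebraMap A L :=
        fun a => RingHom.ext fun x => (halg a x).symm
      simp only [Ideal.map_map, hof]
      exact iSup_const
    rwa [h2] at h1
  let LX := DirectLimit S.X S.t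
  let eR : LX →+* B := DirectLimit.Ring.lift S.X S.t B (fun a => (S.f a : S.X a →+* B)) S.f_t
  have heR : Function.Bijective eR := by
    refine ⟨(injective_iff_map_eq_zero eR).2 fun z hz => ?_, fun y => ?_⟩
    · obtain ⟨a, x, rfl⟩ := DirectLimit.exists_eq_mk (f := fun i j h => S.t i j h) z
      obtain ⟨b, hab, hb⟩ := S.inj a x hz
      show DirectLimit.Ring.of S.X S.t a x = 0
      rw [← DirectLimit.Ring.of_f hab, hb, map_zero]
    · obtain ⟨a, x, rfl⟩ := S.surj y
      exact ⟨DirectLimit.Ring.of S.X S.t a x, rfl⟩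
  let e := RingEquiv.ofBijective eR heR
  let g₀ : LX →+* L := DirectLimit.Ring.lift S.X S.t L
    (fun a => (DirectLimit.Ring.of D tD a).comp (algebraMap (S.X a) (D a))) fun a b h x => by
      show DirectLimit.Ring.of D tD b (algebraMap (S.X b) (D b) (S.t a b h x)) = _
      rw [← trHL_algebraMap S c hc a b h x]
      exact DirectLimit.Ring.of_f h _
  let g : B →+* L := g₀.comp e.symm.toRingHom
  have hg : ∀ a x, g (S.f a x) = DirectLimit.Ring.of D tD a (algebraMap (S.X a) (D a) x) := fun a x => by
    show g₀ (e.symm (S.f a x)) = _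
    rw [show S.f a x = e (DirectLimit.Ring.of S.X S.t a x) from rfl, e.symm_apply_apply]
    rfl
  have hgA : ∀ r, g (algebraMap A B r) = algebraMap A L r := fun r => by
    rw [← (S.f a₀).commutes r, hg, ← IsScalarTower.algebraMap_apply, halg a₀]
  let gA : B →ₐ[A] L := { toRingHom := g, commutes' := hgA }
  obtain ⟨χ, hχ⟩ := exists_away_lift hH hL gA (by
    show IsUnit (g b₀)
    rw [← hcb a₀, hg]
    exact (isUnit_away (c a₀) _).map _)
  let ofD : ∀ a, D a →ₐ[A] L := fun a => { toRingHom := DirectLimit.Ring.of D tD a, commutes' := fun x => (halg a x).symm }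
  have hχθ : ∀ a x, χ (θHL S c hH hcb a x) = ofD a x := fun a x =>
    AlgHom.congr_fun (away_hom_ext (isPairHenselization_HL I _ _) hL (χ.comp (θHL S c hH hcb a)) (ofD a) fun x => by
      rw [AlgHom.comp_apply, θHL_algebraMap, hχ]
      exact hg a x) x
  have h13 := fun (R₀ P : Type u) [CommRing R₀] [Algebra A R₀] [Algebra.FinitePresentation A R₀] [CommRing P]
      [Algebra R₀ P] [Algebra A P] [IsScalarTower A R₀ P]
      (hP : Hens2.IsPairHenselization R₀ (I.map (algebraMap A R₀)) P) =>
    Groth.Agent.S17613.result A I R₀ P hP D tD (fun a b h => (trHL S c hc a b h).comp_algebraMap) halg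
  refine ⟨fun R₀ _ _ _ _ _ hR => ?_, fun a x y h => ?_, fun R₀ P _ _ _ _ _ _ _ hP a φ ψ h =>
    (h13 R₀ P hP).2 a φ ψ fun z => ?_⟩
  · obtain ⟨a, φ, hφ⟩ := (h13 R₀ H hR).1 χ
    refine ⟨a, φ, fun y => AlgHom.congr_fun (away_hom_ext hH (henselianRing_away hH)
      ((θHL S c hH hcb a).comp φ) (AlgHom.id A H) fun b => ?_) y⟩
    obtain ⟨a', x, hx⟩ := S.surj b
    obtain ⟨d, had, ha'd⟩ := exists_ge_ge a a'
    have h1 : ofD d (trHL S c hc a d had (φ (algebraMap B H b))) = ofD d (algebraMap _ _ (S.t a' d ha'd x)) := by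
      refine (DirectLimit.Ring.of_f had _).trans ((hφ _).trans ?_)
      rw [hχ]
      show g b = _
      rw [← hx, hg, ← trHL_algebraMap S c hc a' d ha'd x]
      exact (DirectLimit.Ring.of_f ha'd _).symm
    obtain ⟨d', h', h'', hd'⟩ := Quotient.exact h1
    have h3 : trHL S c hc d d' h' (trHL S c hc a d had (φ (algebraMap B H b))) =
        trHL S c hc d d' h' (algebraMap _ _ (S.t a' d ha'd x)) := hd'
    have h4 := congrArg (θHL S c hH hcb d') h3
    rw [θHL_trHL, θHL_trHL, θHL_trHL, θHL_algebraMap, S.f_t, hx] at h4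
    exact h4
  · have h1 : ofD a x = ofD a y := by rw [← hχθ, ← hχθ, h]
    obtain ⟨d, h', h'', hd⟩ := Quotient.exact h1
    exact ⟨d, h', hd⟩
  · show ofD a (φ z) = ofD a (ψ z)
    rw [← hχθ, ← hχθ, h]

end Colimit

/-- A finite family of elements of the colimit spanning the unit ideal is lifted. -/
theorem exists_lift_cover [IsDirectedOrder κ] [Nonempty κ] (S : HCocone I B κ) {ι : Type u} [Finite ι] (b₀ : ι → B)
    (hb : Ideal.span (Set.range b₀) = ⊤) :
    ∃ (a₀ : κ) (c : ι → S.X a₀), (∀ i, S.f a₀ (c i) = b₀ i) ∧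
      ∀ a (h : a₀ ≤ a), Ideal.span (Set.range fun i => S.t a₀ a h (c i)) = ⊤ := by
  classical
  cases nonempty_fintype ι
  obtain ⟨v, hv⟩ := (Ideal.mem_span_range_iff_exists_fun (R := B)).1 ((Ideal.eq_top_iff_one _).1 hb)
  choose a x hx using fun i : ι ⊕ ι => S.surj (Sum.elim b₀ v i)
  obtain ⟨a₁, ha₁⟩ := Finite.exists_le a
  let y : ι ⊕ ι → S.X a₁ := fun i => S.t (a i) a₁ (ha₁ i) (x i)
  have hy : ∀ i, S.f a₁ (y i) = Sum.elim b₀ v i := fun i => by rw [S.f_t, hx]
  obtain ⟨a₀, h10, h⟩ := S.inj' a₁ (∑ i, y (.inr i) * y (.inl i)) 1 (by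
    simp only [map_sum, map_mul, map_one, hy, Sum.elim_inl, Sum.elim_inr]
    exact hv)
  refine ⟨a₀, fun i => S.t a₁ a₀ h10 (y (.inl i)), fun i => by rw [S.f_t, hy]; rfl, fun a ha => ?_⟩
  rw [Ideal.eq_top_iff_one, Ideal.mem_span_range_iff_exists_fun]
  refine ⟨fun i => S.t a₀ a ha (S.t a₁ a₀ h10 (y (.inr i))), ?_⟩
  have := congrArg (S.t a₀ a ha) h
  simpa only [map_sum, map_mul, map_one] using this

/-- The cocone above a stage. -/
def HCocone.above [IsDirectedOrder κ] (S : HCocone I B κ) (a₀ : κ) : HCocone I B {a : κ // a₀ ≤ a} where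
  X a := S.X a.1
  ring a := S.ring a.1
  alg a := S.alg a.1
  hens a := S.hens a.1
  t a b h := S.t a.1 b.1 h
  t_self a x := S.t_self a.1 x
  t_t a b c hab hbc x := S.t_t a.1 b.1 c.1 hab hbc x
  t_alg a b h := S.t_alg a.1 b.1 h
  f a := S.f a.1
  f_t a b h x := S.f_t a.1 b.1 h x
  surj y := by
    obtain ⟨a, x, hx⟩ := S.surj y
    obtain ⟨d, had, h0d⟩ := exists_ge_ge a a₀
    exact ⟨⟨d, h0d⟩, S.t a d had x, (S.f_t _ _ _ _).trans hx⟩
  inj a x hx := by
    obtain ⟨b, hab, hb⟩ := S.inj a.1 x hx
    exact ⟨⟨b, a.2.trans hab⟩, hab, hb⟩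

end PairHensLib
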