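import Groth.Agent.PairHensLib.Local

/-! Being henselian finitely presented is local: glueing. -/

set_option autoImplicit false
set_option maxHeartbeats 1000000
set_option linter.style.haveILetI false
set_option linter.unusedSectionVars false
universe u

noncomputable section

namespace PairHensLib

variable {A : Type u} [CommRing A] {I : Ideal A}

theorem exists_res {R : Type u} [CommRing R] [Algebra A R] (c c' : R) (h : c ∣ c') :
    ∃ g : HL I R c →ₐ[A] HL I R c', ∀ x, g (algebraMap R _ x) = algebraMap R _ x :=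
  exists_away_lift (isPairHenselization_HL I R c) (henselianRing_HL R c') (IsScalarTower.toAlgHom A R _)
    (isUnit_of_dvd_unit ((algebraMap R (HL I R c')).map_dvd h) (isUnit_away c' _))

/-- Restriction between henselized localizations. -/
def res {R : Type u} [CommRing R] [Algebra A R] (c c' : R) (h : c ∣ c') : HL I R c →ₐ[A] HL I R c' :=
  (exists_res c c' h).choose

theorem res_algebraMap {R : Type u} [CommRing R] [Algebra A R] (c c' : R) (h : c ∣ c') (x : R) :
    res (I := I) c c' h (algebraMap R _ x) = algebraMap R _ x :=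
  (exists_res c c' h).choose_spec x

variable {B : Type u} [CommRing B] [Algebra A B] {κ : Type u} [Preorder κ]

theorem res_trHL (S : HCocone I B κ) (c c' : ∀ a, S.X a) (hc : ∀ a b h, S.t a b h (c a) = c b)
    (hc' : ∀ a b h, S.t a b h (c' a) = c' b) (hd : ∀ a, c a ∣ c' a) (a b : κ) (h : a ≤ b) (x : HL I (S.X a) (c a)) :
    trHL S c' hc' a b h (res (c a) (c' a) (hd a) x) = res (c b) (c' b) (hd b) (trHL S c hc a b h x) :=
  AlgHom.congr_fun (away_hom_ext (isPairHenselization_HL I _ _) (henselianRing_HL _ _)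
    ((trHL S c' hc' a b h).comp (res (c a) (c' a) (hd a))) ((res (c b) (c' b) (hd b)).comp (trHL S c hc a b h)) fun x => by
      rw [AlgHom.comp_apply, AlgHom.comp_apply, res_algebraMap, trHL_algebraMap, trHL_algebraMap, res_algebraMap]) x

/-- A map into a henselian algebra which is compatible on the pieces lifts through a stage. -/
theorem exists_section_of_cover [IsDirectedOrder κ] [Nonempty κ] [HenselianRing A I]
    [HenselianRing B (I.map (algebraMap A B))] (S : HCocone I B κ)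
    {ι : Type u} [Finite ι] (b₀ : ι → B) (c : ι → ∀ a, S.X a) (hc : ∀ i a b h, S.t a b h (c i a) = c i b)
    (hcb : ∀ i a, S.f a (c i a) = b₀ i) (hcov : ∀ a, Ideal.span (Set.range fun i => c i a) = ⊤)
    (H : ι → Type u) [∀ i, CommRing (H i)] [∀ i, Algebra (Localization.Away (b₀ i)) (H i)]
    [∀ i, Algebra B (H i)] [∀ i, Algebra A (H i)] [∀ i, IsScalarTower B (Localization.Away (b₀ i)) (H i)]
    [∀ i, IsScalarTower A B (H i)]
    (hH : ∀ i, Hens2.IsPairHenselization (Localization.Away (b₀ i))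
      (I.map (algebraMap A (Localization.Away (b₀ i)))) (H i))
    (R : ι → Type u) [∀ i, CommRing (R i)] [∀ i, Algebra A (R i)]
    [∀ i, Algebra.FinitePresentation A (R i)] [∀ i, Algebra (R i) (H i)]
    [∀ i, IsScalarTower A (R i) (H i)]
    (hR : ∀ i, Hens2.IsPairHenselization (R i) (I.map (algebraMap A (R i))) (H i)) :
    ∃ (a : κ) (φ : B →ₐ[A] S.X a), ∀ y, S.f a (φ y) = y := by
  classical
  haveI := fun a => S.hens a
  let cc : ι → ι → ∀ a, S.X a := fun i j a => c i a * c j a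
  have hcc : ∀ i j a b h, S.t a b h (cc i j a) = cc i j b := fun i j a b h => by simp only [cc, map_mul, hc]
  have hccb : ∀ i j a, S.f a (cc i j a) = b₀ i * b₀ j := fun i j a => by simp only [cc, map_mul, hcb]
  let Hij : ι → ι → Type u := fun i j => HL I B (b₀ i * b₀ j)
  have hHij : ∀ i j, Hens2.IsPairHenselization (Localization.Away (b₀ i * b₀ j))
      (I.map (algebraMap A (Localization.Away (b₀ i * b₀ j)))) (Hij i j) := fun i j => isPairHenselization_HL I B _
  -- lifts on the pieces, at a common stage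
  choose a φ hφ using fun i => (colim_HL S (c i) (hc i) (hH i) (hcb i)).1 (R i) (hR i)
  obtain ⟨a₁, ha₁⟩ := Finite.exists_le a
  let ψ : ∀ i, H i →ₐ[A] HL I (S.X a₁) (c i a₁) := fun i => (trHL S (c i) (hc i) (a i) a₁ (ha₁ i)).comp (φ i)
  have hψ : ∀ i y, θHL S (c i) (hH i) (hcb i) a₁ (ψ i y) = y := fun i y => (θHL_trHL S (c i) (hc i) (hH i) (hcb i) _ _ _ _).trans (hφ i y)
  -- the restrictions to overlaps
  let σ : ∀ i j a, HL I (S.X a) (c i a) →ₐ[A] HL I (S.X a) (cc i j a) := fun i j a => res _ _ (dvd_mul_right _ _)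
  let τ : ∀ i j a, HL I (S.X a) (c j a) →ₐ[A] HL I (S.X a) (cc i j a) := fun i j a => res _ _ (dvd_mul_left _ _)
  let β : ∀ i j, B →ₐ[A] HL I (S.X a₁) (cc i j a₁) := fun i j => ((σ i j a₁).comp (ψ i)).comp (IsScalarTower.toAlgHom A B (H i))
  let β' : ∀ i j, B →ₐ[A] HL I (S.X a₁) (cc i j a₁) := fun i j => ((τ i j a₁).comp (ψ j)).comp (IsScalarTower.toAlgHom A B (H j))
  let θ' := fun i j => θHL S (cc i j) (hHij i j) (hccb i j)
  have hσθ : ∀ i j a, ∀ g : H i →ₐ[A] Hij i j, (∀ y, g (algebraMap B (H i) y) = algebraMap B (Hij i j) y) →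
      ∀ x, θ' i j a (σ i j a x) = g (θHL S (c i) (hH i) (hcb i) a x) := fun i j a g hg x =>
    AlgHom.congr_fun (away_hom_ext (isPairHenselization_HL I _ _) (henselianRing_HL _ _)
      ((θ' i j a).comp (σ i j a)) (g.comp (θHL S (c i) (hH i) (hcb i) a)) fun x => by
        simp only [AlgHom.comp_apply, σ, θ', res_algebraMap, θHL_algebraMap, hg]) x
  have hτθ : ∀ i j a, ∀ g : H j →ₐ[A] Hij i j, (∀ y, g (algebraMap B (H j) y) = algebraMap B (Hij i j) y) →
      ∀ x, θ' i j a (τ i j a x) = g (θHL S (c j) (hH j) (hcb j) a x) := fun i j a g hg x =>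
    AlgHom.congr_fun (away_hom_ext (isPairHenselization_HL I _ _) (henselianRing_HL _ _)
      ((θ' i j a).comp (τ i j a)) (g.comp (θHL S (c j) (hH j) (hcb j) a)) fun x => by
        simp only [AlgHom.comp_apply, τ, θ', res_algebraMap, θHL_algebraMap, hg]) x
  have key : ∀ i j, ∃ b, ∃ h : a₁ ≤ b, ∀ y : B,
      trHL S (cc i j) (hcc i j) a₁ b h (β i j y) = trHL S (cc i j) (hcc i j) a₁ b h (β' i j y) := by
    intro i j
    obtain ⟨gi, hgi⟩ := exists_away_lift (hH i) (henselianRing_HL (I := I) B (b₀ i * b₀ j)) (IsScalarTower.toAlgHom A B _)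
      (isUnit_of_dvd_unit ((algebraMap B (Hij i j)).map_dvd (dvd_mul_right _ _)) (isUnit_away (b₀ i * b₀ j) _))
    obtain ⟨gj, hgj⟩ := exists_away_lift (hH j) (henselianRing_HL (I := I) B (b₀ i * b₀ j)) (IsScalarTower.toAlgHom A B _)
      (isUnit_of_dvd_unit ((algebraMap B (Hij i j)).map_dvd (dvd_mul_left _ _)) (isUnit_away (b₀ i * b₀ j) _))
    have hβ : ∀ y, θ' i j a₁ (β i j y) = algebraMap B _ y := fun y =>
      (hσθ i j a₁ gi hgi _).trans ((congrArg gi (hψ i _)).trans (hgi y))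
    have hβ' : ∀ y, θ' i j a₁ (β' i j y) = algebraMap B _ y := fun y =>
      (hτθ i j a₁ gj hgj _).trans ((congrArg gj (hψ j _)).trans (hgj y))
    obtain ⟨-, hinj, huniq⟩ := colim_HL S (cc i j) (hcc i j) (hHij i j) (hccb i j)
    obtain ⟨b, hb, heq⟩ := hinj a₁ (β' i j (b₀ i)) (algebraMap (S.X a₁) _ (c i a₁)) ((hβ' (b₀ i)).trans (by
      rw [θHL_algebraMap, hcb]))
    rw [trHL_algebraMap] at heq
    obtain ⟨ξ, hξ⟩ := exists_away_lift (hH i) (henselianRing_HL _ _)
      ((trHL S (cc i j) (hcc i j) a₁ b hb).comp (β' i j)) (by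
        show IsUnit (trHL S (cc i j) (hcc i j) a₁ b hb (β' i j (b₀ i)))
        rw [heq, hc]
        exact isUnit_of_dvd_unit ((algebraMap (S.X b) _).map_dvd (dvd_mul_right _ _)) (isUnit_away (cc i j b) _))
    let ξ₀ : H i →ₐ[A] HL I (S.X b) (cc i j b) := (trHL S (cc i j) (hcc i j) a₁ b hb).comp ((σ i j a₁).comp (ψ i))
    obtain ⟨d, hd, hd'⟩ := huniq (R i) (H i) (hR i) b ξ₀ ξ fun z =>
      AlgHom.congr_fun (away_hom_ext (hH i) (henselianRing_HL _ _) ((θ' i j b).comp ξ₀) ((θ' i j b).comp ξ) fun y => by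
        show θ' i j b (trHL S (cc i j) (hcc i j) a₁ b hb (β i j y)) = θ' i j b (ξ (algebraMap B (H i) y))
        rw [hξ]
        exact (θHL_trHL S (cc i j) (hcc i j) (hHij i j) (hccb i j) a₁ b hb _).trans ((hβ y).trans ((hβ' y).symm.trans
          (θHL_trHL S (cc i j) (hcc i j) (hHij i j) (hccb i j) a₁ b hb _).symm))) z
    refine ⟨d, hb.trans hd, fun y => ?_⟩
    have h2 := hd' (algebraMap B (H i) y)
    rw [hξ] at h2
    change trHL S (cc i j) (hcc i j) b d hd (trHL S (cc i j) (hcc i j) a₁ b hb (β i j y)) =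
      trHL S (cc i j) (hcc i j) b d hd (trHL S (cc i j) (hcc i j) a₁ b hb (β' i j y)) at h2
    rwa [trHL_trHL, trHL_trHL] at h2
  choose b hb hbeq using key
  obtain ⟨a₂', ha₂'⟩ := Finite.exists_le fun p : ι × ι => b p.1 p.2
  obtain ⟨a₂, h2', h12⟩ := exists_ge_ge a₂' a₁
  let ψ₂ : ∀ i, B →ₐ[A] HL I (S.X a₂) (c i a₂) := fun i =>
    (trHL S (c i) (hc i) a₁ a₂ h12).comp ((ψ i).comp (IsScalarTower.toAlgHom A B (H i)))
  have hψ₂ : ∀ i y, θHL S (c i) (hH i) (hcb i) a₂ (ψ₂ i y) = algebraMap B (H i) y := fun i y =>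
    (θHL_trHL S (c i) (hc i) (hH i) (hcb i) _ _ _ _).trans (hψ i _)
  have hcompat : ∀ i j y, σ i j a₂ (ψ₂ i y) = τ i j a₂ (ψ₂ j y) := fun i j y => by
    have h1 : b i j ≤ a₂ := (ha₂' (i, j)).trans h2'
    have h3 := congrArg (trHL S (cc i j) (hcc i j) (b i j) a₂ h1) (hbeq i j y)
    rw [trHL_trHL, trHL_trHL] at h3
    refine (res_trHL S (c i) (cc i j) (hc i) (hcc i j) (fun a => dvd_mul_right _ _) a₁ a₂ h12 _).symm.trans ?_
    exact h3.trans (res_trHL S (c j) (cc i j) (hc j) (hcc i j) (fun a => dvd_mul_left _ _) a₁ a₂ h12 _)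
  -- glueing on `S.X a₂`
  let X := S.X a₂
  let ρ : ∀ i, X →ₐ[X] HL I X (c i a₂) := fun i => Algebra.ofId X _
  let σX : ∀ i j, HL I X (c i a₂) →ₐ[X] HL I X (cc i j a₂) := fun i j =>
    { toRingHom := (σ i j a₂).toRingHom, commutes' := res_algebraMap _ _ _ }
  let τX : ∀ i j, HL I X (c j a₂) →ₐ[X] HL I X (cc i j a₂) := fun i j =>
    { toRingHom := (τ i j a₂).toRingHom, commutes' := res_algebraMap _ _ _ }
  have hmap : ∀ e : X, (I.map (algebraMap A X)).map (algebraMap X (Localization.Away e)) =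
      I.map (algebraMap A (Localization.Away e)) := fun e => map_map_eq I
  obtain ⟨hun, hgl⟩ := HensGlueLib.sheaf_condition (H := X) (I := I.map (algebraMap A X)) (fun i => c i a₂)
    (by rw [hcov, sup_top_eq]) (isPairHenselization_self inferInstance) (fun i => HL I X (c i a₂))
    (fun i => by rw [hmap]; exact isPairHenselization_HL I X _) (fun i j => HL I X (cc i j a₂))
    (fun i j => by rw [hmap]; exact isPairHenselization_HL I X _) ρ σX τX
  choose φ₀ hφ₀ using fun y : B => hgl (fun i => ψ₂ i y) fun i j => hcompat i j y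
  have hext : ∀ x x' : X, (∀ i, algebraMap X (HL I X (c i a₂)) x = algebraMap X _ x') → x = x' := fun x x' h => hun x x' h
  let φB : B →ₐ[A] X :=
    { toFun := φ₀
      map_one' := hext _ _ fun i => by rw [show algebraMap X _ (φ₀ 1) = _ from hφ₀ 1 i, map_one, map_one]
      map_zero' := hext _ _ fun i => by rw [show algebraMap X _ (φ₀ 0) = _ from hφ₀ 0 i, map_zero, map_zero]
      map_mul' := fun x y => hext _ _ fun i => by
        rw [map_mul, show algebraMap X _ (φ₀ (x * y)) = _ from hφ₀ _ i, show algebraMap X _ (φ₀ x) = _ from hφ₀ x i,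
          show algebraMap X _ (φ₀ y) = _ from hφ₀ y i, map_mul]
      map_add' := fun x y => hext _ _ fun i => by
        rw [map_add, show algebraMap X _ (φ₀ (x + y)) = _ from hφ₀ _ i, show algebraMap X _ (φ₀ x) = _ from hφ₀ x i,
          show algebraMap X _ (φ₀ y) = _ from hφ₀ y i, map_add]
      commutes' := fun r => hext _ _ fun i => by
        rw [show algebraMap X _ (φ₀ (algebraMap A B r)) = _ from hφ₀ _ i, AlgHom.commutes]
        exact IsScalarTower.algebraMap_apply A X _ r }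
  refine ⟨a₂, φB, fun y => ?_⟩
  -- injectivity of `B → ∏ H i`
  have hb₀ : Ideal.span (Set.range b₀) = ⊤ := by
    have h1 := congrArg (Ideal.map (S.f a₂ : X →+* B)) (hcov a₂)
    rw [Ideal.map_span, Ideal.map_top, ← Set.range_comp] at h1
    rwa [show ((S.f a₂ : X →+* B) ∘ fun i => c i a₂) = b₀ from funext fun i => hcb i a₂] at h1
  obtain ⟨hunB, -⟩ := HensGlueLib.sheaf_condition (H := B) (I := I.map (algebraMap A B)) b₀
    (by rw [hb₀, sup_top_eq]) (isPairHenselization_self inferInstance) H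
    (fun i => by rw [map_map_eq I]; exact hH i) Hij
    (fun i j => by rw [map_map_eq I]; exact hHij i j) (fun i => Algebra.ofId B (H i))
    (fun i j => (exists_away_lift (A := B) (I := I.map (algebraMap A B)) (R := B) (c := b₀ i)
      (by rw [map_map_eq I]; exact hH i) (by rw [map_map_eq I]; exact henselianRing_HL (I := I) B (b₀ i * b₀ j)) (Algebra.ofId B (Hij i j))
      (isUnit_of_dvd_unit ((algebraMap B (Hij i j)).map_dvd (dvd_mul_right _ _)) (isUnit_away (b₀ i * b₀ j) _))).choose)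
    (fun i j => (exists_away_lift (A := B) (I := I.map (algebraMap A B)) (R := B) (c := b₀ j)
      (by rw [map_map_eq I]; exact hH j) (by rw [map_map_eq I]; exact henselianRing_HL (I := I) B (b₀ i * b₀ j)) (Algebra.ofId B (Hij i j))
      (isUnit_of_dvd_unit ((algebraMap B (Hij i j)).map_dvd (dvd_mul_left _ _)) (isUnit_away (b₀ i * b₀ j) _))).choose)
  refine hunB _ _ fun i => ?_
  show algebraMap B (H i) (S.f a₂ (φ₀ y)) = algebraMap B (H i) y
  rw [← θHL_algebraMap S (c i) (hH i) (hcb i) a₂ (φ₀ y), show algebraMap X _ (φ₀ y) = _ from hφ₀ y i]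
  exact hψ₂ i y

/-- Being henselian finitely presented is local on a cover by basic opens. -/
theorem isCompactHens_of_cover [HenselianRing A I] [HenselianRing B (I.map (algebraMap A B))]
    {ι : Type u} [Finite ι] (b₀ : ι → B) (hb : Ideal.span (Set.range b₀) = ⊤)
    (H : ι → Type u) [∀ i, CommRing (H i)] [∀ i, Algebra (Localization.Away (b₀ i)) (H i)]
    [∀ i, Algebra B (H i)] [∀ i, Algebra A (H i)] [∀ i, IsScalarTower B (Localization.Away (b₀ i)) (H i)]
    [∀ i, IsScalarTower A B (H i)]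
    (hH : ∀ i, Hens2.IsPairHenselization (Localization.Away (b₀ i))
      (I.map (algebraMap A (Localization.Away (b₀ i)))) (H i))
    (R : ι → Type u) [∀ i, CommRing (R i)] [∀ i, Algebra A (R i)]
    [∀ i, Algebra.FinitePresentation A (R i)] [∀ i, Algebra (R i) (H i)]
    [∀ i, IsScalarTower A (R i) (H i)]
    (hR : ∀ i, Hens2.IsPairHenselization (R i) (I.map (algebraMap A (R i))) (H i)) : IsCompactHens I B := by
  intro κ _ _ _ Ra _ _ _ t hds ht f hf hsurj hinj
  let S : HCocone I B κ :=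
    { X := Ra, ring := inferInstance, alg := inferInstance, hens := inferInstance, t := t
      t_self := fun a x => hds.map_self (f := fun a b h => t a b h) x
      t_t := fun a b c hab hbc x => DirectedSystem.map_map (f := fun a b h => t a b h) hab hbc x
      t_alg := ht, f := f, f_t := hf, surj := hsurj, inj := hinj }
  obtain ⟨a₀, c, hcf, hcov⟩ := exists_lift_cover S b₀ hb
  haveI : Nonempty {a : κ // a₀ ≤ a} := ⟨⟨a₀, le_rfl⟩⟩
  haveI : IsDirectedOrder {a : κ // a₀ ≤ a} := ⟨fun x y => by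
    obtain ⟨z, hxz, hyz⟩ := exists_ge_ge x.1 y.1
    exact ⟨⟨z, x.2.trans hxz⟩, hxz, hyz⟩⟩
  obtain ⟨a, φ, hφ⟩ := exists_section_of_cover (S.above a₀) b₀ (fun i a => S.t a₀ a.1 a.2 (c i))
    (fun i a b h => S.t_t a₀ a.1 b.1 a.2 h (c i)) (fun i a => (S.f_t a₀ a.1 a.2 (c i)).trans (hcf i))
    (fun a => hcov a.1 a.2) H hH R hR
  exact ⟨a.1, φ, hφ⟩

end PairHensLib
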