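import Groth.Agent.PairHensLib.Api
import Mathlib.RingTheory.Ideal.Quotient.Operations
import Mathlib.Algebra.Algebra.Pi
import Mathlib.RingTheory.IntegralClosure.Algebra.Basic

/-! Henselizations along comaximal intersections. -/

set_option autoImplicit false
set_option maxHeartbeats 800000
universe u

noncomputable section

namespace PairHensLib

open Finset

open Polynomial in
/-- A product of henselian pairs is henselian. -/
theorem henselianRing_pi {ι : Type} {R : ι → Type u} [∀ j, CommRing (R j)] {J : ∀ j, Ideal (R j)}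
    (h : ∀ j, HenselianRing (R j) (J j)) :
    HenselianRing (∀ j, R j) (⨅ j, (J j).comap (Pi.evalRingHom R j)) := by
  classical
  have hjac : (⨅ i, (J i).comap (Pi.evalRingHom R i)) ≤ Ideal.jacobson ⊥ := fun x hx => by
    rw [Ideal.mem_jacobson_bot]
    intro y
    rw [Pi.isUnit_iff]
    intro j
    exact Ideal.mem_jacobson_bot.1 ((h j).jac (Ideal.mem_iInf.1 hx j)) (y j)
  refine HenselLib.henselianRing_of_gabberRoots hjac fun n hn p hp hc => ?_
  have hex : ∀ j, ∃ α : R j, α - 1 ∈ J j ∧ (X ^ n * (X - 1) + p.map (Pi.evalRingHom R j)).IsRoot α := fun j => by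
    haveI := h j
    exact HenselLib.gabberRoots_of_henselianRing (I := J j) n hn _ (natDegree_map_le.trans hp) fun i => by
      rw [coeff_map]; exact Ideal.mem_iInf.1 (hc i) j
  choose α hα hroot using hex
  refine ⟨α, Ideal.mem_iInf.2 fun j => hα j, funext fun j => ?_⟩
  have h2 : ((X ^ n * (X - 1) + p).map (Pi.evalRingHom R j)).eval (α j) = 0 := by
    simpa [Polynomial.map_add, IsRoot] using hroot j
  rw [show α j = Pi.evalRingHom R j α from rfl, eval_map_apply] at h2
  exact h2

variable {A : Type u} [CommRing A] {ι : Type} [Fintype ι] [DecidableEq ι] {I : ι → Ideal A}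
  {B : ι → Type u} [∀ i, CommRing (B i)] [∀ i, Algebra A (B i)]

/-- The product of henselizations along pairwise comaximal ideals. -/
theorem isPairHenselization_pi (hI : Pairwise fun i j => I i ⊔ I j = ⊤)
    (hB : ∀ i, Hens2.IsPairHenselization A (I i) (B i)) :
    Hens2.IsPairHenselization A (⨅ i, I i) (∀ i, B i) := by
  classical
  let K := ⨅ i, I i
  have hbij := Ideal.quotientInfToPiQuotient_surj (I := I)
    (fun i j hij => Ideal.isCoprime_iff_sup_eq.2 (hI hij))
  have hex : ∀ i, ∃ e : A, ∀ j, Ideal.Quotient.mk (I j) e = if j = i then 1 else 0 := fun i => by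
    obtain ⟨x, hx⟩ := hbij fun j => if j = i then 1 else 0
    obtain ⟨e, rfl⟩ := Ideal.Quotient.mk_surjective x
    exact ⟨e, fun j => congrFun hx j⟩
  choose e he using hex
  have hmem : ∀ (a : A), a ∈ K ↔ ∀ j, Ideal.Quotient.mk (I j) a = 0 := fun a => by
    simp [K, Ideal.Quotient.eq_zero_iff_mem]
  refine ⟨?_, fun C _ J f hC hfJ => ?_⟩
  · refine @HenselLib.henselianRing_of_le _ _ _ _ (henselianRing_pi (J := fun i => ((I i).map (algebraMap A (B i)) : Ideal (B i))) fun i => (hB i).1) ?_
    rw [Ideal.map_le_iff_le_comap]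
    intro a ha
    simp only [Ideal.mem_comap, Ideal.mem_iInf]
    exact fun i => Ideal.mem_map_of_mem (algebraMap A (B i)) (Ideal.mem_iInf.1 ha i)
  haveI := hC
  have hfK : ∀ a ∈ K, f a ∈ J := fun a ha => hfJ (Ideal.mem_map_of_mem f ha)
  -- idempotents
  have hid : ∀ i, ∃ ε : C, IsIdempotentElem ε ∧ ε - f (e i) ∈ J := fun i => by
    have hsq : e i * e i - e i ∈ K := (hmem _).2 fun j => by
      rw [map_sub, map_mul, he]; split_ifs <;> simp
    obtain ⟨ε, h1, h2⟩ := HenselLib.exists_idempotent_lift (I := J) (B := C) (f (e i)) (by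
      rw [Algebra.algebraMap_self, Ideal.map_id, ← map_mul, ← map_sub]; exact hfK _ hsq)
    rw [Algebra.algebraMap_self, Ideal.map_id] at h2
    exact ⟨ε, h1, h2⟩
  choose ε hεi hεJ using hid
  have hεmk : ∀ i, Ideal.Quotient.mk J (ε i) = Ideal.Quotient.mk J (f (e i)) := fun i =>
    Ideal.Quotient.eq.2 (hεJ i)
  have hεe : ∀ i j, i ≠ j → ε i * ε j = 0 := fun i j hij => by
    refine HenselLib.idem_eq_of_sub_mem (HenselianRing.jac (I := J)) ((hεi i).mul (hεi j)) IsIdempotentElem.zero ?_
    rw [sub_zero, ← Ideal.Quotient.eq_zero_iff_mem, map_mul, hεmk, hεmk, ← map_mul, ← map_mul,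
      Ideal.Quotient.eq_zero_iff_mem]
    refine hfK _ ((hmem _).2 fun k => ?_)
    rw [map_mul, he, he]
    split_ifs with h1 h2 <;> first | exact absurd (h1.symm.trans h2) hij | simp
  have hoi : OrthogonalIdempotents ε := ⟨hεi, hεe⟩
  have hsum : ∑ i, ε i = 1 := by
    refine HenselLib.idem_eq_of_sub_mem (HenselianRing.jac (I := J)) hoi.isIdempotentElem_sum IsIdempotentElem.one ?_
    rw [← Ideal.Quotient.eq_zero_iff_mem, map_sub, map_sum, sum_congr rfl fun i _ => hεmk i, map_one,
      ← map_sum, ← map_sum, ← (Ideal.Quotient.mk J).map_one, ← f.map_one, ← map_sub, ← map_sub, Ideal.Quotient.eq_zero_iff_mem]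
    exact hfK _ ((hmem _).2 fun k => by rw [map_sub, map_sum, sum_congr rfl fun i _ => he i k]; simp)
  -- factors
  let a : ι → Ideal C := fun i => Ideal.span {1 - ε i}
  have ha : ∀ i (c : C), Ideal.Quotient.mk (a i) c = 0 ↔ c * ε i = 0 := fun i c => by
    rw [Ideal.Quotient.eq_zero_iff_mem, Ideal.mem_span_singleton]
    constructor
    · rintro ⟨d, rfl⟩
      have h := (hεi i).eq
      linear_combination -d * h
    · intro h
      exact ⟨c, by linear_combination h⟩
  have h1 : ∀ i, Ideal.Quotient.mk (a i) (ε i) = 1 := fun i =>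
    (Ideal.Quotient.eq.2 (by rw [← neg_sub]; exact (a i).neg_mem (Ideal.subset_span rfl))).trans (map_one _)
  have hfi : ∀ i, (I i).map ((Ideal.Quotient.mk (a i)).comp f) ≤ J.map (Ideal.Quotient.mk (a i)) := fun i => by
    rw [Ideal.map_le_iff_le_comap]
    intro x hx
    have hK : x * e i ∈ K := (hmem _).2 fun j => by
      rw [map_mul, he]
      split_ifs with hj
      · subst hj; rw [Ideal.Quotient.eq_zero_iff_mem.2 hx, zero_mul]
      · rw [mul_zero]
    have hJ : f x * ε i ∈ J := by
      have := J.add_mem (J.mul_mem_left (f x) (hεJ i)) (hfK _ hK)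
      rw [map_mul] at this
      rwa [mul_sub, sub_add_cancel] at this
    have := Ideal.mem_map_of_mem (Ideal.Quotient.mk (a i)) hJ
    rw [map_mul, h1, mul_one] at this
    exact this
  haveI hhens : ∀ i, HenselianRing (C ⧸ a i) (J.map (Ideal.Quotient.mk (a i))) := fun i =>
    HenselLib.henselianRing_map_of_isIntegral (A := C) (I := J) (B := C ⧸ a i)
  choose g hg hguniq using fun i =>
    (hB i).2 (C ⧸ a i) (J.map (Ideal.Quotient.mk (a i))) ((Ideal.Quotient.mk (a i)).comp f) (hhens i) (hfi i)
  let Φ : C →+* ∀ i, C ⧸ a i := RingHom.pi fun i => Ideal.Quotient.mk (a i)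
  have hΦ : Function.Bijective Φ := by
    refine ⟨(injective_iff_map_eq_zero Φ).2 fun c hc => ?_, fun y => ?_⟩
    · rw [← mul_one c, ← hsum, mul_sum]
      exact sum_eq_zero fun i _ => (ha i c).1 (congrFun hc i)
    · choose c hc using fun i => Ideal.Quotient.mk_surjective (y i)
      refine ⟨∑ i, ε i * c i, funext fun j => ?_⟩
      show Ideal.Quotient.mk (a j) (∑ i, ε i * c i) = y j
      rw [map_sum, sum_eq_single j (fun i _ hij => (ha j _).2 (by rw [mul_right_comm, hεe i j hij, zero_mul]))
        (fun h => absurd (mem_univ j) h), map_mul, h1, one_mul, hc]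
  let E := RingEquiv.ofBijective Φ hΦ
  let G : (∀ i, B i) →+* ∀ i, C ⧸ a i := RingHom.pi fun i => (g i).comp (Pi.evalRingHom B i)
  refine ⟨E.symm.toRingHom.comp G, RingHom.ext fun x => ?_, fun g' (hg' : g'.comp _ = f) => ?_⟩
  · show E.symm (G (algebraMap A _ x)) = f x
    rw [RingEquiv.symm_apply_eq]
    exact funext fun i => RingHom.congr_fun (hg i) x
  have hf' : ∀ x, g' (algebraMap A _ x) = f x := RingHom.congr_fun hg'
  have hidP : ∀ i, IsIdempotentElem (Pi.single i 1 : ∀ i, B i) := fun i => by
    show Pi.single i (1 : B i) * Pi.single i 1 = _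
    rw [← Pi.single_mul, mul_one]
  have hg1 : ∀ i, g' (Pi.single i 1) = ε i := fun i => by
    refine HenselLib.idem_eq_of_sub_mem (HenselianRing.jac (I := J)) ((hidP i).map g') (hεi i) ?_
    have hzj : (Pi.single i 1 : ∀ i, B i) - algebraMap A _ (e i) ∈ K.map (algebraMap A (∀ i, B i)) := by
      rw [← Finset.univ_sum_single ((Pi.single i 1 : ∀ i, B i) - algebraMap A _ (e i))]
      refine Ideal.sum_mem _ fun j _ => ?_
      let M := K.map (algebraMap A (∀ i, B i))
      let Q : Ideal (B j) :=
        { carrier := {y | (Pi.single j y : ∀ i, B i) ∈ M}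
          add_mem' := fun {x y} (hx : (Pi.single j x : ∀ i, B i) ∈ M) (hy : (Pi.single j y : ∀ i, B i) ∈ M) => by
            show (Pi.single j (x + y) : ∀ i, B i) ∈ M
            rw [Pi.single_add]; exact add_mem hx hy
          zero_mem' := by show (Pi.single j 0 : ∀ i, B i) ∈ M; rw [Pi.single_zero]; exact zero_mem _
          smul_mem' := fun c y (hy : (Pi.single j y : ∀ i, B i) ∈ M) => by
            show (Pi.single j (c * y) : ∀ i, B i) ∈ M
            rw [Pi.single_mul]; exact Ideal.mul_mem_left _ _ hy }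
      have hle : (I j).map (algebraMap A (B j)) ≤ Q := by
        rw [Ideal.map_le_iff_le_comap]
        intro x hx
        have hK : x * e j ∈ K := (hmem _).2 fun k => by
          rw [map_mul, he]
          split_ifs with hk
          · subst hk; rw [Ideal.Quotient.eq_zero_iff_mem.2 hx, zero_mul]
          · rw [mul_zero]
        obtain ⟨v, hv⟩ : IsUnit (algebraMap A (B j) (e j)) :=
          HenselLib.isUnit_of_sub_mem (hB j).1.jac isUnit_one (by
            rw [← map_one (algebraMap A (B j)), ← map_sub]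
            exact Ideal.mem_map_of_mem _ (Ideal.Quotient.eq.1 (by rw [he, if_pos rfl, map_one])))
        show (Pi.single j (algebraMap A (B j) x) : ∀ i, B i) ∈ M
        have heq : (Pi.single j (algebraMap A (B j) x) : ∀ i, B i) =
            algebraMap A _ (x * e j) * Pi.single j (↑v⁻¹ : B j) := by
          refine funext fun k => ?_
          rcases eq_or_ne k j with rfl | hk
          · rw [Pi.mul_apply, Pi.single_eq_same, Pi.single_eq_same, Pi.algebraMap_apply, map_mul, ← hv, Units.mul_inv_cancel_right]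
          · rw [Pi.mul_apply, Pi.single_eq_of_ne hk, Pi.single_eq_of_ne hk, mul_zero]
        rw [heq]
        exact Ideal.mul_mem_right _ _ (Ideal.mem_map_of_mem _ hK)
      refine hle ?_
      rw [Pi.sub_apply, Pi.algebraMap_apply]
      rcases eq_or_ne j i with rfl | hji
      · rw [Pi.single_eq_same, ← map_one (algebraMap A (B j)), ← map_sub]
        exact Ideal.mem_map_of_mem _ (Ideal.Quotient.eq.1 (by rw [he, if_pos rfl, map_one]))
      · rw [Pi.single_eq_of_ne hji, zero_sub, neg_mem_iff]
        exact Ideal.mem_map_of_mem _ (Ideal.Quotient.eq_zero_iff_mem.1 (by rw [he, if_neg hji]))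
    have := Ideal.mem_map_of_mem g' hzj
    rw [Ideal.map_map, hg', map_sub, hf'] at this
    have hmk := Ideal.Quotient.eq.2 (hfJ this)
    exact Ideal.Quotient.eq.1 (hmk.trans (hεmk i).symm)
  have hkey : ∀ i (p : ∀ i, B i), Ideal.Quotient.mk (a i) (g' p) =
      Ideal.Quotient.mk (a i) (g' (Pi.single i (p i))) := fun i p => by
    rw [← mul_one (Ideal.Quotient.mk (a i) (g' p)), ← h1 i, ← hg1, ← map_mul, ← map_mul]
    congr 2
    ext k
    rcases eq_or_ne k i with rfl | hk
    · simp
    · simp [Pi.single_eq_of_ne hk]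
  let gi : ∀ i, B i →+* C ⧸ a i := fun i =>
    { toFun := fun b => Ideal.Quotient.mk (a i) (g' (Pi.single i b))
      map_one' := by rw [hg1, h1]
      map_mul' := fun x y => by rw [Pi.single_mul, map_mul, map_mul]
      map_zero' := by rw [Pi.single_zero, map_zero, map_zero]
      map_add' := fun x y => by rw [Pi.single_add, map_add, map_add] }
  have hgi : ∀ i, gi i = g i := fun i => hguniq i (gi i) (RingHom.ext fun x => by
    show Ideal.Quotient.mk (a i) (g' (Pi.single i (algebraMap A (B i) x))) = Ideal.Quotient.mk (a i) (f x)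
    rw [← hf' x, hkey i (algebraMap A _ x), Pi.algebraMap_apply])
  refine RingHom.ext fun p => E.injective ?_
  show E (g' p) = E (E.symm (G p))
  rw [RingEquiv.apply_symm_apply]
  exact funext fun i => (hkey i p).trans (RingHom.congr_fun (hgi i) (p i))

end PairHensLib
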