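import Groth.Agent.PairHensLib.Surj
import Groth.Agent.HenselLib.SmoothLift

/-! An h-finitely presented algebra with smooth truncations is a quotient of an h-smooth one. -/

set_option autoImplicit false
set_option maxHeartbeats 1000000
universe u

noncomputable section

namespace PairHensLib

variable {A R B : Type u} [CommRing A] [CommRing R] [CommRing B] [Algebra A R] [Algebra R B] [Algebra A B]
  [IsScalarTower A R B] {I : Ideal A}
variable {C : Type u} [CommRing C] [Algebra A C] {J : Ideal C} [HenselianRing C J]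

theorem exists_algHom_reduction_smooth [Algebra.Smooth A R] (hB : Hens2.IsPairHenselization R (I.map (algebraMap A R)) B)
    (hIJ : I.map (algebraMap A C) ≤ J) (χ : B ⧸ I.map (algebraMap A B) →ₐ[A] C ⧸ J) :
    ∃ φ : B →ₐ[A] C, ∀ b, Ideal.Quotient.mk J (φ b) = χ (Ideal.Quotient.mk _ b) := by
  let π : B →ₐ[A] C ⧸ J := χ.comp (Ideal.Quotient.mkₐ A _)
  obtain ⟨τ, hτ⟩ := HenselLib.exists_smooth_lift R J (π.comp (IsScalarTower.toAlgHom A R B))
  have hle : (I.map (algebraMap A R)).map (τ : R →+* C) ≤ J := by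
    rw [Ideal.map_map, τ.comp_algebraMap]; exact hIJ
  obtain ⟨g, hg, -⟩ := hB.2 C J (τ : R →+* C) ‹_› hle
  let φ : B →ₐ[A] C :=
    { toRingHom := g
      commutes' := fun a => by
        show g (algebraMap A B a) = _
        rw [IsScalarTower.algebraMap_apply A R B, ← RingHom.comp_apply, hg]
        exact τ.commutes a }
  refine ⟨φ, fun b => ?_⟩
  obtain ⟨r, hr⟩ := exists_sub_mem_pow hB 1 b
  rw [pow_one, map_map_eq] at hr
  have h1 : Ideal.Quotient.mk J (φ (b - algebraMap R B r)) = 0 := by
    have := Ideal.mem_map_of_mem (φ : B →+* C) hr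
    rw [Ideal.map_map, φ.comp_algebraMap] at this
    exact Ideal.Quotient.eq_zero_iff_mem.2 (hIJ this)
  have h2 : π (b - algebraMap R B r) = 0 := by
    show χ (Ideal.Quotient.mk _ _) = 0
    rw [Ideal.Quotient.eq_zero_iff_mem.2 hr, map_zero]
  have h3 : Ideal.Quotient.mk J (φ (algebraMap R B r)) = π (algebraMap R B r) := by
    show Ideal.Quotient.mk J (g (algebraMap R B r)) = _
    rw [← RingHom.comp_apply g, hg]
    exact AlgHom.congr_fun hτ r
  rw [map_sub, map_sub, h3, sub_eq_zero] at h1
  rw [map_sub, sub_eq_zero] at h2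
  exact h1.trans h2.symm

/-- An endomorphism-like map congruent to the quotient map modulo `I` only kills `I ^ n`. -/
theorem mem_of_reduction_id {H : Type u} [CommRing H] [Algebra A H] {n : ℕ}
    (w : H →ₐ[A] H ⧸ (I ^ n).map (algebraMap A H))
    (hw : ∀ h, w h - Ideal.Quotient.mk _ h ∈ (I.map (algebraMap A H)).map (Ideal.Quotient.mk _))
    (x : H) (hx : w x = 0) : x ∈ (I ^ n).map (algebraMap A H) := by
  suffices ∀ k, k ≤ n → x ∈ (I ^ k).map (algebraMap A H) from this n le_rfl
  intro k hk
  induction k with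
  | zero => simp [Ideal.map_top]
  | succ k ih =>
    let q := Ideal.Quotient.mk ((I ^ n).map (algebraMap A H))
    have key : ∀ y ∈ (I ^ k).map (algebraMap A H), w y - q y ∈ ((I ^ (k + 1)).map (algebraMap A H)).map q := by
      intro y hy
      change y ∈ Ideal.span (algebraMap A H '' (I ^ k : Ideal A)) at hy
      induction hy using Submodule.span_induction with
      | mem z hz =>
        obtain ⟨a, ha, rfl⟩ := hz
        rw [AlgHom.commutes, show q (algebraMap A H a) = algebraMap A _ a from rfl, sub_self]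
        exact zero_mem _
      | zero => simp
      | add z z' _ _ h h' =>
        rw [map_add, map_add, add_sub_add_comm]
        exact add_mem h h'
      | smul c z hz h =>
        rw [smul_eq_mul, map_mul, map_mul, show w c * w z - q c * q z = w c * (w z - q z) + (w c - q c) * q z from by ring]
        refine add_mem (Ideal.mul_mem_left _ _ h) ?_
        have := Ideal.mul_mem_mul (hw c) (Ideal.mem_map_of_mem q (show z ∈ (I ^ k).map (algebraMap A H) from hz))
        rwa [← Ideal.map_mul, ← Ideal.map_mul, ← pow_succ'] at this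
    have h1 : q x ∈ ((I ^ (k + 1)).map (algebraMap A H)).map q := by
      have := key x (ih (by omega))
      rwa [hx, zero_sub, neg_mem_iff] at this
    rw [Ideal.mem_map_iff_of_surjective q Ideal.Quotient.mk_surjective] at h1
    obtain ⟨y, hy, hyx⟩ := h1
    have h2 : y - x ∈ (I ^ (k + 1)).map (algebraMap A H) :=
      Ideal.map_mono (Ideal.pow_le_pow_right hk) (Ideal.Quotient.eq.1 hyx)
    simpa using sub_mem hy h2

variable {R₀ : Type u} [CommRing R₀] [Algebra A R₀] [Algebra R₀ B] [IsScalarTower A R₀ B]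

theorem exists_smooth_surjection [HenselianRing A I] [Algebra.FinitePresentation A R₀]
    (hB : Hens2.IsPairHenselization R₀ (I.map (algebraMap A R₀)) B)
    (het : ∀ r : ℕ, 1 ≤ r → Algebra.Smooth (A ⧸ I ^ r) (B ⧸ (I ^ r).map (algebraMap A B)))
    {S : Type u} [CommRing S] [Algebra A S] [Algebra.Smooth A S] {H : Type u} [CommRing H] [Algebra S H] [Algebra A H]
    [IsScalarTower A S H] (hH : Hens2.IsPairHenselization S (I.map (algebraMap A S)) H)
    (χ : (H ⧸ I.map (algebraMap A H)) ≃ₐ[A] B ⧸ I.map (algebraMap A B)) :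
    ∃ φ : H →ₐ[A] B, Function.Surjective φ ∧ (RingHom.ker φ).FG ∧
      ∀ n : ℕ, RingHom.ker φ ≤ (I ^ n).map (algebraMap A H) := by
  haveI := henselianRing_tower hB
  haveI := henselianRing_tower hH
  obtain ⟨φ, hφ⟩ := exists_algHom_reduction_smooth hH le_rfl χ.toAlgHom
  letI : Algebra H B := φ.toRingHom.toAlgebra
  haveI : IsScalarTower A H B := IsScalarTower.of_algebraMap_eq fun a => (φ.commutes a).symm
  obtain ⟨T, _, _, _, _, hTfp, hT⟩ := hfp_between hH hB
  have hmod : Function.Surjective (Ideal.quotientMap ((I.map (algebraMap A H)).map (algebraMap H B))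
      (algebraMap H B) Ideal.le_comap_map) := fun z => by
    obtain ⟨b, rfl⟩ := Ideal.Quotient.mk_surjective z
    obtain ⟨x, hx⟩ := χ.surjective (Ideal.Quotient.mk _ b)
    obtain ⟨h, rfl⟩ := Ideal.Quotient.mk_surjective x
    refine ⟨Ideal.Quotient.mk _ h, ?_⟩
    rw [Ideal.quotientMap_mk, Ideal.Quotient.eq, Ideal.map_map, ← IsScalarTower.algebraMap_eq, ← Ideal.Quotient.eq]
    exact (hφ h).trans hx
  have hsurj : Function.Surjective (algebraMap H B) := surjective_of_quotient_surjective hT hmod
  refine ⟨φ, hsurj, ker_fg_of_surjective hT hsurj, fun n => ?_⟩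
  rcases Nat.eq_zero_or_pos n with rfl | hn
  · simp [Ideal.map_top]
  let K := (I ^ n).map (algebraMap A H)
  have hE : (I ^ n).map (algebraMap A (H ⧸ K)) = ⊥ := by
    rw [IsScalarTower.algebraMap_eq A H (H ⧸ K), ← Ideal.map_map]
    exact Ideal.map_quotient_self K
  have hJ1 : K ≤ I.map (algebraMap A H) := Ideal.map_mono (Ideal.pow_le_self hn.ne')
  let p : (H ⧸ K) →ₐ[A] H ⧸ I.map (algebraMap A H) :=
    { toRingHom := Ideal.Quotient.factor hJ1, commutes' := fun a => rfl }
  have hp : Function.Surjective p := Ideal.Quotient.factor_surjective hJ1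
  have hnil : IsNilpotent (RingHom.ker (p : (H ⧸ K) →+* H ⧸ I.map (algebraMap A H))) := ⟨n, by
    show RingHom.ker (Ideal.Quotient.factor hJ1) ^ n = 0
    rw [Ideal.Quotient.factor_ker, ← Ideal.map_pow, ← Ideal.map_pow]
    exact Ideal.map_quotient_self K⟩
  have hC : (I ^ n).map (algebraMap A (H ⧸ I.map (algebraMap A H))) = ⊥ := by
    rw [IsScalarTower.algebraMap_eq A H (H ⧸ I.map (algebraMap A H)), ← Ideal.map_map, Ideal.Quotient.algebraMap_eq,
      Ideal.map_eq_bot_iff_le_ker, Ideal.mk_ker]
    exact hJ1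
  haveI := het n hn
  obtain ⟨v, hv⟩ := exists_lift_of_formallySmooth hE hC p hp hnil (χ.symm.toAlgHom.comp (Ideal.Quotient.mkₐ A _))
  intro x hx
  refine mem_of_reduction_id (v.comp φ) (fun h => ?_) x (by rw [AlgHom.comp_apply, show φ x = 0 from hx, map_zero])
  have h1 : p (v (φ h) - Ideal.Quotient.mk K h) = 0 := by
    rw [map_sub, sub_eq_zero, show p (v (φ h)) = χ.symm (Ideal.Quotient.mk _ (φ h)) from AlgHom.congr_fun hv (φ h), hφ h]
    exact χ.symm_apply_apply _
  have h2 : RingHom.ker (Ideal.Quotient.factor hJ1) = (I.map (algebraMap A H)).map (Ideal.Quotient.mk K) :=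
    Ideal.Quotient.factor_ker _
  rw [← h2]
  exact h1

end PairHensLib
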