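import Groth.Agent.HenselLib.Local
import Groth.Agent.HenselLib.Perm
import Mathlib.RingTheory.Henselian
import Mathlib.RingTheory.Localization.Basic
import Mathlib.RingTheory.MvPolynomial.Basic
import Mathlib.Algebra.Polynomial.Identities
import Mathlib.Tactic.LinearCombination
import Mathlib.RingTheory.Localization.AtPrime.Basic
import Mathlib.RingTheory.Localization.Algebra
import Mathlib.RingTheory.Ideal.Quotient.Operations

/-! One step in the construction of henselizations of pairs: adjoining all simple roots. -/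

set_option autoImplicit false
universe u

noncomputable section

namespace PairHensLib

namespace Step

variable {A : Type u} [CommRing A] {Ω : Type u} [CommRing Ω] (θ : A →+* Ω)

/-- The index type: simple roots in `Ω` of monic polynomials over `A`. -/
def Idx : Type u :=
  {p : Polynomial A × Ω // p.1.Monic ∧ p.1.eval₂ θ p.2 = 0 ∧ IsUnit (p.1.derivative.eval₂ θ p.2)}

/-- The defining relation of a variable. -/
def rel (i : Idx θ) : MvPolynomial (Idx θ) A := Polynomial.aeval (MvPolynomial.X i) i.1.1

/-- All roots adjoined. -/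
def Pre : Type u := MvPolynomial (Idx θ) A ⧸ Ideal.span (Set.range (rel θ))

instance : CommRing (Pre θ) := Ideal.Quotient.commRing (Ideal.span (Set.range (rel θ)))

instance instAlgebraPre {R : Type*} [CommSemiring R] [Algebra R A] : Algebra R (Pre θ) :=
  Ideal.Quotient.algebra R (I := Ideal.span (Set.range (rel θ)))

instance instTowerPre {R : Type*} [CommSemiring R] [Algebra R A] : IsScalarTower R A (Pre θ) :=
  Ideal.Quotient.isScalarTower R A (Ideal.span (Set.range (rel θ)))

/-- The quotient map. -/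
def mkPre : MvPolynomial (Idx θ) A →ₐ[A] Pre θ := Ideal.Quotient.mkₐ A (Ideal.span (Set.range (rel θ)))

theorem mkPre_surjective : Function.Surjective (mkPre θ) := Ideal.Quotient.mk_surjective

theorem mkPre_rel (i : Idx θ) : mkPre θ (rel θ i) = 0 :=
  Ideal.Quotient.eq_zero_iff_mem.2 (Ideal.subset_span (Set.mem_range_self i))

/-- Evaluation at the chosen roots. -/
def preθ : Pre θ →+* Ω :=
  Ideal.Quotient.lift _ (MvPolynomial.eval₂Hom θ (fun i => i.1.2)) fun x hx => by
    have : Ideal.span (Set.range (rel θ)) ≤ RingHom.ker (MvPolynomial.eval₂Hom θ (fun i : Idx θ => i.1.2)) := by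
      rw [Ideal.span_le]
      rintro _ ⟨i, rfl⟩
      show MvPolynomial.eval₂Hom θ (fun i : Idx θ => i.1.2) (rel θ i) = 0
      rw [rel, Polynomial.aeval_def, Polynomial.hom_eval₂, MvPolynomial.eval₂Hom_X',
        show (MvPolynomial.eval₂Hom θ (fun i : Idx θ => i.1.2)).comp (algebraMap A _) = θ from
          RingHom.ext fun a => MvPolynomial.eval₂Hom_C _ _ a]
      exact i.2.2.1
    exact this hx

/-- The elements with invertible value. -/
def unitPre : Submonoid (Pre θ) where
  carrier := {t | IsUnit (preθ θ t)}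
  one_mem' := by simp
  mul_mem' {a b} ha hb := by simpa using ha.mul hb

/-- The next ring. -/
abbrev Next : Type u := Localization (unitPre θ)

/-- The map to `Ω`. -/
def nextθ : Next θ →+* Ω :=
  IsLocalization.lift (M := unitPre θ) (S := Next θ) (g := preθ θ) fun t => t.2

theorem nextθ_algebraMap (t : Pre θ) : nextθ θ (algebraMap (Pre θ) (Next θ) t) = preθ θ t :=
  IsLocalization.lift_eq (M := unitPre θ) (S := Next θ) _ _

theorem nextθ_comp : (nextθ θ).comp (algebraMap A (Next θ)) = θ := by
  ext a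
  rw [RingHom.comp_apply, IsScalarTower.algebraMap_apply A (Pre θ) (Next θ), nextθ_algebraMap]
  exact MvPolynomial.eval₂Hom_C _ _ a

theorem nextθ_surjective (hsurj : Function.Surjective θ) : Function.Surjective (nextθ θ) := fun w => by
  obtain ⟨a, rfl⟩ := hsurj w
  exact ⟨algebraMap A (Next θ) a, RingHom.congr_fun (nextθ_comp θ) a⟩

theorem isUnit_of_isUnit_nextθ {x : Next θ} (hx : IsUnit (nextθ θ x)) : IsUnit x := by
  obtain ⟨t, s, rfl⟩ := IsLocalization.exists_mk'_eq (unitPre θ) x
  have ht : t ∈ unitPre θ := by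
    have h1 := congrArg (nextθ θ) (IsLocalization.mk'_spec (Next θ) t s)
    rw [map_mul, nextθ_algebraMap, nextθ_algebraMap] at h1
    show IsUnit (preθ θ t)
    exact h1 ▸ hx.mul s.2
  refine isUnit_of_mul_isUnit_left (y := algebraMap (Pre θ) (Next θ) s) ?_
  rw [IsLocalization.mk'_spec]
  exact IsLocalization.map_units (Next θ) (⟨t, ht⟩ : unitPre θ)

/-- The adjoined root. -/
def root (i : Idx θ) : Next θ := algebraMap (Pre θ) (Next θ) (mkPre θ (MvPolynomial.X i))

theorem nextθ_root (i : Idx θ) : nextθ θ (root θ i) = i.1.2 := by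
  rw [root, nextθ_algebraMap]
  exact MvPolynomial.eval₂Hom_X' _ _ i

/-- The quotient map to the next stage. -/
def π : MvPolynomial (Idx θ) A →ₐ[A] Next θ :=
  (IsScalarTower.toAlgHom A (Pre θ) (Next θ)).comp (mkPre θ)

theorem π_X (i : Idx θ) : π θ (MvPolynomial.X i) = root θ i := rfl

theorem π_rel (i : Idx θ) : π θ (rel θ i) = 0 := by
  show algebraMap (Pre θ) (Next θ) (mkPre θ (rel θ i)) = 0
  rw [mkPre_rel, map_zero]

theorem aeval_root (i : Idx θ) : Polynomial.aeval (root θ i) i.1.1 = 0 := by
  rw [← π_X, Polynomial.aeval_algHom_apply]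
  exact π_rel θ i

theorem isUnit_derivative_root (i : Idx θ) : IsUnit (Polynomial.aeval (root θ i) i.1.1.derivative) := by
  refine isUnit_of_isUnit_nextθ θ ?_
  rw [Polynomial.aeval_def, Polynomial.hom_eval₂, nextθ_comp, nextθ_root]
  exact i.2.2.2

theorem root_sub_mem (i : Idx θ) (a : A) (ha : θ a = i.1.2) :
    root θ i - algebraMap A (Next θ) a ∈ (RingHom.ker θ).map (algebraMap A (Next θ)) := by
  set y := root θ i - algebraMap A (Next θ) a with hy
  obtain ⟨k, hk⟩ := Polynomial.binomExpansion (i.1.1.map (algebraMap A (Next θ))) (algebraMap A (Next θ) a) y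
  rw [hy, add_sub_cancel, ← hy, Polynomial.eval_map, ← Polynomial.aeval_def, aeval_root,
    Polynomial.derivative_map, Polynomial.eval_map, Polynomial.eval₂_at_apply, Polynomial.eval_map,
    Polynomial.eval₂_at_apply] at hk
  have hu : IsUnit (algebraMap A (Next θ) (i.1.1.derivative.eval a) + k * y) := by
    refine isUnit_of_isUnit_nextθ θ ?_
    have h0 : nextθ θ y = 0 := by
      rw [hy, map_sub, nextθ_root, ← RingHom.comp_apply, nextθ_comp, ha, sub_self]
    rw [map_add, map_mul, h0, mul_zero, add_zero, ← RingHom.comp_apply, nextθ_comp, ← Polynomial.eval₂_at_apply θ, ha]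
    exact i.2.2.2
  have hmem : algebraMap A (Next θ) (i.1.1.eval a) ∈ (RingHom.ker θ).map (algebraMap A (Next θ)) := by
    refine Ideal.mem_map_of_mem _ ?_
    rw [RingHom.mem_ker, ← Polynomial.eval₂_at_apply θ, ha]
    exact i.2.2.1
  obtain ⟨v, hv⟩ := hu
  have : y = -(algebraMap A (Next θ) (i.1.1.eval a)) * ↑v⁻¹ := by
    rw [Units.eq_mul_inv_iff_mul_eq, hv]
    linear_combination -hk
  rw [this]
  exact Ideal.mul_mem_right _ _ (neg_mem hmem)

theorem ker_nextθ (hsurj : Function.Surjective θ) :
    RingHom.ker (nextθ θ) = (RingHom.ker θ).map (algebraMap A (Next θ)) := by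
  refine le_antisymm (fun x hx => ?_) (Ideal.map_le_iff_le_comap.2 fun a ha => ?_)
  · let K := (RingHom.ker θ).map (algebraMap A (Next θ))
    choose s hs using hsurj
    have key : ∀ P : MvPolynomial (Idx θ) A, π θ P - algebraMap A (Next θ) (MvPolynomial.eval (fun i => s i.1.2) P) ∈ K := by
      intro P
      have e : (Ideal.Quotient.mk K).comp (π θ).toRingHom =
          ((Ideal.Quotient.mk K).comp (algebraMap A (Next θ))).comp (MvPolynomial.eval fun i : Idx θ => s i.1.2) := by
        refine MvPolynomial.ringHom_ext (fun r => ?_) (fun i => ?_)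
        · simp [← MvPolynomial.algebraMap_eq]
        · simp only [RingHom.comp_apply, RingHom.coe_coe, π_X, MvPolynomial.eval_X, Ideal.Quotient.eq]
          exact root_sub_mem θ i _ (hs _)
      exact Ideal.Quotient.eq.1 (RingHom.congr_fun e P)
    obtain ⟨t, w, rfl⟩ := IsLocalization.exists_mk'_eq (unitPre θ) x
    obtain ⟨P, rfl⟩ := mkPre_surjective θ t
    have h1 := congrArg (nextθ θ) (IsLocalization.mk'_spec (Next θ) (mkPre θ P) w)
    rw [map_mul, RingHom.mem_ker.1 hx, zero_mul] at h1
    have hπ : π θ P ∈ K := by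
      have h2 : nextθ θ (π θ P) = 0 := h1.symm
      have h3 := key P
      have h4 : nextθ θ (π θ P - algebraMap A (Next θ) (MvPolynomial.eval (fun i => s i.1.2) P)) = 0 := by
        have hle : K ≤ RingHom.ker (nextθ θ) := Ideal.map_le_iff_le_comap.2 fun a ha => by
          rw [Ideal.mem_comap, RingHom.mem_ker, ← RingHom.comp_apply, nextθ_comp]; exact ha
        exact hle h3
      rw [map_sub, h2, zero_sub, neg_eq_zero, ← RingHom.comp_apply, nextθ_comp] at h4
      exact (Submodule.sub_mem_iff_left K (Ideal.mem_map_of_mem _ h4)).1 h3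
    rw [IsLocalization.mk'_eq_mul_mk'_one]
    exact Ideal.mul_mem_right _ _ hπ
  · rw [Ideal.mem_comap, RingHom.mem_ker, ← RingHom.comp_apply, nextθ_comp]; exact ha

/-- Lifting one stage to a Henselian pair. -/
theorem existsUnique_lift_pair {T : Type u} [CommRing T] {J : Ideal T} [HenselianRing T J] (g : A →+* T)
    (τ : Ω →+* T ⧸ J) (hg : (Ideal.Quotient.mk J).comp g = τ.comp θ) :
    ∃! g' : Next θ →+* T, g'.comp (algebraMap A (Next θ)) = g ∧
      (Ideal.Quotient.mk J).comp g' = τ.comp (nextθ θ) := by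
  classical
  have hres : ∀ (F : Polynomial A) (c : T) (a : Ω), Ideal.Quotient.mk J c = τ a →
      Ideal.Quotient.mk J (F.eval₂ g c) = τ (F.eval₂ θ a) := fun F c a h => by
    rw [Polynomial.hom_eval₂, hg, Polynomial.hom_eval₂ F θ τ a, h]
  have hex : ∀ i : Idx θ, ∃ c : T, i.1.1.eval₂ g c = 0 ∧ Ideal.Quotient.mk J c = τ i.1.2 := fun i => by
    obtain ⟨c₀, hc₀⟩ := Ideal.Quotient.mk_surjective (τ i.1.2)
    obtain ⟨c, hc, hc'⟩ := HenselianRing.is_henselian (I := J) (i.1.1.map g) (i.2.1.map g) c₀
      (by rw [← Ideal.Quotient.eq_zero_iff_mem, Polynomial.eval_map, hres _ _ _ hc₀, i.2.2.1, map_zero])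
      (by
        rw [Polynomial.derivative_map, Polynomial.eval_map, hres _ _ _ hc₀]
        exact i.2.2.2.map τ)
    exact ⟨c, by rw [← Polynomial.eval_map]; exact hc,
      by rw [← hc₀, ← sub_eq_zero, ← map_sub, Ideal.Quotient.eq_zero_iff_mem]; exact hc'⟩
  choose c hc hcres using hex
  let φ := MvPolynomial.eval₂Hom g c
  let gp : Pre θ →+* T := Ideal.Quotient.lift _ φ fun x hx => by
    have : Ideal.span (Set.range (rel θ)) ≤ RingHom.ker φ := by
      rw [Ideal.span_le]
      rintro _ ⟨i, rfl⟩
      show φ (rel θ i) = 0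
      rw [rel, Polynomial.aeval_def, Polynomial.hom_eval₂, MvPolynomial.eval₂Hom_X',
        show φ.comp (algebraMap A _) = g from RingHom.ext fun a => MvPolynomial.eval₂Hom_C _ _ a]
      exact hc i
    exact this hx
  have hgp : (Ideal.Quotient.mk J).comp gp = τ.comp (preθ θ) := by
    refine Ideal.Quotient.ringHom_ext (MvPolynomial.ringHom_ext (fun a => ?_) fun i => ?_)
    · show Ideal.Quotient.mk J (φ (MvPolynomial.C a)) = τ (MvPolynomial.eval₂Hom θ (fun i : Idx θ => i.1.2) (MvPolynomial.C a))
      rw [MvPolynomial.eval₂Hom_C, MvPolynomial.eval₂Hom_C]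
      exact RingHom.congr_fun hg a
    · show Ideal.Quotient.mk J (φ (MvPolynomial.X i)) = τ (MvPolynomial.eval₂Hom θ (fun i : Idx θ => i.1.2) (MvPolynomial.X i))
      rw [MvPolynomial.eval₂Hom_X', MvPolynomial.eval₂Hom_X']
      exact hcres i
  let g' : Next θ →+* T := IsLocalization.lift (M := unitPre θ) (S := Next θ) (g := gp) fun t => by
    have ht : IsUnit (preθ θ (t : Pre θ)) := t.2
    obtain ⟨w, hw⟩ := Ideal.Quotient.mk_surjective (I := J) (τ ↑ht.unit⁻¹)
    refine isUnit_of_mul_isUnit_left (y := w) (HenselLib.isUnit_of_sub_mem (HenselianRing.jac (I := J)) isUnit_one ?_)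
    rw [← Ideal.Quotient.eq, map_mul, ← RingHom.comp_apply, hgp, RingHom.comp_apply, hw, ← map_mul, map_one,
      IsUnit.mul_val_inv, map_one]
  have hg'π : ∀ P, g' (π θ P) = φ P := fun P => IsLocalization.lift_eq _ _
  have h1 : g'.comp (algebraMap A (Next θ)) = g := by
    ext a
    rw [RingHom.comp_apply, ← (π θ).commutes a, hg'π]
    exact MvPolynomial.eval₂Hom_C _ _ a
  refine ⟨g', ⟨h1, IsLocalization.ringHom_ext (S := Next θ) (unitPre θ) ?_⟩, fun g'' ⟨h2, h3⟩ => ?_⟩
  · refine RingHom.ext fun t => ?_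
    simp only [RingHom.comp_apply]
    rw [show g' (algebraMap (Pre θ) (Next θ) t) = gp t from IsLocalization.lift_eq _ _, nextθ_algebraMap]
    exact RingHom.congr_fun hgp t
  · refine IsLocalization.ringHom_ext (S := Next θ) (unitPre θ) (Ideal.Quotient.ringHom_ext
      (MvPolynomial.ringHom_ext (fun a => ?_) fun i => ?_))
    · exact ((RingHom.congr_fun h2 a).trans (RingHom.congr_fun h1 a).symm)
    · show g'' (root θ i) = g' (root θ i)
      rw [show g' (root θ i) = c i from (hg'π _).trans (MvPolynomial.eval₂Hom_X' _ _ _)]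
      have hroot : i.1.1.eval₂ g (g'' (root θ i)) = 0 := by
        rw [← h2, ← Polynomial.hom_eval₂, ← Polynomial.aeval_def, aeval_root, map_zero]
      have hr : Ideal.Quotient.mk J (g'' (root θ i)) = τ i.1.2 :=
        (RingHom.congr_fun h3 (root θ i)).trans (congrArg τ (nextθ_root θ i))
      refine HenselLib.root_eq_of_sub_mem (I := J) (HenselianRing.jac (I := J))
        (f := i.1.1.map g) (by rw [Polynomial.IsRoot, Polynomial.eval_map]; exact hroot)
        (by rw [Polynomial.IsRoot, Polynomial.eval_map]; exact hc i) ?_ ?_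
      · rw [Polynomial.derivative_map, Polynomial.eval_map, hres _ _ _ hr]
        exact i.2.2.2.map τ
      · rw [← Ideal.Quotient.eq_zero_iff_mem, map_sub, hr, hcres i, sub_self]

end Step

end PairHensLib
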