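import Groth.Agent.PairHensLib.HEtale
import Groth.Agent.PairHensLib.Hfp
import Groth.Agent.HenselLib.Perm
import Groth.Agent.PairHensLib.Formal

/-! Kernels of surjections between henselian finitely presented algebras. -/

set_option autoImplicit false
set_option maxHeartbeats 1000000
universe u

noncomputable section

namespace PairHensLib

variable {H B : Type u} [CommRing H] [CommRing B] [Algebra H B] {J : Ideal H}

theorem ker_fg_of_surjective [HenselianRing H J] {T : Type u} [CommRing T] [Algebra H T] [Algebra.FinitePresentation H T]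
    [Algebra T B] [IsScalarTower H T B] (hT : Hens2.IsPairHenselization T (J.map (algebraMap H T)) B)
    (hφ : Function.Surjective (algebraMap H B)) : (RingHom.ker (algebraMap H B)).FG := by
  classical
  obtain ⟨n, π, hπ⟩ := Algebra.FiniteType.iff_quotient_mvPolynomial''.1 (inferInstance : Algebra.FiniteType H T)
  let ι := IsScalarTower.toAlgHom H T B
  choose h hh using fun i : Fin n => hφ (ι (π (MvPolynomial.X i)))
  let q : MvPolynomial (Fin n) H →ₐ[H] H := MvPolynomial.aeval h
  have hq : ∀ p, algebraMap H B (q p) = ι (π p) := fun p => by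
    exact AlgHom.congr_fun (MvPolynomial.algHom_ext (f := (Algebra.ofId H B).comp q) (g := ι.comp π)
      fun i => by simpa [q] using hh i) p
  -- relations: the kernel of `π` maps into the candidate ideal
  let K : Ideal H := (RingHom.ker π).map (q : MvPolynomial (Fin n) H →+* H)
  have hK : K ≤ RingHom.ker (algebraMap H B) := Ideal.map_le_iff_le_comap.2 fun p hp => by
    show algebraMap H B (q p) = 0
    rw [hq, show π p = 0 from hp, map_zero]
  let ψ : T →+* H ⧸ K := RingHom.liftOfSurjective π.toRingHom hπ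
    ⟨(Ideal.Quotient.mk K).comp (q : MvPolynomial (Fin n) H →+* H), fun p hp =>
      Ideal.Quotient.eq_zero_iff_mem.2 (Ideal.mem_map_of_mem _ hp)⟩
  have hψ : ∀ p, ψ (π p) = Ideal.Quotient.mk K (q p) := fun p =>
    RingHom.liftOfSurjective_comp_apply π.toRingHom hπ _ p
  haveI hQ : HenselianRing (H ⧸ K) (J.map (Ideal.Quotient.mk K)) := HenselLib.henselianRing_map_of_isIntegral
  have hψJ : (J.map (algebraMap H T)).map ψ ≤ J.map (Ideal.Quotient.mk K) := by
    rw [Ideal.map_map]
    refine le_of_eq (congrArg (fun f => J.map f) (RingHom.ext fun c => ?_))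
    show ψ (algebraMap H T c) = _
    rw [← π.commutes, hψ, MvPolynomial.algebraMap_eq]
    simp [q]
  obtain ⟨g, hg, -⟩ := hT.2 (H ⧸ K) _ ψ hQ hψJ
  have hker : RingHom.ker (algebraMap H B) = K := by
    refine le_antisymm (fun x hx => ?_) hK
    have h1 : g (algebraMap H B x) = Ideal.Quotient.mk K x := by
      rw [IsScalarTower.algebraMap_apply H T B, ← RingHom.comp_apply g, hg, ← π.commutes, hψ, MvPolynomial.algebraMap_eq]
      simp [q]
    rw [show algebraMap H B x = 0 from hx, map_zero] at h1
    exact Ideal.Quotient.eq_zero_iff_mem.1 h1.symm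
  rw [hker]
  exact (Algebra.FinitePresentation.ker_fg_of_mvPolynomial π hπ).map _

section Etale

variable {A R₀ B : Type u} [CommRing A] [CommRing R₀] [CommRing B] [Algebra A R₀] [Algebra R₀ B] [Algebra A B]
  [IsScalarTower A R₀ B] {I : Ideal A}

/-- An h-finitely presented algebra with etale truncations is a quotient of an h-etale one. -/
theorem exists_etale_surjection [HenselianRing A I] [Algebra.FinitePresentation A R₀]
    (hB : Hens2.IsPairHenselization R₀ (I.map (algebraMap A R₀)) B)
    (het : ∀ r : ℕ, 1 ≤ r → Algebra.Etale (A ⧸ I ^ r) (B ⧸ (I ^ r).map (algebraMap A B)))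
    {R : Type u} [CommRing R] [Algebra A R] [Algebra.Etale A R] {H : Type u} [CommRing H] [Algebra R H] [Algebra A H]
    [IsScalarTower A R H] (hH : Hens2.IsPairHenselization R (I.map (algebraMap A R)) H)
    (χ : (H ⧸ I.map (algebraMap A H)) ≃ₐ[A] B ⧸ I.map (algebraMap A B)) :
    ∃ φ : H →ₐ[A] B, Function.Surjective φ ∧ (RingHom.ker φ).FG ∧
      ∀ n : ℕ, RingHom.ker φ ≤ (I ^ n).map (algebraMap A H) := by
  haveI := henselianRing_tower hB
  haveI := henselianRing_tower hH
  obtain ⟨φ, hφ⟩ := exists_algHom_reduction hH le_rfl χ.toAlgHom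
  letI : Algebra H B := φ.toRingHom.toAlgebra
  haveI : IsScalarTower A H B := IsScalarTower.of_algebraMap_eq fun a => (φ.commutes a).symm
  obtain ⟨T, _, _, _, _, hTfp, hT⟩ := hfp_between hH hB
  have hmod : Function.Surjective (Ideal.quotientMap ((I.map (algebraMap A H)).map (algebraMap H B))
      (algebraMap H B) Ideal.le_comap_map) := fun z => by
    obtain ⟨b, rfl⟩ := Ideal.Quotient.mk_surjective z
    obtain ⟨x, hx⟩ := χ.surjective (Ideal.Quotient.mk _ b)
    obtain ⟨h, rfl⟩ := Ideal.Quotient.mk_surjective x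
    refine ⟨Ideal.Quotient.mk _ h, ?_⟩
    rw [Ideal.quotientMap_mk, Ideal.Quotient.eq, Ideal.map_map, ← IsScalarTower.algebraMap_eq, ← Ideal.Quotient.eq]
    exact (hφ h).trans hx
  have hsurj : Function.Surjective (algebraMap H B) := surjective_of_quotient_surjective hT hmod
  refine ⟨φ, hsurj, ker_fg_of_surjective hT hsurj, fun n => ?_⟩
  rcases Nat.eq_zero_or_pos n with rfl | hn
  · simp [Ideal.map_top]
  let J := (I ^ n).map (algebraMap A H)
  have hE : (I ^ n).map (algebraMap A (H ⧸ J)) = ⊥ := by
    rw [IsScalarTower.algebraMap_eq A H (H ⧸ J), ← Ideal.map_map]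
    exact Ideal.map_quotient_self J
  have hJ1 : J ≤ I.map (algebraMap A H) := Ideal.map_mono (Ideal.pow_le_self hn.ne')
  let p : (H ⧸ J) →ₐ[A] H ⧸ I.map (algebraMap A H) :=
    { toRingHom := Ideal.Quotient.factor hJ1, commutes' := fun a => rfl }
  have hp : Function.Surjective p := Ideal.Quotient.factor_surjective hJ1
  have hnil : IsNilpotent (RingHom.ker (p : (H ⧸ J) →+* H ⧸ I.map (algebraMap A H))) := ⟨n, by
    show RingHom.ker (Ideal.Quotient.factor hJ1) ^ n = 0
    rw [Ideal.Quotient.factor_ker, ← Ideal.map_pow, ← Ideal.map_pow]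
    exact Ideal.map_quotient_self J⟩
  have hC : (I ^ n).map (algebraMap A (H ⧸ I.map (algebraMap A H))) = ⊥ := by
    rw [IsScalarTower.algebraMap_eq A H (H ⧸ I.map (algebraMap A H)), ← Ideal.map_map, Ideal.Quotient.algebraMap_eq,
      Ideal.map_eq_bot_iff_le_ker, Ideal.mk_ker]
    exact hJ1
  haveI := het n hn
  obtain ⟨v, hv⟩ := exists_lift_of_formallySmooth hE hC p hp hnil (χ.symm.toAlgHom.comp (Ideal.Quotient.mkₐ A _))
  haveI := (flat_and_etale hH).2 n
  have hid : v.comp φ = Ideal.Quotient.mkₐ A J := by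
    refine lift_unique_of_formallyUnramified hE p hnil _ _ (AlgHom.ext fun h => ?_)
    show p (v (φ h)) = p (Ideal.Quotient.mk J h)
    rw [show p (v (φ h)) = χ.symm (Ideal.Quotient.mk _ (φ h)) from AlgHom.congr_fun hv (φ h), hφ h]
    exact χ.symm_apply_apply _
  intro x hx
  have := AlgHom.congr_fun hid x
  rw [AlgHom.comp_apply, show φ x = 0 from hx, map_zero] at this
  exact Ideal.Quotient.eq_zero_iff_mem.1 this.symm

end Etale

end PairHensLib
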